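import Cfsg.Agent.EqLemmas

/-!
# The local ring of the algebraic integers at a maximal ideal above a prime

API for `Cfsg.MemLocalRing` (written "R" below) and `Cfsg.MemLocalIdeal` (written "I" below):
closure properties, primality, inverses, natural numbers, the radical of `p` and the divisibility
criterion for natural numbers.

Main results: `memR_add/mul/sum/pow/inv`, `memI_add/mul_left/mul/sum`, `memI_coe`, `memI_natCast`,
`memI_or_memI`, `exists_pow_memR_div`, `dvd_of_memR_div`.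
-/

set_option autoImplicit false

open scoped ComplexConjugate

namespace Cfsg.Agent.Blocks

open Cfsg

variable {p : ℕ} {M : Ideal AlgInt}

theorem pmod_isMaximal (hM : IsPModular p M) : M.IsMaximal := hM.2.1

theorem pmod_isPrime (hM : IsPModular p M) : M.IsPrime := hM.2.1.isPrime

theorem pmod_one_notMem (hM : IsPModular p M) : (1 : AlgInt) ∉ M := fun h =>
  hM.2.1.ne_top ((Ideal.eq_top_iff_one M).mpr h)

theorem pmod_ne_zero {b : AlgInt} (hb : b ∉ M) : (b : ℂ) ≠ 0 := by
  intro h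
  have hb0 : b = 0 := Subtype.ext h
  exact hb (hb0 ▸ M.zero_mem)

theorem pmod_mul_notMem (hM : IsPModular p M) {a b : AlgInt} (ha : a ∉ M) (hb : b ∉ M) :
    a * b ∉ M := fun h => ((pmod_isPrime hM).mem_or_mem h).elim ha hb

theorem memR_coe (hM : IsPModular p M) (a : AlgInt) : MemLocalRing M (a : ℂ) :=
  ⟨a, 1, pmod_one_notMem hM, by simp⟩

theorem memR_of_isIntegral (hM : IsPModular p M) {z : ℂ} (hz : IsIntegral ℤ z) :
    MemLocalRing M z := memR_coe hM ⟨z, hz⟩

theorem memR_natCast (hM : IsPModular p M) (n : ℕ) : MemLocalRing M (n : ℂ) := by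
  simpa using memR_coe hM (n : AlgInt)

theorem memR_intCast (hM : IsPModular p M) (n : ℤ) : MemLocalRing M (n : ℂ) := by
  simpa using memR_coe hM (n : AlgInt)

theorem memR_zero (hM : IsPModular p M) : MemLocalRing M 0 := by
  simpa using memR_natCast hM 0

theorem memR_one (hM : IsPModular p M) : MemLocalRing M 1 := by
  simpa using memR_natCast hM 1

theorem memR_add (hM : IsPModular p M) {x y : ℂ} (hx : MemLocalRing M x) (hy : MemLocalRing M y) :
    MemLocalRing M (x + y) := by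
  obtain ⟨a, b, hb, rfl⟩ := hx
  obtain ⟨c, d, hd, rfl⟩ := hy
  refine ⟨a * d + b * c, b * d, pmod_mul_notMem hM hb hd, ?_⟩
  rw [div_add_div _ _ (pmod_ne_zero hb) (pmod_ne_zero hd)]
  push_cast
  rfl

theorem memR_mul (hM : IsPModular p M) {x y : ℂ} (hx : MemLocalRing M x) (hy : MemLocalRing M y) :
    MemLocalRing M (x * y) := by
  obtain ⟨a, b, hb, rfl⟩ := hx
  obtain ⟨c, d, hd, rfl⟩ := hy
  refine ⟨a * c, b * d, pmod_mul_notMem hM hb hd, ?_⟩
  rw [div_mul_div_comm]
  push_cast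
  rfl

theorem memR_neg {x : ℂ} (hx : MemLocalRing M x) : MemLocalRing M (-x) := by
  obtain ⟨a, b, hb, rfl⟩ := hx
  exact ⟨-a, b, hb, by push_cast; ring⟩

theorem memR_sub (hM : IsPModular p M) {x y : ℂ} (hx : MemLocalRing M x) (hy : MemLocalRing M y) :
    MemLocalRing M (x - y) := by
  rw [sub_eq_add_neg]
  exact memR_add hM hx (memR_neg hy)

theorem memR_pow (hM : IsPModular p M) {x : ℂ} (hx : MemLocalRing M x) (n : ℕ) :
    MemLocalRing M (x ^ n) := by
  induction n with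
  | zero => simpa using memR_one hM
  | succ n ih => rw [pow_succ]; exact memR_mul hM ih hx

theorem memR_sum (hM : IsPModular p M) {ι : Type*} (s : Finset ι) {f : ι → ℂ}
    (h : ∀ i ∈ s, MemLocalRing M (f i)) : MemLocalRing M (∑ i ∈ s, f i) :=
  Finset.sum_induction f (MemLocalRing M) (fun _ _ => memR_add hM) (memR_zero hM) h

theorem memR_prod (hM : IsPModular p M) {ι : Type*} (s : Finset ι) {f : ι → ℂ}
    (h : ∀ i ∈ s, MemLocalRing M (f i)) : MemLocalRing M (∏ i ∈ s, f i) :=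
  Finset.prod_induction f (MemLocalRing M) (fun _ _ => memR_mul hM) (memR_one hM) h

theorem memR_finsum (hM : IsPModular p M) {ι : Type*} {s : Set ι} {f : ι → ℂ}
    (h : ∀ i ∈ s, MemLocalRing M (f i)) : MemLocalRing M (∑ᶠ i ∈ s, f i) :=
  finsum_mem_induction (MemLocalRing M) (memR_zero hM) (fun _ _ => memR_add hM) h

theorem memR_of_memI {x : ℂ} (hx : MemLocalIdeal M x) : MemLocalRing M x := by
  obtain ⟨a, b, _, hb, rfl⟩ := hx
  exact ⟨a, b, hb, rfl⟩

theorem memI_zero (hM : IsPModular p M) : MemLocalIdeal M 0 :=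
  ⟨0, 1, M.zero_mem, pmod_one_notMem hM, by simp⟩

theorem memI_add (hM : IsPModular p M) {x y : ℂ} (hx : MemLocalIdeal M x)
    (hy : MemLocalIdeal M y) : MemLocalIdeal M (x + y) := by
  obtain ⟨a, b, ha, hb, rfl⟩ := hx
  obtain ⟨c, d, hc, hd, rfl⟩ := hy
  refine ⟨a * d + b * c, b * d, M.add_mem (M.mul_mem_right _ ha) (M.mul_mem_left _ hc),
    pmod_mul_notMem hM hb hd, ?_⟩
  rw [div_add_div _ _ (pmod_ne_zero hb) (pmod_ne_zero hd)]
  push_cast
  rfl

theorem memI_mul_left (hM : IsPModular p M) {x y : ℂ} (hx : MemLocalRing M x)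
    (hy : MemLocalIdeal M y) : MemLocalIdeal M (x * y) := by
  obtain ⟨a, b, hb, rfl⟩ := hx
  obtain ⟨c, d, hc, hd, rfl⟩ := hy
  refine ⟨a * c, b * d, M.mul_mem_left _ hc, pmod_mul_notMem hM hb hd, ?_⟩
  rw [div_mul_div_comm]
  push_cast
  rfl

theorem memI_mul_right (hM : IsPModular p M) {x y : ℂ} (hx : MemLocalIdeal M x)
    (hy : MemLocalRing M y) : MemLocalIdeal M (x * y) := by
  rw [mul_comm]
  exact memI_mul_left hM hy hx

theorem memI_neg {x : ℂ} (hx : MemLocalIdeal M x) : MemLocalIdeal M (-x) := by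
  obtain ⟨a, b, ha, hb, rfl⟩ := hx
  exact ⟨-a, b, M.neg_mem ha, hb, by push_cast; ring⟩

theorem memI_sub (hM : IsPModular p M) {x y : ℂ} (hx : MemLocalIdeal M x)
    (hy : MemLocalIdeal M y) : MemLocalIdeal M (x - y) := by
  rw [sub_eq_add_neg]
  exact memI_add hM hx (memI_neg hy)

theorem memI_sub_comm {x y : ℂ} (hx : MemLocalIdeal M (x - y)) : MemLocalIdeal M (y - x) := by
  rw [← neg_sub]
  exact memI_neg hx

theorem memI_sub_trans (hM : IsPModular p M) {x y z : ℂ} (hxy : MemLocalIdeal M (x - y))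
    (hyz : MemLocalIdeal M (y - z)) : MemLocalIdeal M (x - z) := by
  rw [← sub_add_sub_cancel x y z]
  exact memI_add hM hxy hyz

theorem memI_iff_of_sub (hM : IsPModular p M) {x y : ℂ} (h : MemLocalIdeal M (x - y)) :
    MemLocalIdeal M x ↔ MemLocalIdeal M y := by
  constructor
  · intro hx
    simpa using memI_sub hM hx h
  · intro hy
    simpa using memI_add hM h hy

theorem memI_sum (hM : IsPModular p M) {ι : Type*} (s : Finset ι) {f : ι → ℂ}
    (h : ∀ i ∈ s, MemLocalIdeal M (f i)) : MemLocalIdeal M (∑ i ∈ s, f i) :=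
  Finset.sum_induction f (MemLocalIdeal M) (fun _ _ => memI_add hM) (memI_zero hM) h

theorem memI_finsum (hM : IsPModular p M) {ι : Type*} {s : Set ι} {f : ι → ℂ}
    (h : ∀ i ∈ s, MemLocalIdeal M (f i)) : MemLocalIdeal M (∑ᶠ i ∈ s, f i) :=
  finsum_mem_induction (MemLocalIdeal M) (memI_zero hM) (fun _ _ => memI_add hM) h

theorem memI_coe (hM : IsPModular p M) {a : AlgInt} : MemLocalIdeal M (a : ℂ) ↔ a ∈ M := by
  constructor
  · rintro ⟨c, d, hc, hd, h⟩
    rw [div_eq_iff (pmod_ne_zero hd)] at h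
    have hcd : c = a * d := Subtype.ext (by simpa using h)
    exact ((pmod_isPrime hM).mem_or_mem (hcd ▸ hc)).resolve_right hd
  · exact fun ha => ⟨a, 1, ha, pmod_one_notMem hM, by simp⟩

theorem not_memI_one (hM : IsPModular p M) : ¬ MemLocalIdeal M 1 := by
  intro h
  exact pmod_one_notMem hM ((memI_coe hM (a := 1)).mp (by simpa using h))

theorem memI_or_memI (hM : IsPModular p M) {x y : ℂ} (hx : MemLocalRing M x)
    (hy : MemLocalRing M y) (h : MemLocalIdeal M (x * y)) :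
    MemLocalIdeal M x ∨ MemLocalIdeal M y := by
  obtain ⟨a, b, hb, rfl⟩ := hx
  obtain ⟨c, d, hd, rfl⟩ := hy
  obtain ⟨e, f, he, hf, h⟩ := h
  rw [div_mul_div_comm, div_eq_div_iff (pmod_ne_zero hf)
    (mul_ne_zero (pmod_ne_zero hb) (pmod_ne_zero hd))] at h
  have h2 : e * (b * d) = a * c * f := Subtype.ext (by simpa using h)
  have h3 : a * c * f ∈ M := h2 ▸ M.mul_mem_right _ he
  rcases (pmod_isPrime hM).mem_or_mem h3 with h4 | h4
  · rcases (pmod_isPrime hM).mem_or_mem h4 with h5 | h5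
    · exact Or.inl ⟨a, b, h5, hb, rfl⟩
    · exact Or.inr ⟨c, d, h5, hd, rfl⟩
  · exact absurd h4 hf

theorem not_memI_mul (hM : IsPModular p M) {x y : ℂ} (hx : MemLocalRing M x)
    (hy : MemLocalRing M y) (hx' : ¬ MemLocalIdeal M x) (hy' : ¬ MemLocalIdeal M y) :
    ¬ MemLocalIdeal M (x * y) := fun h => (memI_or_memI hM hx hy h).elim hx' hy'

theorem not_memI_pow (hM : IsPModular p M) {x : ℂ} (hx : MemLocalRing M x)
    (hx' : ¬ MemLocalIdeal M x) (n : ℕ) : ¬ MemLocalIdeal M (x ^ n) := by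
  induction n with
  | zero => simpa using not_memI_one hM
  | succ n ih => rw [pow_succ]; exact not_memI_mul hM (memR_pow hM hx n) hx ih hx'

theorem memI_pow (hM : IsPModular p M) {x : ℂ} (hx : MemLocalIdeal M x) {n : ℕ} (hn : n ≠ 0) :
    MemLocalIdeal M (x ^ n) := by
  obtain ⟨m, rfl⟩ := Nat.exists_eq_succ_of_ne_zero hn
  rw [pow_succ]
  exact memI_mul_left hM (memR_pow hM (memR_of_memI hx) m) hx

theorem memI_of_pow (hM : IsPModular p M) {x : ℂ} (hx : MemLocalRing M x) {n : ℕ}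
    (h : MemLocalIdeal M (x ^ n)) : MemLocalIdeal M x :=
  by_contra fun h' => not_memI_pow hM hx h' n h

theorem memR_inv (hM : IsPModular p M) {x : ℂ} (hx : MemLocalRing M x)
    (hx' : ¬ MemLocalIdeal M x) : MemLocalRing M x⁻¹ := by
  obtain ⟨a, b, hb, rfl⟩ := hx
  exact ⟨b, a, fun ha => hx' ⟨a, b, ha, hb, rfl⟩, by rw [inv_div]⟩

theorem ne_zero_of_not_memI (hM : IsPModular p M) {x : ℂ} (hx : ¬ MemLocalIdeal M x) : x ≠ 0 :=
  fun h => hx (h ▸ memI_zero hM)

theorem memI_p (hM : IsPModular p M) : MemLocalIdeal M (p : ℂ) := by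
  simpa using (memI_coe hM).mpr hM.2.2

theorem memI_natCast (hM : IsPModular p M) {n : ℕ} : MemLocalIdeal M (n : ℂ) ↔ p ∣ n := by
  constructor
  · intro h
    by_contra hpn
    have hco : Nat.Coprime p n := hM.1.coprime_iff_not_dvd.mpr hpn
    have hb : (Nat.gcdA p n : ℂ) * p + (Nat.gcdB p n : ℂ) * n = 1 := by
      have h1 := Nat.gcd_eq_gcd_ab p n
      rw [hco.gcd_eq_one] at h1
      have h2 := congrArg (fun z : ℤ => (z : ℂ)) h1
      push_cast at h2
      rw [h2]; ring
    exact not_memI_one hM (hb ▸ memI_add hM (memI_mul_left hM (memR_intCast hM _) (memI_p hM))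
      (memI_mul_left hM (memR_intCast hM _) h))
  · rintro ⟨m, rfl⟩
    push_cast
    exact memI_mul_right hM (memI_p hM) (memR_natCast hM m)

theorem not_memI_natCast (hM : IsPModular p M) {n : ℕ} (hn : ¬ p ∣ n) :
    ¬ MemLocalIdeal M (n : ℂ) := fun h => hn ((memI_natCast hM).mp h)

theorem memR_natCast_inv (hM : IsPModular p M) {n : ℕ} (hn : ¬ p ∣ n) :
    MemLocalRing M (n : ℂ)⁻¹ :=
  memR_inv hM (memR_natCast hM n) (not_memI_natCast hM hn)

theorem memI_intCast (hM : IsPModular p M) {n : ℤ} (hn : (p : ℤ) ∣ n) :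
    MemLocalIdeal M (n : ℂ) := by
  obtain ⟨m, rfl⟩ := hn
  push_cast
  exact memI_mul_right hM (memI_p hM) (memR_intCast hM m)

theorem memI_of_memR_div (hM : IsPModular p M) {x : ℂ} {e : ℕ} (he : e ≠ 0)
    (h : MemLocalRing M (x / (p : ℂ) ^ e)) : MemLocalIdeal M x := by
  have hp : (p : ℂ) ^ e ≠ 0 := pow_ne_zero _ (by exact_mod_cast hM.1.ne_zero)
  have h1 := memI_mul_left hM h (memI_pow hM (memI_p hM) he)
  rwa [div_mul_cancel₀ _ hp] at h1

/-- The maximal ideal of the local ring is the radical of `p`. -/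
theorem exists_pow_memR_div (hM : IsPModular p M) {x : ℂ} (hx : MemLocalIdeal M x) (e : ℕ) :
    ∃ N : ℕ, ∀ n ≥ N, MemLocalRing M (x ^ n / (p : ℂ) ^ e) := by
  obtain ⟨a, b, ha, hb, rfl⟩ := hx
  have key : ∃ c : AlgInt, c ∉ M ∧ ∃ n : ℕ, c * a ^ n ∈ Ideal.span {(p : AlgInt)} := by
    by_contra hne
    push Not at hne
    let S : Submonoid AlgInt :=
      { carrier := {z | ∃ c : AlgInt, c ∉ M ∧ ∃ n : ℕ, z = c * a ^ n}
        one_mem' := ⟨1, pmod_one_notMem hM, 0, by simp⟩
        mul_mem' := by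
          rintro _ _ ⟨c, hc, n, rfl⟩ ⟨d, hd, m, rfl⟩
          exact ⟨c * d, pmod_mul_notMem hM hc hd, n + m, by ring⟩ }
    have hdis : Disjoint ((Ideal.span {(p : AlgInt)} : Ideal AlgInt) : Set AlgInt) S := by
      rw [Set.disjoint_left]
      rintro z hz ⟨c, hc, n, rfl⟩
      exact hne c hc n hz
    obtain ⟨Q, hQp, hQle, hQS⟩ := Ideal.exists_le_prime_disjoint _ S hdis
    have hQM : Q ≤ M := by
      intro z hz
      by_contra hzM
      exact Set.disjoint_left.mp hQS hz ⟨z, hzM, 0, by simp⟩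
    have hpQ : (p : AlgInt) ∈ Q := hQle (Ideal.mem_span_singleton_self _)
    have hcomap : (Q.comap (algebraMap ℤ AlgInt)).IsMaximal := by
      have hpr : (Q.comap (algebraMap ℤ AlgInt)).IsPrime := Ideal.IsPrime.comap _
      refine hpr.isMaximal fun h0 => ?_
      have h1 : (p : ℤ) ∈ Q.comap (algebraMap ℤ AlgInt) := by simpa using hpQ
      rw [h0, Ideal.mem_bot] at h1
      exact hM.1.ne_zero (by exact_mod_cast h1)
    have hQmax : Q.IsMaximal := Ideal.isMaximal_of_isIntegral_of_isMaximal_comap Q hcomap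
    have hQeq : Q = M := hQmax.eq_of_le (pmod_isMaximal hM).ne_top hQM
    exact Set.disjoint_left.mp hQS (hQeq ▸ ha)
      ⟨1, pmod_one_notMem hM, 1, by simp⟩
  obtain ⟨c, hc, n, hn⟩ := key
  obtain ⟨d, hd⟩ := Ideal.mem_span_singleton'.mp hn
  have hp : (p : ℂ) ≠ 0 := by exact_mod_cast hM.1.ne_zero
  have hxR : MemLocalRing M ((a : ℂ) / b) := ⟨a, b, hb, rfl⟩
  have h1 : MemLocalRing M (((a : ℂ) / b) ^ n / p) := by
    refine ⟨d, c * b ^ n, pmod_mul_notMem hM hc fun h => hb ((pmod_isPrime hM).mem_of_pow_mem n h),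
      ?_⟩
    have hd' : (d : ℂ) * p = c * (a : ℂ) ^ n := by
      have h2 := congrArg (fun z : AlgInt => (z : ℂ)) hd
      push_cast at h2
      exact h2
    push_cast
    have := pmod_ne_zero hc
    have hbn : (b : ℂ) ^ n ≠ 0 := pow_ne_zero n (pmod_ne_zero hb)
    rw [div_pow, div_div, div_eq_div_iff (mul_ne_zero this hbn) (mul_ne_zero hbn hp)]
    linear_combination (b : ℂ) ^ n * hd'
  refine ⟨n * e, fun m hm => ?_⟩
  obtain ⟨r, rfl⟩ := Nat.exists_eq_add_of_le hm
  rw [pow_add, pow_mul, mul_div_right_comm, ← div_pow]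
  exact memR_mul hM (memR_pow hM h1 e) (memR_pow hM hxR r)

/-- A natural number is divisible by `p ^ e` as soon as its quotient by `p ^ e` is a local
integer. -/
theorem dvd_of_memR_div (hM : IsPModular p M) {m e : ℕ}
    (h : MemLocalRing M ((m : ℂ) / (p : ℂ) ^ e)) : p ^ e ∣ m := by
  induction e generalizing m with
  | zero => simp
  | succ e ih =>
    have hp : (p : ℂ) ≠ 0 := by exact_mod_cast hM.1.ne_zero
    obtain ⟨m', rfl⟩ := (memI_natCast hM).mp (memI_of_memR_div hM e.succ_ne_zero h)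
    have h' : MemLocalRing M ((m' : ℂ) / (p : ℂ) ^ e) := by
      convert! h using 1
      push_cast
      field_simp
      ring
    rw [pow_succ, mul_comm]
    exact mul_dvd_mul_left p (ih h')

end Cfsg.Agent.Blocks
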