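import Cfsg.Agent.Lib.Blocks.Defect

/-!
# Induced blocks, Brauer's first main theorem, existence of modular ideals

`exists_isPModular`; `intRing_of_weak_orth`; `isConj_normalizer_of_sylowIn`;
`brauerCentralChar_eq_centralChar`; `exists_isInducedBlock`; `normal_le_defectGroup`;
`exists_defectGroup_ge_of_induced`; `first_main_exists`, `first_main_lift`, `first_main_unique`.
-/

set_option autoImplicit false

open scoped ComplexConjugate

namespace Cfsg.Agent.Blocks

open Cfsg

/-- Every prime lies in a maximal ideal of the algebraic integers. -/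
theorem exists_isPModular {p : ℕ} (hp : p.Prime) : ∃ M : Ideal AlgInt, IsPModular p M := by
  have hne : Ideal.span {(p : AlgInt)} ≠ ⊤ := by
    intro h
    rw [Ideal.span_singleton_eq_top] at h
    obtain ⟨u, hu⟩ := h
    have h1 : ((u : AlgInt) : ℂ) * ((↑u⁻¹ : AlgInt) : ℂ) = 1 := by
      exact congrArg (fun z : AlgInt => (z : ℂ)) u.mul_inv
    rw [hu] at h1
    push_cast at h1
    refine hp.not_dvd_one (Char.nat_dvd_of_isIntegral_div hp.ne_zero ?_)
    rw [Nat.cast_one, one_div, inv_eq_of_mul_eq_one_right h1]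
    exact (↑u⁻¹ : AlgInt).2
  obtain ⟨M, hM, hle⟩ := Ideal.exists_le_maximal _ hne
  exact ⟨M, hp, hM, hle (Ideal.mem_span_singleton_self _)⟩

variable {G : Type*} [Group G] [Finite G] {p : ℕ} {M : Ideal AlgInt}

/-- Orthogonality of regular against singular columns makes the idempotent integral, whatever the
maximal ideal over `p`. -/
theorem intRing_of_weak_orth (hM : IsPModular p M) {A : Set (IrrCharacter G)}
    (h : ∀ x y : G, ¬ p ∣ orderOf x → p ∣ orderOf y →
      ∑ᶠ χ ∈ A, (χ : G → ℂ) x * conj ((χ : G → ℂ) y) = 0) :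
    blockInd A ∈ intRing hM := by
  classical
  haveI : Fact p.Prime := ⟨hM.1⟩
  have := Fintype.ofFinite G
  have := Fintype.ofFinite (IrrCharacter G)
  intro g
  show MemLocalRing M _
  have hsum : ∀ x y : G, ∑ᶠ χ ∈ A, (χ : G → ℂ) x * conj ((χ : G → ℂ) y)
      = ∑ χ : IrrCharacter G, blockInd A χ * ((χ : G → ℂ) x * conj ((χ : G → ℂ) y)) := by
    intro x y
    rw [finsum_mem_def, finsum_eq_sum_of_fintype]
    refine Finset.sum_congr rfl fun χ _ => ?_
    by_cases hχ : χ ∈ A
    · rw [Set.indicator_of_mem hχ, blockInd_of_mem hχ, one_mul]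
    · rw [Set.indicator_of_notMem hχ, blockInd_of_notMem hχ, zero_mul]
  by_cases hg : p ∣ orderOf g
  · have h0 := h 1 g (by simpa using hM.1.one_lt.ne') hg
    rw [← blockCoeff_eq_ofOmega, blockCoeff, h0, mul_zero]
    exact memR_zero hM
  obtain ⟨P⟩ : Nonempty (Sylow p G) := inferInstance
  let φ : G → ℂ := fun x =>
    ∑ χ : IrrCharacter G, blockInd A χ * ((χ : G → ℂ) x * conj ((χ : G → ℂ) g))
  have hφ : ∀ u : (P : Subgroup G), u ≠ 1 → φ u = 0 := by
    intro u hu
    obtain ⟨j, hj⟩ := IsPGroup.iff_orderOf.mp P.2 u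
    rw [← Subgroup.orderOf_coe] at hj
    have hpu : p ∣ orderOf (u : G) := by
      rw [hj]
      refine dvd_pow_self p fun h0 => hu ?_
      rw [h0, pow_zero, orderOf_eq_one_iff] at hj
      exact Subtype.ext hj
    have h1 := congrArg (starRingEnd ℂ) (h g u hg hpu)
    rw [hsum, map_sum, map_zero] at h1
    rw [← h1]
    refine Finset.sum_congr rfl fun χ _ => ?_
    have hind : conj (blockInd A χ) = blockInd A χ := by
      by_cases hχ : χ ∈ A
      · rw [blockInd_of_mem hχ, map_one]
      · rw [blockInd_of_notMem hχ, map_zero]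
    rw [map_mul, map_mul, hind, Complex.conj_conj, mul_comm (conj _)]
  have hkey : φ 1 = (Nat.card (P : Subgroup G) : ℂ) * ∑ χ : IrrCharacter G,
      blockInd A χ * conj ((χ : G → ℂ) g) *
        ((Nat.card (P : Subgroup G) : ℂ)⁻¹ * ∑ u : (P : Subgroup G), (χ : G → ℂ) (1 * u)) := by
    have h1 : ∑ u : (P : Subgroup G), φ u = φ 1 := by
      rw [Finset.sum_eq_single (1 : (P : Subgroup G))]
      · rfl
      · exact fun u _ hu => hφ u hu
      · simp
    rw [← h1]
    simp only [φ, one_mul]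
    rw [Finset.sum_comm, Finset.mul_sum]
    refine Finset.sum_congr rfl fun χ _ => ?_
    have hP0 : (Nat.card (P : Subgroup G) : ℂ) ≠ 0 := Nat.cast_ne_zero.mpr Nat.card_pos.ne'
    rw [← Finset.mul_sum, ← Finset.sum_mul]
    field_simp
  have hφ1 : ofOmega (blockInd A) g = (Nat.card G : ℂ)⁻¹ * φ 1 := by
    rw [ofOmega_eq_sum]
    simp only [φ, mul_assoc]
  rw [hφ1, hkey, ← (P : Subgroup G).index_mul_card, Nat.cast_mul, mul_inv, mul_assoc,
    inv_mul_cancel_left₀ (Nat.cast_ne_zero.mpr Nat.card_pos.ne')]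
  refine memR_mul hM (memR_natCast_inv hM P.not_dvd_index) (memR_sum hM _ fun χ _ => ?_)
  refine memR_mul hM (memR_mul hM ?_ (memR_of_isIntegral hM ?_)) (memR_of_isIntegral hM
    (isIntegral_avg (Char.IsIrrCharacter.isCharacter χ.2) (P : Subgroup G) (Subgroup.one_mem _)))
  · by_cases hχ : χ ∈ A
    · rw [blockInd_of_mem hχ]; exact memR_one hM
    · rw [blockInd_of_notMem hχ]; exact memR_zero hM
  · rw [← Char.IsCharacter.apply_inv (Char.IsIrrCharacter.isCharacter χ.2)]
    exact isIntegral_irr χ _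

/-- Elements of `C(D)` conjugate in `G`, with `D` a Sylow subgroup of one centraliser, are
conjugate under `N(D)`. -/
theorem isConj_normalizer_of_sylowIn [Fact p.Prime] {D : Subgroup G} {r h : G}
    (hr : SylowIn p (Subgroup.centralizer ({r} : Set G)) D)
    (hh : h ∈ Subgroup.centralizer (D : Set G)) (hc : IsConj r h) :
    ∃ n ∈ Subgroup.normalizer (D : Set G), n * r * n⁻¹ = h := by
  obtain ⟨x, rfl⟩ := isConj_iff.mp hc
  have h1 := sylowIn_conj hr x
  have h2 : SylowIn p (Subgroup.centralizer ({x * r * x⁻¹} : Set G)) D := by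
    refine sylowIn_of_card_eq (le_centralizer_singleton.mpr hh) (sylowIn_isPGroup hr) ?_
    rw [← sylowIn_card h1, card_conjSub]
  obtain ⟨y, hy, hyD⟩ := sylowIn_isConj h1 h2
  rw [conjSub_mul] at hyD
  refine ⟨y * x, conjSub_eq_self_iff.mp hyD, ?_⟩
  rw [mem_centralizer_singleton] at hy
  calc y * x * r * (y * x)⁻¹ = y * (x * r * x⁻¹) * y⁻¹ := by group
    _ = x * r * x⁻¹ := by rw [hy, mul_inv_cancel_right]

/-- A class with defect group `D` meets `C(D)` in a single class of `N(D)`. -/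
theorem brauerCentralChar_eq_centralChar [Fact p.Prime] (hM : IsPModular p M) {D : Subgroup G}
    {r : Subgroup.normalizer (D : Set G)}
    (hr : SylowIn p (Subgroup.centralizer ({(r : G)} : Set G)) D)
    (ξ : IrrCharacter (Subgroup.normalizer (D : Set G))) :
    brauerCentralChar D (Subgroup.normalizer (D : Set G))
        (ξ : Subgroup.normalizer (D : Set G) → ℂ) (r : G)
      = centralChar (ξ : Subgroup.normalizer (D : Set G) → ℂ) r := by
  classical
  rw [brauerCentralChar_eq_phi hM, brauerPhi, ofOmega_omega (isClassFunction_classInd _),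
    ← omega_classInd]
  congr 1
  ext h
  have hrC : (r : G) ∈ Subgroup.centralizer (D : Set G) :=
    le_centralizer_singleton.mp (sylowIn_le hr)
  simp only [brauerTrunc, classInd]
  by_cases hc : IsConj r h
  · obtain ⟨n, rfl⟩ := isConj_iff.mp hc
    rw [if_pos hc, if_pos, if_pos]
    · exact isConj_iff.mpr ⟨n, rfl⟩
    · exact (conj_mem_centralizer_iff n.2 _).mpr hrC
  · rw [if_neg hc]
    by_cases hhC : (h : G) ∈ Subgroup.centralizer (D : Set G)
    · rw [if_pos hhC, if_neg]
      intro hG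
      obtain ⟨n, hn, hnh⟩ := isConj_normalizer_of_sylowIn hr hhC hG
      exact hc (isConj_iff.mpr ⟨⟨n, hn⟩, Subtype.ext hnh⟩)
    · rw [if_neg hhC]

variable (hM : IsPModular p M)
include hM

theorem inducedCentralChar_congr_sameBlock {H : Subgroup G} {b : Set (IrrCharacter H)}
    (hb : IsPBlock M b) {ξ ξ' : IrrCharacter H} (hξ : ξ ∈ b) (hξ' : ξ' ∈ b) (g : G) :
    MemLocalIdeal M (inducedCentralChar H (ξ : H → ℂ) g - inducedCentralChar H (ξ' : H → ℂ) g) := by
  rw [inducedCentralChar_eq_omega hM, inducedCentralChar_eq_omega hM]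
  exact intRing_congr hM (omega_mem_intRing hM (z := fun h : H => classInd g (h : G))
    (fun x n => isClassFunction_classInd g (x : G) (n : G))
    (fun x => classInd_mem (locRing hM) g _)) (sameBlock_of_mem hM hb hξ hξ')

/-- For `P C(P) ≤ H ≤ N(P)` every block of `H` induces one of `G`, read off by `brauerPhi`. -/
theorem exists_isInducedBlock [Fact p.Prime] {P H : Subgroup G} (hP : IsPGroup p P) (hPH : P ≤ H)
    (hCH : Subgroup.centralizer (P : Set G) ≤ H) (hH : H ≤ Subgroup.normalizer (P : Set G))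
    {b : Set (IrrCharacter H)} (hb : IsPBlock M b) {ξ : IrrCharacter H} (hξ : ξ ∈ b) :
    ∃ B, IsInducedBlock M H b B ∧ MemLocalIdeal M (brauerPhi P H ξ (blockInd B) - 1) ∧
      ∀ χ ∈ B, ∀ c ∈ intRing hM, MemLocalIdeal M (brauerPhi P H ξ c - c χ) := by
  obtain ⟨B, hB, h1, h2⟩ := exists_block_brauerPhi hM hP hCH hH ξ
  refine ⟨B, ⟨hb, hB, fun ξ' hξ' χ hχ g => ?_⟩, h1, h2⟩
  have h3 := h2 χ hχ _ (classInd_mem_intRing hM g)
  rw [← brauerCentralChar_eq_phi hM] at h3
  refine memI_sub_trans hM (inducedCentralChar_congr_sameBlock hM hb hξ' hξ g) (memI_sub_trans hM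
    (inducedCentralChar_congr_brauer hM hP hPH hH ξ g) ?_)
  simpa [omegaFun_classInd] using h3

/-- Normal `p`-subgroups lie in every defect group. -/
theorem normal_le_defectGroup [Fact p.Prime] {Q : Subgroup G} [Q.Normal] (hQ : IsPGroup p Q)
    {B : Set (IrrCharacter G)} (hB : IsPBlock M B) {D : Subgroup G}
    (hD : IsDefectGroup p M B D) : Q ≤ D := by
  obtain ⟨g, hg, hgD⟩ := hD
  obtain ⟨χ, hχ⟩ := isPBlock_nonempty hM hB
  refine normal_le_of_sylowIn hgD (le_centralizer_singleton.mpr ?_) hQ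
  by_contra hgC
  refine hg.2.2 χ hχ (memI_centralChar_of_forall_notMem hM hQ (fun x hx hxC => ?_) χ)
  obtain ⟨n, rfl⟩ := isConj_iff.mp hx
  exact hgC ((conj_mem_centralizer_iff (by simp [Subgroup.normalizer_eq_top]) g).mp hxC)

/-- A defect group of a block lies in one of the block it induces. -/
theorem exists_defectGroup_ge_of_induced [Fact p.Prime] {H : Subgroup G}
    {b : Set (IrrCharacter H)} {B : Set (IrrCharacter G)} (hind : IsInducedBlock M H b B)
    {D : Subgroup H} (hD : IsDefectGroup p M b D) :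
    ∃ E, IsDefectGroup p M B E ∧ D.map H.subtype ≤ E := by
  classical
  obtain ⟨hb, hB, hcong⟩ := hind
  have := Fintype.ofFinite (ConjClasses G)
  have := Fintype.ofFinite (ConjClasses H)
  obtain ⟨ξ, hξ⟩ := isPBlock_nonempty hM hb
  obtain ⟨χ, hχ⟩ := isPBlock_nonempty hM hB
  obtain ⟨E, hE⟩ := exists_isDefectGroup hM hB
  obtain ⟨q, hq1, hq2⟩ : ∃ q : G, ¬ MemLocalIdeal M (blockCoeff B q) ∧
      ¬ MemLocalIdeal M (inducedCentralChar H (ξ : H → ℂ) q) := by
    by_contra hcon
    push Not at hcon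
    have h1 : MemLocalIdeal M (omega (χ : G → ℂ) (blockCoeff B)) := by
      rw [omega_eq_sum_classes (isClassFunction_blockCoeff B)]
      refine memI_sum hM _ fun c _ => ?_
      by_cases hc : MemLocalIdeal M (blockCoeff B (Quotient.out c))
      · exact memI_mul_right hM hc (memR_centralChar hM χ _)
      · exact memI_mul_left hM (memR_blockCoeff hM hB _)
          ((memI_iff_of_sub hM (hcong ξ hξ χ hχ _)).mp (hcon _ hc))
    rw [blockCoeff_eq_ofOmega, omega_ofOmega, blockInd_of_mem hχ] at h1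
    exact not_memI_one hM h1
  obtain ⟨r, hr1, hr2⟩ : ∃ r : H, IsConj q (r : G) ∧
      ¬ MemLocalIdeal M (centralChar (ξ : H → ℂ) r) := by
    by_contra hcon
    push Not at hcon
    refine hq2 ?_
    rw [inducedCentralChar_eq_omega hM, omega_eq_sum_classes (z := fun h : H => classInd q (h : G))
      (fun x n => isClassFunction_classInd q (x : G) (n : G))]
    refine memI_sum hM _ fun c _ => ?_
    by_cases hc : IsConj q ((Quotient.out c : H) : G)
    · exact memI_mul_left hM (classInd_mem (locRing hM) q _) (hcon _ hc)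
    · simp only [classInd, if_neg hc, zero_mul]
      exact memI_zero hM
  obtain ⟨hb0, hhb, hbD⟩ := hD
  obtain ⟨Dr, hDr⟩ := sylowIn_exists p (Subgroup.centralizer ({r} : Set H))
  obtain ⟨y, hy⟩ := minmax hM hb hξ hr2 hhb.2.1 (sylowIn_isPGroup hbD) (sylowIn_le hbD) hDr
  have hDrG : Dr.map H.subtype ≤ Subgroup.centralizer ({(r : G)} : Set G) := by
    rintro _ ⟨z, hz, rfl⟩
    exact mem_centralizer_singleton.mpr
      (congrArg Subtype.val (mem_centralizer_singleton.mp (sylowIn_le hDr hz)))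
  obtain ⟨Sr, hSr, hDS⟩ := sylowIn_exists_ge _ hDrG ((sylowIn_isPGroup hDr).map H.subtype)
  obtain ⟨g, hg, hgE⟩ := hE
  have hBr : ¬ MemLocalIdeal M (blockCoeff B (r : G)) := by
    rwa [← classFunction_eq_of_isConj (isClassFunction_blockCoeff B) hr1]
  obtain ⟨z, hz⟩ := minmax hM hB hχ (hg.2.2 χ hχ) hBr (sylowIn_isPGroup hSr) (sylowIn_le hSr) hgE
  refine ⟨conjSub ((y : G) * z) E, isDefectGroup_conjSub hM ⟨g, hg, hgE⟩ _, ?_⟩
  rintro _ ⟨w, hw, rfl⟩
  rw [← conjSub_mul, mem_conjSub]
  exact hz (hDS ⟨_, mem_conjSub.mp (hy hw), by simp⟩)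

/-- The block idempotent of `B` survives the Brauer map at any `D` centralised by an element with
coefficient outside the local ideal. -/
theorem exists_brauerPhi_not_memI [Fact p.Prime] {B : Set (IrrCharacter G)} (hB : IsPBlock M B)
    {D : Subgroup G} (hD : IsPGroup p D) {H : Subgroup G}
    (hCH : Subgroup.centralizer (D : Set G) ≤ H) (hH : H ≤ Subgroup.normalizer (D : Set G))
    {g : G} (hgC : g ∈ Subgroup.centralizer (D : Set G))
    (hg : ¬ MemLocalIdeal M (blockCoeff B g)) :
    ∃ ξ : IrrCharacter H, ¬ MemLocalIdeal M (brauerPhi D H ξ (blockInd B)) := by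
  by_contra hcon
  push Not at hcon
  have he := blockInd_mem_intRing hM hB
  let F : H → ℂ := brauerTrunc D H (ofOmega (blockInd B))
  have hF : IsClassFunction H F := isClassFunction_brauerTrunc hH (isClassFunction_ofOmega _)
  have hFR : ∀ h, MemLocalRing M (F h) := memR_brauerTrunc hM D H he
  let c : IrrCharacter H → ℂ := omegaFun F
  have hc : c ∈ intRing hM := omega_mem_intRing hM hF hFR
  have hsq : IsSmall M (c - c * c) := by
    intro h
    rw [sub_eq_add_neg, ofOmega_add, ofOmega_neg, ofOmega_mul, ofOmega_omega hF]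
    simp only [Pi.add_apply, Pi.neg_apply, ← sub_eq_add_neg]
    have h1 := memI_brauerTrunc_conv hM hD hCH (isClassFunction_ofOmega (blockInd B))
      (isClassFunction_ofOmega (blockInd B)) he he h
    rwa [← ofOmega_mul, blockInd_mul_self] at h1
  have hpow : ∀ n, IsSmall M (c - c ^ (n + 1)) := by
    intro n
    induction n with
    | zero =>
      intro h
      rw [pow_one, sub_self, ofOmega_zero]
      exact memI_zero hM
    | succ n ih =>
      have h1 : c - c ^ (n + 1 + 1) = (c - c * c) - (-c) * (c - c ^ (n + 1)) := by ring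
      rw [h1]
      exact isSmall_sub hM hsq (isSmall_mul hM ((intRing hM).neg_mem hc) ih)
  obtain ⟨N, hN⟩ := exists_small_pow hM (c := c) (fun ξ => hcon ξ)
  have h2 := isSmall_sub hM (hpow N) (isSmall_mul hM ((intRing hM).neg_mem (intRing hM).one_mem)
    (hN (N + 1) (Nat.le_succ N))) ⟨g, hCH hgC⟩
  rw [show c - c ^ (N + 1) - -1 * c ^ (N + 1) = c by ring, ofOmega_omega hF] at h2
  simp only [F, brauerTrunc, if_pos hgC, ← blockCoeff_eq_ofOmega] at h2
  exact hg h2

/-- First main theorem, from `N(D)` up. -/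
theorem first_main_lift [Fact p.Prime] {D : Subgroup G} (hD : IsPGroup p D)
    {b : Set (IrrCharacter (Subgroup.normalizer (D : Set G)))} (hb : IsPBlock M b)
    (hbD : IsDefectGroup p M b (D.subgroupOf (Subgroup.normalizer (D : Set G)))) :
    ∃ B, IsPBlock M B ∧ IsDefectGroup p M B D ∧
      IsInducedBlock M (Subgroup.normalizer (D : Set G)) b B := by
  obtain ⟨ξ, hξ⟩ := isPBlock_nonempty hM hb
  obtain ⟨B, hind, -, hphi⟩ := exists_isInducedBlock hM hD Subgroup.le_normalizer
    (Subgroup.centralizer_le_normalizer _) le_rfl hb hξ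
  refine ⟨B, hind.2.1, ?_, hind⟩
  obtain ⟨E, hE, hDE⟩ := exists_defectGroup_ge_of_induced hM hind hbD
  rw [Subgroup.map_subgroupOf_eq_of_le Subgroup.le_normalizer] at hDE
  obtain ⟨r, hr, hrD⟩ := hbD
  have hrD' : SylowIn p (Subgroup.centralizer ({(r : G)} : Set G) ⊓
      Subgroup.normalizer (D : Set G)) D := by
    refine sylowIn_iff.mpr ⟨le_inf ?_ Subgroup.le_normalizer, hD, fun Q hQK hQ hDQ => ?_⟩
    · intro x hx
      have hx' : (⟨x, Subgroup.le_normalizer hx⟩ : Subgroup.normalizer (D : Set G)) ∈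
          D.subgroupOf (Subgroup.normalizer (D : Set G)) := Subgroup.mem_subgroupOf.mpr hx
      exact mem_centralizer_singleton.mpr
        (congrArg Subtype.val (mem_centralizer_singleton.mp (sylowIn_le hrD hx')))
    · have h1 := (sylowIn_iff.mp hrD).2.2 (Q.subgroupOf (Subgroup.normalizer (D : Set G)))
        (fun x hx => mem_centralizer_singleton.mpr (Subtype.ext (mem_centralizer_singleton.mp
          (hQK (Subgroup.mem_subgroupOf.mp hx)).1)))
        (hQ.of_equiv (Subgroup.subgroupOfEquivOfLe (hQK.trans inf_le_right)).symm)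
        (fun x hx => Subgroup.mem_subgroupOf.mpr (hDQ (Subgroup.mem_subgroupOf.mp hx)))
      rw [← Subgroup.map_subgroupOf_eq_of_le (hQK.trans inf_le_right), h1,
        Subgroup.map_subgroupOf_eq_of_le Subgroup.le_normalizer]
  have hrD2 := sylowIn_of_sylowIn_normalizer hrD'
  obtain ⟨χ, hχ⟩ := isPBlock_nonempty hM hind.2.1
  have hk : ¬ MemLocalIdeal M (centralChar (χ : G → ℂ) (r : G)) := by
    intro hI
    have h3 := hphi χ hχ _ (classInd_mem_intRing hM (r : G))
    rw [← brauerCentralChar_eq_phi hM, brauerCentralChar_eq_centralChar hM hrD2 ξ,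
      omegaFun_classInd] at h3
    exact hr.2.2 ξ hξ ((memI_iff_of_sub hM h3).mpr hI)
  obtain ⟨g, hg, hgE⟩ := hE
  obtain ⟨x, hx⟩ := minmax hM hind.2.1 hχ hk hg.2.1 (sylowIn_isPGroup hgE) (sylowIn_le hgE) hrD2
  have hcard : Nat.card E ≤ Nat.card D := card_conjSub x D ▸ Subgroup.card_le_of_le hx
  rw [Subgroup.eq_of_le_of_card_ge hDE hcard]
  exact ⟨g, hg, hgE⟩

/-- First main theorem, existence downwards. -/
theorem first_main_exists [Fact p.Prime] {D : Subgroup G} (hD : IsPGroup p D)
    {B : Set (IrrCharacter G)} (hB : IsPBlock M B) (hBD : IsDefectGroup p M B D) :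
    ∃ b, IsPBlock M b ∧ IsDefectGroup p M b (D.subgroupOf (Subgroup.normalizer (D : Set G))) ∧
      IsInducedBlock M (Subgroup.normalizer (D : Set G)) b B := by
  obtain ⟨g, hg, hgD⟩ := hBD
  obtain ⟨ξ, hξ⟩ := exists_brauerPhi_not_memI hM hB hD (Subgroup.centralizer_le_normalizer _)
    le_rfl (le_centralizer_singleton.mp (sylowIn_le hgD)) hg.2.1
  refine ⟨blockOf M (ξ : (Subgroup.normalizer (D : Set G)) → ℂ), ⟨ξ, rfl⟩, ?_⟩
  obtain ⟨B', hind, -, hphi⟩ := exists_isInducedBlock hM hD Subgroup.le_normalizer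
    (Subgroup.centralizer_le_normalizer _) le_rfl ⟨ξ, rfl⟩ (mem_blockOf_self hM ξ)
  obtain ⟨χ', hχ'⟩ := isPBlock_nonempty hM hind.2.1
  have hχ'B : χ' ∈ B := by
    by_contra hn
    have h3 := hphi χ' hχ' _ (blockInd_mem_intRing hM hB)
    rw [blockInd_of_notMem hn, sub_zero] at h3
    exact hξ h3
  obtain rfl : B' = B := isPBlock_eq_of_mem hM hind.2.1 hB hχ' hχ'B
  refine ⟨?_, hind⟩
  obtain ⟨E, hE⟩ := exists_isDefectGroup hM (B := blockOf M (ξ : (Subgroup.normalizer (D : Set G)) → ℂ)) ⟨ξ, rfl⟩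
  have hDE : D.subgroupOf (Subgroup.normalizer (D : Set G)) ≤ E := by
    haveI : (D.subgroupOf (Subgroup.normalizer (D : Set G))).Normal := Subgroup.normal_in_normalizer
    exact normal_le_defectGroup hM (hD.of_equiv (Subgroup.subgroupOfEquivOfLe Subgroup.le_normalizer).symm)
      ⟨ξ, rfl⟩ hE
  obtain ⟨E', hE', hEE'⟩ := exists_defectGroup_ge_of_induced hM hind hE
  obtain ⟨x, hx⟩ := isDefectGroup_conj_eq hM hB ⟨g, hg, hgD⟩ hE'
  have hcard : Nat.card E ≤ Nat.card (D.subgroupOf (Subgroup.normalizer (D : Set G))) := by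
    rw [Nat.card_congr (Subgroup.subgroupOfEquivOfLe (Subgroup.le_normalizer (H := D))).toEquiv,
      ← card_conjSub x D, hx, ← Subgroup.card_map_of_injective (Subgroup.normalizer (D : Set G)).subtype_injective]
    exact Subgroup.card_le_of_le hEE'
  rwa [Subgroup.eq_of_le_of_card_ge hDE hcard]

/-- First main theorem, uniqueness downwards. -/
theorem first_main_unique [Fact p.Prime] {D : Subgroup G} (hD : IsPGroup p D)
    {B : Set (IrrCharacter G)}
    {b₁ b₂ : Set (IrrCharacter (Subgroup.normalizer (D : Set G)))}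
    (h₁ : IsInducedBlock M (Subgroup.normalizer (D : Set G)) b₁ B)
    (h₂ : IsInducedBlock M (Subgroup.normalizer (D : Set G)) b₂ B)
    (hD₁ : IsDefectGroup p M b₁ (D.subgroupOf (Subgroup.normalizer (D : Set G))))
    (hD₂ : IsDefectGroup p M b₂ (D.subgroupOf (Subgroup.normalizer (D : Set G)))) : b₁ = b₂ := by
  classical
  obtain ⟨ξ₁, hξ₁⟩ := isPBlock_nonempty hM h₁.1
  obtain ⟨ξ₂, hξ₂⟩ := isPBlock_nonempty hM h₂.1
  obtain ⟨χ, hχ⟩ := isPBlock_nonempty hM h₁.2.1
  by_contra hne
  have hn : ξ₁ ∉ b₂ := fun h => hne (isPBlock_eq_of_mem hM h₁.1 h₂.1 hξ₁ h)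
  have hDN : D ≤ (Subgroup.normalizer (D : Set G)) := Subgroup.le_normalizer
  have hone : MemLocalIdeal M (omega (ξ₁ : (Subgroup.normalizer (D : Set G)) → ℂ) (blockCoeff b₂) -
      omega (ξ₂ : (Subgroup.normalizer (D : Set G)) → ℂ) (blockCoeff b₂)) := by
    have := Fintype.ofFinite (ConjClasses (Subgroup.normalizer (D : Set G)))
    rw [omega_eq_sum_classes (isClassFunction_blockCoeff b₂),
      omega_eq_sum_classes (isClassFunction_blockCoeff b₂), ← Finset.sum_sub_distrib]
    refine memI_sum hM _ fun c _ => ?_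
    set q : (Subgroup.normalizer (D : Set G)) := Quotient.out c
    rw [← mul_sub]
    by_cases hq : MemLocalIdeal M (blockCoeff b₂ q)
    · exact memI_mul_right hM hq (memR_sub hM (memR_centralChar hM ξ₁ q) (memR_centralChar hM ξ₂ q))
    refine memI_mul_left hM (memR_blockCoeff hM h₂.1 q) ?_
    obtain ⟨S, hS⟩ := sylowIn_exists p (Subgroup.centralizer ({q} : Set (Subgroup.normalizer (D : Set G))))
    haveI : (D.subgroupOf (Subgroup.normalizer (D : Set G))).Normal := Subgroup.normal_in_normalizer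
    have hconj : ∀ x : (Subgroup.normalizer (D : Set G)), conjSub x (D.subgroupOf (Subgroup.normalizer (D : Set G))) = D.subgroupOf (Subgroup.normalizer (D : Set G)) := fun x =>
      conjSub_eq_self_iff.mpr (by simp [Subgroup.normalizer_eq_top])
    have hSD : S ≤ D.subgroupOf (Subgroup.normalizer (D : Set G)) := by
      obtain ⟨r₂, hr₂, hr₂D⟩ := hD₂
      obtain ⟨x, hx⟩ := minmax hM h₂.1 hξ₂ (hr₂.2.2 ξ₂ hξ₂) hq (sylowIn_isPGroup hS)
        (sylowIn_le hS) hr₂D
      rwa [hconj] at hx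
    have hbig : ∀ {b : Set (IrrCharacter (Subgroup.normalizer (D : Set G)))} {ξ : IrrCharacter (Subgroup.normalizer (D : Set G))}, IsPBlock M b → ξ ∈ b →
        IsDefectGroup p M b (D.subgroupOf (Subgroup.normalizer (D : Set G))) → ¬ MemLocalIdeal M (centralChar (ξ : (Subgroup.normalizer (D : Set G)) → ℂ) q) →
        S = D.subgroupOf (Subgroup.normalizer (D : Set G)) := by
      rintro b ξ hb hξ ⟨r, hr, hrD⟩ hk
      obtain ⟨x, hx⟩ := minmax hM hb hξ hk hr.2.1 (sylowIn_isPGroup hrD) (sylowIn_le hrD) hS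
      exact Subgroup.eq_of_le_of_card_ge hSD (card_conjSub x S ▸ Subgroup.card_le_of_le hx)
    by_cases hboth : MemLocalIdeal M (centralChar (ξ₁ : (Subgroup.normalizer (D : Set G)) → ℂ) q) ∧
        MemLocalIdeal M (centralChar (ξ₂ : (Subgroup.normalizer (D : Set G)) → ℂ) q)
    · exact memI_sub hM hboth.1 hboth.2
    have hSeq : S = D.subgroupOf (Subgroup.normalizer (D : Set G)) := by
      by_cases h1 : MemLocalIdeal M (centralChar (ξ₁ : (Subgroup.normalizer (D : Set G)) → ℂ) q)
      · exact hbig h₂.1 hξ₂ hD₂ fun h2 => hboth ⟨h1, h2⟩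
      · exact hbig h₁.1 hξ₁ hD₁ h1
    have hqD : SylowIn p (Subgroup.centralizer ({(q : G)} : Set G)) D := by
      apply sylowIn_of_sylowIn_normalizer
      refine sylowIn_iff.mpr ⟨le_inf ?_ hDN, hD, fun Q hQK hQ hDQ => ?_⟩
      · intro x hx
        have hx' : (⟨x, hDN hx⟩ : (Subgroup.normalizer (D : Set G))) ∈ S := hSeq ▸ Subgroup.mem_subgroupOf.mpr hx
        exact mem_centralizer_singleton.mpr
          (congrArg Subtype.val (mem_centralizer_singleton.mp (sylowIn_le hS hx')))
      · have h3 := (sylowIn_iff.mp hS).2.2 (Q.subgroupOf (Subgroup.normalizer (D : Set G)))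
          (fun x hx => mem_centralizer_singleton.mpr (Subtype.ext (mem_centralizer_singleton.mp
            (hQK (Subgroup.mem_subgroupOf.mp hx)).1)))
          (hQ.of_equiv (Subgroup.subgroupOfEquivOfLe (hQK.trans inf_le_right)).symm)
          (hSeq ▸ fun x hx => Subgroup.mem_subgroupOf.mpr (hDQ (Subgroup.mem_subgroupOf.mp hx)))
        rw [← Subgroup.map_subgroupOf_eq_of_le (hQK.trans inf_le_right), h3, hSeq,
          Subgroup.map_subgroupOf_eq_of_le hDN]
    have hcongr : ∀ {b : Set (IrrCharacter (Subgroup.normalizer (D : Set G)))} {ξ : IrrCharacter (Subgroup.normalizer (D : Set G))}, IsInducedBlock M (Subgroup.normalizer (D : Set G)) b B →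
        ξ ∈ b → MemLocalIdeal M (centralChar (ξ : (Subgroup.normalizer (D : Set G)) → ℂ) q - centralChar (χ : G → ℂ) (q : G)) := by
      intro b ξ hind hξ
      rw [← brauerCentralChar_eq_centralChar hM hqD ξ]
      exact memI_sub_trans hM (memI_sub_comm
        (inducedCentralChar_congr_brauer hM hD hDN le_rfl ξ (q : G))) (hind.2.2 ξ hξ χ hχ (q : G))
    exact memI_sub_trans hM (hcongr h₁ hξ₁) (memI_sub_comm (hcongr h₂ hξ₂))
  rw [blockCoeff_eq_ofOmega, omega_ofOmega, omega_ofOmega, blockInd_of_notMem hn,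
    blockInd_of_mem hξ₂, zero_sub] at hone
  exact not_memI_one hM (neg_neg (1 : ℂ) ▸ memI_neg hone)

end Cfsg.Agent.Blocks
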