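import Cfsg.Agent.Lib.Blocks.Local
import Cfsg.Agent.Lib.Char.Orth

/-!
# The centre of the group algebra through central characters

A class function `z : G → ℂ` is an element of the centre of `ℂ[G]`; `omega χ z` is the value at `z`
of the central character of `χ`, `ofOmega c` is the central element with prescribed central
characters `c`, and `conv` is the product of the group algebra.

Main results: `omega_ofOmega`, `ofOmega_omega`, `omega_conv`, `ofOmega_mul`, `omega_classInd`,
`omega_eq_sum_classes`, `isIntegral_centralChar`, `intRing` (the `c` whose `ofOmega c` has local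
integer coefficients) with `omega_mem_intRing`, `memR_of_intRing`, `exists_small_pow`.
-/

set_option autoImplicit false

open scoped ComplexConjugate

namespace Cfsg.Agent.Blocks

open Cfsg

variable {G : Type*} [Group G]

/-- The central character of `χ` evaluated at the element with coefficients `z`. -/
noncomputable def omega (χ z : G → ℂ) : ℂ := (∑ᶠ x, z x * χ x) / χ 1

/-- The central element of `ℂ[G]` whose central characters are given by `c`. -/
noncomputable def ofOmega (c : IrrCharacter G → ℂ) (g : G) : ℂ :=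
  (Nat.card G : ℂ)⁻¹ * ∑ᶠ χ : IrrCharacter G, c χ * (χ : G → ℂ) 1 * conj ((χ : G → ℂ) g)

/-- Convolution, the product of the group algebra. -/
noncomputable def conv (z w : G → ℂ) (g : G) : ℂ := ∑ᶠ x, z x * w (x⁻¹ * g)

open scoped Classical in
/-- The indicator of the conjugacy class of `g`. -/
noncomputable def classInd (g : G) : G → ℂ := fun x => if IsConj g x then 1 else 0

/-- All central characters at a given central element. -/
noncomputable def omegaFun (z : G → ℂ) : IrrCharacter G → ℂ := fun χ => omega (χ : G → ℂ) z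

theorem isClassFunction_classInd (g : G) : IsClassFunction G (classInd g) := by
  intro x h
  have hc : IsConj x (h * x * h⁻¹) := isConj_iff.mpr ⟨h, rfl⟩
  simp only [classInd]
  congr 1
  exact propext ⟨fun h' => h'.trans hc.symm, fun h' => h'.trans hc⟩

theorem classFunction_eq_of_isConj {z : G → ℂ} (hz : IsClassFunction G z) {x y : G}
    (h : IsConj x y) : z x = z y := by
  obtain ⟨c, rfl⟩ := isConj_iff.mp h
  exact (hz x c).symm

theorem isClassFunction_comm {z : G → ℂ} (hz : IsClassFunction G z) (x y : G) :
    z (x * y) = z (y * x) :=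
  classFunction_eq_of_isConj hz (isConj_iff.mpr ⟨y, by group⟩)

variable [Finite G]

theorem omega_eq_sum [Fintype G] (χ z : G → ℂ) : omega χ z = (∑ x, z x * χ x) / χ 1 := by
  rw [omega, finsum_eq_sum_of_fintype]

theorem conv_eq_sum [Fintype G] (z w : G → ℂ) (g : G) : conv z w g = ∑ x, z x * w (x⁻¹ * g) :=
  finsum_eq_sum_of_fintype _

theorem ofOmega_eq_sum [Fintype (IrrCharacter G)] (c : IrrCharacter G → ℂ) (g : G) :
    ofOmega c g = (Nat.card G : ℂ)⁻¹ *
      ∑ χ : IrrCharacter G, c χ * (χ : G → ℂ) 1 * conj ((χ : G → ℂ) g) := by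
  rw [ofOmega, finsum_eq_sum_of_fintype]

theorem irr_class (χ : IrrCharacter G) : IsClassFunction G (χ : G → ℂ) :=
  Char.IsIrrCharacter.isClassFunction χ.2

theorem irr_one_ne_zero (χ : IrrCharacter G) : (χ : G → ℂ) 1 ≠ 0 :=
  Char.IsIrrCharacter.apply_one_ne_zero χ.2

theorem card_ne_zero_C : (Nat.card G : ℂ) ≠ 0 := Nat.cast_ne_zero.mpr Nat.card_pos.ne'

theorem isClassFunction_ofOmega (c : IrrCharacter G → ℂ) : IsClassFunction G (ofOmega c) := by
  intro g h
  unfold ofOmega
  simp only [irr_class _ g h]

theorem ofOmega_add (c d : IrrCharacter G → ℂ) : ofOmega (c + d) = ofOmega c + ofOmega d := by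
  have := Fintype.ofFinite (IrrCharacter G)
  ext g
  simp only [ofOmega_eq_sum, Pi.add_apply, add_mul, Finset.sum_add_distrib, mul_add]

theorem ofOmega_neg (c : IrrCharacter G → ℂ) : ofOmega (-c) = -ofOmega c := by
  have := Fintype.ofFinite (IrrCharacter G)
  ext g
  simp only [ofOmega_eq_sum, Pi.neg_apply, neg_mul, Finset.sum_neg_distrib, mul_neg]

theorem ofOmega_zero : ofOmega (0 : IrrCharacter G → ℂ) = 0 := by
  have := Fintype.ofFinite (IrrCharacter G)
  ext g
  simp [ofOmega_eq_sum]

theorem ofOmega_smul (a : ℂ) (c : IrrCharacter G → ℂ) : ofOmega (a • c) = a • ofOmega c := by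
  have := Fintype.ofFinite (IrrCharacter G)
  ext g
  simp only [ofOmega_eq_sum, Pi.smul_apply, smul_eq_mul, Finset.mul_sum]
  exact Finset.sum_congr rfl fun χ _ => by ring

theorem omega_ofOmega (c : IrrCharacter G → ℂ) (ψ : IrrCharacter G) :
    omega (ψ : G → ℂ) (ofOmega c) = c ψ := by
  classical
  have := Fintype.ofFinite G
  have := Fintype.ofFinite (IrrCharacter G)
  have h1 : ∑ x, ofOmega c x * (ψ : G → ℂ) x
      = ∑ χ : IrrCharacter G, c χ * (χ : G → ℂ) 1 * classInner (ψ : G → ℂ) (χ : G → ℂ) := by
    simp only [ofOmega_eq_sum, classInner, Finset.mul_sum, Finset.sum_mul]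
    rw [Finset.sum_comm]
    exact Finset.sum_congr rfl fun χ _ => Finset.sum_congr rfl fun x _ => by ring
  rw [omega_eq_sum, h1, Finset.sum_eq_single ψ, Char.classInner_irr_self ψ.2, mul_one,
    mul_div_assoc, div_self (irr_one_ne_zero ψ), mul_one]
  · intro χ _ hne
    rw [Char.classInner_irr_of_ne ψ.2 χ.2 fun h => hne (Subtype.ext h.symm), mul_zero]
  · simp

theorem omegaFun_ofOmega (c : IrrCharacter G → ℂ) : omegaFun (ofOmega c) = c :=
  funext (omega_ofOmega c)

/-- A class function is determined by its central characters. -/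
theorem eq_of_omega_eq {z w : G → ℂ} (hz : IsClassFunction G z) (hw : IsClassFunction G w)
    (h : ∀ χ : IrrCharacter G, omega (χ : G → ℂ) z = omega (χ : G → ℂ) w) : z = w := by
  have := Fintype.ofFinite G
  refine Char.classFunction_ext hz hw fun χ => ?_
  have h1 := h ⟨_, Char.IsIrrCharacter.conj χ.2⟩
  rw [omega_eq_sum, omega_eq_sum, div_left_inj' (irr_one_ne_zero _)] at h1
  simp only [classInner, h1]

theorem ofOmega_omega {z : G → ℂ} (hz : IsClassFunction G z) : ofOmega (omegaFun z) = z :=
  eq_of_omega_eq (isClassFunction_ofOmega _) hz fun χ => omega_ofOmega _ χ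

theorem isClassFunction_conv {z w : G → ℂ} (hz : IsClassFunction G z) (hw : IsClassFunction G w) :
    IsClassFunction G (conv z w) := by
  intro g h
  have := Fintype.ofFinite G
  rw [conv_eq_sum, conv_eq_sum]
  refine (Fintype.sum_equiv (MulAut.conj h).toEquiv _ _ fun x => ?_).symm
  have e1 : (MulAut.conj h).toEquiv x = h * x * h⁻¹ := rfl
  rw [e1, hz x h]
  congr 1
  rw [← hw (x⁻¹ * g) h]
  congr 1
  group

theorem omega_conv {z w : G → ℂ} (hz : IsClassFunction G z) (hw : IsClassFunction G w)
    (χ : IrrCharacter G) :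
    omega (χ : G → ℂ) (conv z w) = omega (χ : G → ℂ) z * omega (χ : G → ℂ) w := by
  have := Fintype.ofFinite G
  obtain ⟨n, ρ, hirr, hρ⟩ := χ.2
  have key : Char.groupSumOp ρ (conv z w) = Char.groupSumOp ρ z * Char.groupSumOp ρ w := by
    simp only [Char.groupSumOp, conv_eq_sum, Finset.sum_smul, Finset.sum_mul]
    rw [Finset.sum_comm]
    refine Finset.sum_congr rfl fun x _ => ?_
    rw [Finset.mul_sum]
    refine (Fintype.sum_equiv (Equiv.mulLeft x) _ _ fun y => ?_).symm
    simp [map_mul, Equiv.coe_mulLeft, smul_smul, mul_comm (w y) (z x)]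
  rw [Char.groupSumOp_eq_smul ρ (isClassFunction_conv hz hw), Char.groupSumOp_eq_smul ρ hz,
    Char.groupSumOp_eq_smul ρ hw] at key
  have hom : ∀ u : G → ℂ,
      omega (χ : G → ℂ) u = (∑ g, u g * ρ.character g) / (Module.finrank ℂ (Fin n → ℂ) : ℂ) := by
    intro u
    rw [omega_eq_sum, ← hρ, Representation.char_one]
  rw [hom, hom, hom]
  have hn : (1 : Module.End ℂ (Fin n → ℂ)) ≠ 0 := by
    intro h0
    have := Char.nontrivial_of_isIrreducible ρ
    exact one_ne_zero h0
  apply smul_left_injective ℂ hn
  rw [← Module.End.one_eq_id, smul_mul_smul_comm, one_mul] at key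
  exact key

theorem ofOmega_mul (c d : IrrCharacter G → ℂ) :
    ofOmega (c * d) = conv (ofOmega c) (ofOmega d) := by
  refine eq_of_omega_eq (isClassFunction_ofOmega _)
    (isClassFunction_conv (isClassFunction_ofOmega _) (isClassFunction_ofOmega _)) fun χ => ?_
  rw [omega_conv (isClassFunction_ofOmega _) (isClassFunction_ofOmega _)]
  simp [omega_ofOmega]

theorem omega_classInd (g : G) (χ : IrrCharacter G) :
    omega (χ : G → ℂ) (classInd g) = centralChar (χ : G → ℂ) g := by
  classical
  have := Fintype.ofFinite G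
  rw [omega_eq_sum, centralChar]
  congr 1
  simp only [classInd, ite_mul, one_mul, zero_mul]
  rw [← Finset.sum_filter, Finset.sum_congr rfl fun x hx =>
      (classFunction_eq_of_isConj (irr_class χ) (Finset.mem_filter.mp hx).2).symm,
    Finset.sum_const, nsmul_eq_mul]
  congr 2
  have h1 := Char.card_conjugates_mul_card_centralizer g
  rw [← (Subgroup.centralizer ({g} : Set G)).index_mul_card] at h1
  have h2 := Nat.eq_of_mul_eq_mul_right Nat.card_pos h1
  rw [← h2, Nat.card_eq_card_toFinset]
  congr 1
  ext x
  simp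

theorem omegaFun_classInd (g : G) :
    omegaFun (classInd g) = fun χ : IrrCharacter G => centralChar (χ : G → ℂ) g :=
  funext (omega_classInd g)

omit [Finite G] in
open scoped Classical in
/-- A class function is the combination of the class indicators. -/
theorem classFunction_eq_sum_classInd [Fintype (ConjClasses G)] {z : G → ℂ}
    (hz : IsClassFunction G z) (x : G) :
    z x = ∑ q : ConjClasses G, z (Quotient.out q) * classInd (Quotient.out q) x := by
  have hout : ∀ q : ConjClasses G, ConjClasses.mk (Quotient.out q) = q := fun q => Quotient.out_eq q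
  rw [Finset.sum_eq_single (ConjClasses.mk x)]
  · have hc : IsConj (Quotient.out (ConjClasses.mk x)) x :=
      ConjClasses.mk_eq_mk_iff_isConj.mp (hout _)
    rw [classInd, if_pos hc, mul_one, classFunction_eq_of_isConj hz hc]
  · intro q _ hne
    rw [classInd, if_neg, mul_zero]
    exact fun hc => hne ((hout q).symm.trans (ConjClasses.mk_eq_mk_iff_isConj.mpr hc))
  · simp

/-- Expansion of a central character along the conjugacy classes. -/
theorem omega_eq_sum_classes [Fintype (ConjClasses G)] {z : G → ℂ} (hz : IsClassFunction G z)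
    (χ : IrrCharacter G) : omega (χ : G → ℂ) z
      = ∑ q : ConjClasses G, z (Quotient.out q) * centralChar (χ : G → ℂ) (Quotient.out q) := by
  classical
  have := Fintype.ofFinite G
  rw [omega_eq_sum]
  simp only [← omega_classInd, omega_eq_sum, ← mul_div_assoc]
  rw [← Finset.sum_div]
  congr 1
  simp only [Finset.mul_sum]
  rw [Finset.sum_comm]
  refine Finset.sum_congr rfl fun x _ => ?_
  rw [classFunction_eq_sum_classInd hz x, Finset.sum_mul]
  exact Finset.sum_congr rfl fun q _ => mul_assoc _ _ _

theorem ofOmega_one [DecidableEq G] :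
    ofOmega (1 : IrrCharacter G → ℂ) = fun g => if g = 1 then 1 else 0 := by
  have := Fintype.ofFinite G
  refine eq_of_omega_eq (isClassFunction_ofOmega _) ?_ fun χ => ?_
  · intro g h
    by_cases hg : g = 1
    · simp [hg]
    · simp [hg]
  · rw [omega_ofOmega, omega_eq_sum]
    simp [ite_mul, div_self (irr_one_ne_zero χ)]

theorem isIntegral_irr (χ : IrrCharacter G) (g : G) : IsIntegral ℤ ((χ : G → ℂ) g) :=
  Char.IsCharacter.isIntegral (Char.IsIrrCharacter.isCharacter χ.2) g

/-- The `c` such that `ofOmega c` has coefficients in the subring `S`. -/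
noncomputable def coeffRing (S : Subring ℂ) : Subring (IrrCharacter G → ℂ) where
  carrier := {c | ∀ g, ofOmega c g ∈ S}
  mul_mem' := by
    intro c d hc hd g
    have := Fintype.ofFinite G
    rw [ofOmega_mul, conv_eq_sum]
    exact S.sum_mem fun x _ => S.mul_mem (hc x) (hd _)
  one_mem' := by
    classical
    intro g
    rw [ofOmega_one]
    dsimp only
    split_ifs
    · exact S.one_mem
    · exact S.zero_mem
  add_mem' := by
    intro c d hc hd g
    rw [ofOmega_add]
    exact S.add_mem (hc g) (hd g)
  zero_mem' := by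
    intro g
    rw [ofOmega_zero]
    exact S.zero_mem
  neg_mem' := by
    intro c hc g
    rw [ofOmega_neg]
    exact S.neg_mem (hc g)

theorem mem_coeffRing {S : Subring ℂ} {c : IrrCharacter G → ℂ} :
    c ∈ coeffRing S ↔ ∀ g, ofOmega c g ∈ S := Iff.rfl

theorem omegaFun_mem_coeffRing {S : Subring ℂ} {z : G → ℂ} (hz : IsClassFunction G z)
    (h : ∀ g, z g ∈ S) : omegaFun z ∈ coeffRing S := fun g => by rw [ofOmega_omega hz]; exact h g

omit [Finite G] in
theorem classInd_mem (S : Subring ℂ) (g x : G) : classInd g x ∈ S := by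
  unfold classInd
  split_ifs
  · exact S.one_mem
  · exact S.zero_mem

/-- Central characters take algebraic integer values at class sums. -/
theorem isIntegral_centralChar (χ : IrrCharacter G) (g : G) :
    IsIntegral ℤ (centralChar (χ : G → ℂ) g) := by
  classical
  have := Fintype.ofFinite G
  let S : Subring ℂ := (Int.castRingHom ℂ).range
  let A : Subalgebra ℤ (IrrCharacter G → ℂ) := subalgebraOfSubring (coeffRing S)
  have hle : A.toSubmodule ≤ Submodule.span ℤ
      (Set.range fun x : G => omegaFun (fun y => if y = x then (1 : ℂ) else 0)) := by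
    intro c hc
    have hc' : ∀ x, ofOmega c x ∈ S := hc
    choose n hn using hc'
    have h1 : c = ∑ x : G, n x • omegaFun (fun y => if y = x then (1 : ℂ) else 0) := by
      conv_lhs => rw [← omegaFun_ofOmega c]
      ext ψ
      simp only [omegaFun, omega_eq_sum, ← hn, eq_intCast, Finset.sum_div, Finset.sum_apply]
      refine Finset.sum_congr rfl fun x _ => ?_
      simp [omegaFun, omega_eq_sum, zsmul_eq_mul, mul_div_assoc]
    rw [h1]
    exact Submodule.sum_mem _ fun x _ =>
      Submodule.smul_mem _ _ (Submodule.subset_span (Set.mem_range_self x))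
  have hfg : A.toSubmodule.FG := by
    have : Module.Finite ℤ (Submodule.span ℤ
        (Set.range fun x : G => omegaFun (fun y => if y = x then (1 : ℂ) else 0))) :=
      Module.Finite.span_of_finite ℤ (Set.finite_range _)
    exact Submodule.FG.of_le (Module.Finite.iff_fg.mp this) hle
  have h2 : IsIntegral ℤ (omegaFun (classInd g)) :=
    IsIntegral.of_mem_of_fg A hfg _
      (omegaFun_mem_coeffRing (isClassFunction_classInd g) fun x => classInd_mem _ g x)
  have h3 := h2.map (Pi.evalAlgHom ℤ (fun _ : IrrCharacter G => ℂ) χ)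
  simpa [omegaFun, omega_classInd] using h3

section modular

variable {p : ℕ} {M : Ideal AlgInt}

/-- The local ring at `M` as a subring of `ℂ`. -/
def locRing (hM : IsPModular p M) : Subring ℂ where
  carrier := {z | MemLocalRing M z}
  mul_mem' := memR_mul hM
  one_mem' := memR_one hM
  add_mem' := memR_add hM
  zero_mem' := memR_zero hM
  neg_mem' := memR_neg

/-- The `c` such that `ofOmega c` has local integer coefficients. -/
noncomputable def intRing (hM : IsPModular p M) : Subring (IrrCharacter G → ℂ) :=
  coeffRing (locRing hM)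

/-- `ofOmega c` has all its coefficients in the local ideal. -/
def IsSmall (M : Ideal AlgInt) (c : IrrCharacter G → ℂ) : Prop :=
  ∀ g, MemLocalIdeal M (ofOmega c g)

variable (hM : IsPModular p M)
include hM

theorem mem_intRing {c : IrrCharacter G → ℂ} :
    c ∈ intRing hM ↔ ∀ g, MemLocalRing M (ofOmega c g) := Iff.rfl

theorem omega_mem_intRing {z : G → ℂ} (hz : IsClassFunction G z)
    (h : ∀ g, MemLocalRing M (z g)) : omegaFun z ∈ intRing hM :=
  omegaFun_mem_coeffRing (S := locRing hM) hz h

theorem classInd_mem_intRing (g : G) : omegaFun (classInd g) ∈ intRing (G := G) hM :=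
  omegaFun_mem_coeffRing (S := locRing hM) (isClassFunction_classInd g) (classInd_mem _ g)

theorem const_mem_intRing {a : ℂ} (ha : MemLocalRing M a) :
    (fun _ : IrrCharacter G => a) ∈ intRing hM := by
  intro g
  have h1 : (fun _ : IrrCharacter G => a) = a • (1 : IrrCharacter G → ℂ) := by ext; simp
  rw [h1, ofOmega_smul]
  exact (locRing hM).mul_mem ha ((intRing hM).one_mem g)

theorem memR_centralChar (χ : IrrCharacter G) (g : G) :
    MemLocalRing M (centralChar (χ : G → ℂ) g) :=
  memR_of_isIntegral hM (isIntegral_centralChar χ g)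

theorem memR_omega {z : G → ℂ} (hz : IsClassFunction G z) (h : ∀ g, MemLocalRing M (z g))
    (χ : IrrCharacter G) : MemLocalRing M (omega (χ : G → ℂ) z) := by
  have := Fintype.ofFinite (ConjClasses G)
  rw [omega_eq_sum_classes hz χ]
  exact memR_sum hM _ fun q _ => memR_mul hM (h _) (memR_centralChar hM χ _)

theorem memI_omega {z : G → ℂ} (hz : IsClassFunction G z) (h : ∀ g, MemLocalIdeal M (z g))
    (χ : IrrCharacter G) : MemLocalIdeal M (omega (χ : G → ℂ) z) := by
  have := Fintype.ofFinite (ConjClasses G)
  rw [omega_eq_sum_classes hz χ]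
  exact memI_sum hM _ fun q _ => memI_mul_right hM (h _) (memR_centralChar hM χ _)

theorem memR_of_intRing {c : IrrCharacter G → ℂ} (hc : c ∈ intRing hM) (χ : IrrCharacter G) :
    MemLocalRing M (c χ) := by
  rw [← omega_ofOmega c χ]
  exact memR_omega hM (isClassFunction_ofOmega c) hc χ

theorem memI_of_isSmall {c : IrrCharacter G → ℂ} (hc : IsSmall M c) (χ : IrrCharacter G) :
    MemLocalIdeal M (c χ) := by
  rw [← omega_ofOmega c χ]
  exact memI_omega hM (isClassFunction_ofOmega c) hc χ

theorem intRing_of_isSmall {c : IrrCharacter G → ℂ} (hc : IsSmall M c) : c ∈ intRing hM :=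
  fun g => memR_of_memI (hc g)

theorem isSmall_sub {c d : IrrCharacter G → ℂ} (hc : IsSmall M c) (hd : IsSmall M d) :
    IsSmall M (c - d) := fun g => by
  rw [sub_eq_add_neg, ofOmega_add, ofOmega_neg]
  exact memI_add hM (hc g) (memI_neg (hd g))

theorem isSmall_mul {c d : IrrCharacter G → ℂ} (hc : c ∈ intRing hM) (hd : IsSmall M d) :
    IsSmall M (c * d) := fun g => by
  have := Fintype.ofFinite G
  rw [ofOmega_mul, conv_eq_sum]
  exact memI_sum hM _ fun x _ => memI_mul_left hM (hc x) (hd _)

/-- If all central characters of an element lie in the local ideal, then all its high powers have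
coefficients in the local ideal. -/
theorem exists_small_pow {c : IrrCharacter G → ℂ} (hc : ∀ χ, MemLocalIdeal M (c χ)) :
    ∃ N, ∀ n ≥ N, IsSmall M (c ^ n) := by
  have := Fintype.ofFinite (IrrCharacter G)
  have hp := hM.1
  obtain ⟨a, m, hm, hcard⟩ :=
    Nat.exists_eq_pow_mul_and_not_dvd (Nat.card_pos (α := G)).ne' p hp.ne_one
  choose N hN using fun χ => exists_pow_memR_div hM (hc χ) (a + 1)
  refine ⟨Finset.univ.sup N, fun n hn g => ?_⟩
  rw [ofOmega_eq_sum, Finset.mul_sum]
  refine memI_sum hM _ fun χ _ => ?_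
  have hp0 : (p : ℂ) ≠ 0 := by exact_mod_cast hp.ne_zero
  have hm0 : (m : ℂ) ≠ 0 := by
    exact_mod_cast fun h : m = 0 => hm (h ▸ dvd_zero p)
  have key : (Nat.card G : ℂ)⁻¹ * ((c ^ n) χ * (χ : G → ℂ) 1 * conj ((χ : G → ℂ) g))
      = (p : ℂ) * ((c χ ^ n / (p : ℂ) ^ (a + 1)) * ((m : ℂ)⁻¹ *
        ((χ : G → ℂ) 1 * conj ((χ : G → ℂ) g)))) := by
    rw [hcard, Pi.pow_apply]
    push_cast
    field_simp
    ring
  rw [key]
  refine memI_mul_right hM (memI_p hM) (memR_mul hM (hN χ n ?_) (memR_mul hM
    (memR_natCast_inv hM hm) (memR_mul hM (memR_of_isIntegral hM (isIntegral_irr χ 1))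
      (memR_of_isIntegral hM ?_))))
  · exact le_trans (Finset.le_sup (Finset.mem_univ χ)) hn
  · rw [← Char.IsCharacter.apply_inv (Char.IsIrrCharacter.isCharacter χ.2)]
    exact isIntegral_irr χ _

end modular

end Cfsg.Agent.Blocks
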