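import Cfsg.Agent.Lib.Blocks.Local

/-!
# Traces of idempotent matrices with local integer entries

`trace_eq_of_idempotent_congr`: congruent idempotent matrices over the local ring have equal trace.
`sum_translate_eq_zero`: for an idempotent matrix `E` indexed by `G`, with local integer entries and
invariant under left translation by an abelian `p`-subgroup `H`, `∑ a, E (h * a) a = 0` for every
`h ≠ 1` in `H` (a projective lattice has character zero at a `p`-singular element).
-/

set_option autoImplicit false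

namespace Cfsg.Agent.Blocks

open Cfsg

variable {p : ℕ} {M : Ideal AlgInt}

theorem memI_sub_one_of_pow_eq_one (hM : IsPModular p M) {z : ℂ} {n : ℕ}
    (hz : z ^ p ^ n = 1) : MemLocalIdeal M (z - 1) := by
  have hint : IsIntegral ℤ z :=
    IsIntegral.of_pow (pow_pos hM.1.pos n) (hz ▸ isIntegral_one)
  obtain ⟨r, hr⟩ := exists_add_pow_prime_pow_eq hM.1 (⟨z, hint⟩ - 1 : AlgInt) 1 n
  have h1 : ((⟨z, hint⟩ - 1 : AlgInt) : ℂ) ^ p ^ n
      = -((p : ℂ) * ((⟨z, hint⟩ - 1 : AlgInt) : ℂ) * (r : ℂ)) := by
    have h2 := congrArg (fun a : AlgInt => (a : ℂ)) hr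
    push_cast at h2
    simp only [sub_add_cancel, hz, one_pow, mul_one] at h2
    push_cast
    linear_combination -h2
  have h3 : MemLocalIdeal M (((⟨z, hint⟩ - 1 : AlgInt) : ℂ) ^ p ^ n) := by
    rw [h1]
    exact memI_neg (memI_mul_right hM (memI_mul_right hM (memI_p hM) (memR_coe hM _)) (memR_coe hM _))
  simpa using memI_of_pow hM (memR_coe hM _) h3

theorem memI_prod_sub_one {ι : Type*} (hM : IsPModular p M) (s : Finset ι) {f : ι → ℂ}
    (h : ∀ i ∈ s, MemLocalIdeal M (f i - 1)) : MemLocalIdeal M (∏ i ∈ s, f i - 1) := by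
  classical
  induction s using Finset.induction_on with
  | empty => simpa using memI_zero hM
  | insert a s ha ih =>
    rw [Finset.prod_insert ha]
    have h1 := h a (Finset.mem_insert_self a s)
    have h2 := ih fun i hi => h i (Finset.mem_insert_of_mem hi)
    have e : f a * ∏ i ∈ s, f i - 1 = (f a - 1) * ∏ i ∈ s, f i + (∏ i ∈ s, f i - 1) := by ring
    rw [e]
    refine memI_add hM (memI_mul_right hM h1 (memR_prod hM s fun i hi => ?_)) h2
    rw [← sub_add_cancel (f i) 1]
    exact memR_add hM (memR_of_memI (h i (Finset.mem_insert_of_mem hi))) (memR_one hM)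

/-- A matrix congruent to the identity has nonzero determinant. -/
theorem det_ne_zero_of_congr_one {n : Type*} [Fintype n] [DecidableEq n] (hM : IsPModular p M)
    (D : Matrix n n ℂ) (h : ∀ i j, MemLocalIdeal M (D i j - (1 : Matrix n n ℂ) i j)) :
    D.det ≠ 0 := by
  have hR : ∀ i j, MemLocalRing M (D i j) := fun i j => by
    rw [← sub_add_cancel (D i j) ((1 : Matrix n n ℂ) i j)]
    refine memR_add hM (memR_of_memI (h i j)) ?_
    rw [Matrix.one_apply]
    split_ifs
    · exact memR_one hM
    · exact memR_zero hM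
  have key : MemLocalIdeal M (D.det - 1) := by
    rw [Matrix.det_apply', ← Finset.add_sum_erase _ _ (Finset.mem_univ (1 : Equiv.Perm n))]
    rw [Equiv.Perm.sign_one, Units.val_one, Int.cast_one, one_mul, add_sub_right_comm]
    refine memI_add hM (memI_prod_sub_one hM _ fun i _ => ?_) (memI_sum hM _ fun σ hσ => ?_)
    · simpa using h i i
    · obtain ⟨i, hi⟩ : ∃ i, σ i ≠ i := by
        by_contra hcon
        push Not at hcon
        exact (Finset.mem_erase.mp hσ).1 (Equiv.ext hcon)
      refine memI_mul_left hM (memR_intCast hM _) ?_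
      rw [← Finset.mul_prod_erase _ _ (Finset.mem_univ i)]
      refine memI_mul_right hM ?_ (memR_prod hM _ fun j _ => hR _ _)
      simpa [hi] using h (σ i) i
  intro h0
  rw [h0, zero_sub] at key
  exact not_memI_one hM (neg_neg (1 : ℂ) ▸ memI_neg key)

/-- Congruent idempotent matrices over the local ring are conjugate, so have the same trace. -/
theorem trace_eq_of_idempotent_congr {n : Type*} [Fintype n] [DecidableEq n] (hM : IsPModular p M)
    (P Q : Matrix n n ℂ) (hP : P * P = P) (hQ : Q * Q = Q) (hPR : ∀ i j, MemLocalRing M (P i j))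
    (hPQ : ∀ i j, MemLocalIdeal M (P i j - Q i j)) : P.trace = Q.trace := by
  let D : Matrix n n ℂ := P * Q + (1 - P) * (1 - Q)
  have hD1 : D - 1 = (2 • P - 1) * (Q - P) := by
    simp only [D, two_smul, sub_mul, add_mul, mul_sub, one_mul, mul_one, hP]
    abel
  have hD : D.det ≠ 0 := by
    refine det_ne_zero_of_congr_one hM D fun i j => ?_
    rw [← Matrix.sub_apply, hD1, Matrix.mul_apply]
    refine memI_sum hM _ fun k _ => memI_mul_left hM ?_ ?_
    · rw [two_smul, Matrix.sub_apply, Matrix.add_apply, Matrix.one_apply]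
      refine memR_sub hM (memR_add hM (hPR i k) (hPR i k)) ?_
      split_ifs
      · exact memR_one hM
      · exact memR_zero hM
    · exact memI_sub_comm (hPQ k j)
  have hPD : P * D = D * Q := by
    simp only [D, mul_add, add_mul, ← mul_assoc, hP]
    rw [show P * (1 - P) = 0 by rw [mul_sub, mul_one, hP, sub_self]]
    rw [show (1 - P) * (1 - Q) * Q = 0 by rw [mul_assoc, sub_mul 1 Q, one_mul, hQ, sub_self, mul_zero]]
    rw [mul_assoc P Q Q, hQ, zero_mul]
  have hu : IsUnit D.det := isUnit_iff_ne_zero.mpr hD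
  calc P.trace = (P * D * D⁻¹).trace := by rw [mul_assoc, Matrix.mul_nonsing_inv D hu, mul_one]
    _ = (D⁻¹ * (P * D)).trace := Matrix.trace_mul_comm _ _
    _ = Q.trace := by rw [hPD, ← mul_assoc, Matrix.nonsing_inv_mul D hu, one_mul]

open scoped Classical IsMulCommutative in
/-- An invariant idempotent kernel on `G` has zero trace when composed with translation by a
non-identity element of an abelian `p`-subgroup. -/
theorem sum_translate_eq_zero {G : Type*} [Group G] [Fintype G] [Fact p.Prime] (hM : IsPModular p M)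
    (E : G → G → ℂ) {H : Subgroup G} [IsMulCommutative H] (hH : IsPGroup p H)
    (hR : ∀ a b, MemLocalRing M (E a b)) (hinv : ∀ h ∈ H, ∀ a b, E (h * a) (h * b) = E a b)
    (hidem : ∀ a b, ∑ c, E a c * E c b = E a b) {h₀ : H} (h₀1 : h₀ ≠ 1) :
    ∑ a, E ((h₀ : G) * a) a = 0 := by
  haveI : NeZero (Monoid.exponent H : ℂ) :=
    ⟨Nat.cast_ne_zero.mpr Monoid.exponent_ne_zero_of_finite⟩
  let T := Quotient (QuotientGroup.rightRel H)
  letI : Fintype T := Fintype.ofFinite T
  let e : H × T → G := fun ht => (ht.1 : G) * ht.2.out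
  have hsplit : Function.Bijective e := by
    constructor
    · rintro ⟨h, t⟩ ⟨h', t'⟩ heq
      simp only [e] at heq
      have ht : t = t' := by
        rw [← Quotient.out_eq t, ← Quotient.out_eq t']
        refine Quotient.sound ?_
        show QuotientGroup.rightRel H t.out t'.out
        rw [QuotientGroup.rightRel_apply]
        have h1 : t'.out * t.out⁻¹ = (h' : G)⁻¹ * h := by
          rw [eq_inv_mul_iff_mul_eq, ← mul_assoc, ← heq, mul_inv_cancel_right]
        rw [h1]
        exact H.mul_mem (H.inv_mem h'.2) h.2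
      subst ht
      exact Prod.ext (Subtype.ext (mul_right_cancel heq)) rfl
    · intro a
      refine ⟨(⟨a * (Quotient.mk (QuotientGroup.rightRel H) a).out⁻¹, ?_⟩, ⟦a⟧), by simp [e]⟩
      have h1 := Quotient.exact (Quotient.out_eq (Quotient.mk (QuotientGroup.rightRel H) a))
      exact (QuotientGroup.rightRel_apply).mp h1
  have hsum : ∀ f : G → ℂ, ∑ a, f a = ∑ h : H, ∑ t : T, f ((h : G) * t.out) := by
    intro f
    rw [← Fintype.sum_prod_type']
    exact (Fintype.sum_bijective e hsplit _ f fun _ => rfl).symm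
  let P : (H →* ℂˣ) → Matrix T T ℂ := fun φ => Matrix.of fun t t' =>
    ∑ h : H, (φ h : ℂ) * E ((h : G) * t.out) t'.out
  have hPidem : ∀ φ, P φ * P φ = P φ := by
    intro φ
    ext t t'
    simp only [P, Matrix.mul_apply, Matrix.of_apply]
    calc ∑ u : T, (∑ i : H, (φ i : ℂ) * E ((i : G) * t.out) u.out) *
          (∑ j : H, (φ j : ℂ) * E ((j : G) * u.out) t'.out)
        = ∑ u : T, ∑ j : H, ∑ i : H,
            (φ (j * i) : ℂ) * (E (((j * i : H) : G) * t.out) ((j : G) * u.out) *
              E ((j : G) * u.out) t'.out) := by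
          refine Finset.sum_congr rfl fun u _ => ?_
          rw [Finset.sum_mul_sum, Finset.sum_comm]
          refine Finset.sum_congr rfl fun j _ => Finset.sum_congr rfl fun i _ => ?_
          rw [Subgroup.coe_mul, mul_assoc (j : G), hinv j j.2, map_mul, Units.val_mul]
          ring
      _ = ∑ u : T, ∑ j : H, ∑ l : H,
            (φ l : ℂ) * (E ((l : G) * t.out) ((j : G) * u.out) * E ((j : G) * u.out) t'.out) := by
          refine Finset.sum_congr rfl fun u _ => Finset.sum_congr rfl fun j _ => ?_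
          exact Fintype.sum_equiv (Equiv.mulLeft j) _ _ fun i => rfl
      _ = ∑ l : H, (φ l : ℂ) * ∑ c, E ((l : G) * t.out) c * E c t'.out := by
          simp only [Finset.mul_sum, hsum (fun c => (φ _ : ℂ) * (E _ c * E c _))]
          rw [Finset.sum_comm]
          conv_rhs => rw [Finset.sum_comm]
          exact Finset.sum_congr rfl fun j _ => Finset.sum_comm
      _ = _ := by simp only [hidem]
  have hφ : ∀ (φ : H →* ℂˣ) (h : H), MemLocalIdeal M ((φ h : ℂ) - 1) ∧
      MemLocalRing M (φ h : ℂ) := by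
    intro φ h
    obtain ⟨k, hk⟩ := hH h
    have h1 : (φ h : ℂ) ^ p ^ k = 1 := by
      rw [← Units.val_pow_eq_pow_val, ← map_pow, hk, map_one, Units.val_one]
    exact ⟨memI_sub_one_of_pow_eq_one hM h1,
      memR_of_isIntegral hM (IsIntegral.of_pow (pow_pos hM.1.pos k) (h1 ▸ isIntegral_one))⟩
  have htr : ∀ φ, (P φ).trace = (P 1).trace := fun φ =>
    trace_eq_of_idempotent_congr hM _ _ (hPidem φ) (hPidem 1)
      (fun t t' => memR_sum hM _ fun h _ => memR_mul hM (hφ φ h).2 (hR _ _))
      (fun t t' => by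
        simp only [P, Matrix.of_apply, ← Finset.sum_sub_distrib, ← sub_mul, MonoidHom.one_apply,
          Units.val_one]
        exact memI_sum hM _ fun h _ => memI_mul_right hM (hφ φ h).1 (hR _ _))
  let f : H → ℂ := fun h => ∑ t : T, E ((h : G) * t.out) t.out
  have htr' : ∀ φ : H →* ℂˣ, (P φ).trace = ∑ h, (φ h : ℂ) * f h := by
    intro φ
    simp only [Matrix.trace, Matrix.diag_apply, P, Matrix.of_apply, f, Finset.mul_sum]
    exact Finset.sum_comm
  letI : Fintype (H →* ℂˣ) := by
    haveI : Finite (H →* ℂˣ) := Finite.of_equiv H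
      (CommGroup.monoidHom_mulEquiv_of_hasEnoughRootsOfUnity H ℂ).some.symm.toEquiv
    exact Fintype.ofFinite _
  have horth : ∀ h : H, h ≠ 1 → ∑ φ : H →* ℂˣ, (φ h : ℂ) = 0 := by
    intro h hne
    obtain ⟨ψ, hψ⟩ := CommGroup.exists_apply_ne_one_of_hasEnoughRootsOfUnity H ℂ hne
    have h1 : ∑ φ : H →* ℂˣ, (φ h : ℂ) = (ψ h : ℂ) * ∑ φ : H →* ℂˣ, (φ h : ℂ) := by
      rw [Finset.mul_sum]
      exact (Fintype.sum_equiv (Equiv.mulLeft ψ) _ _ fun φ => by simp).symm
    by_contra h0
    exact hψ (Units.val_eq_one.mp (mul_eq_right₀ h0 |>.mp h1.symm))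
  have hzero : f h₀ = 0 := by
    have h1 : ∑ φ : H →* ℂˣ, (φ h₀⁻¹ : ℂ) * (P φ).trace = 0 := by
      simp only [htr, ← Finset.sum_mul, horth _ (inv_ne_one.mpr h₀1), zero_mul]
    simp only [htr', Finset.mul_sum] at h1
    rw [Finset.sum_comm, Finset.sum_eq_single h₀] at h1
    · simp only [← mul_assoc, ← Units.val_mul, ← map_mul, inv_mul_cancel, map_one, Units.val_one,
        one_mul, Finset.sum_const, nsmul_eq_mul] at h1
      exact (mul_eq_zero.mp h1).resolve_left (by simp)
    · intro h _ hne
      simp only [← mul_assoc, ← Units.val_mul, ← map_mul, ← Finset.sum_mul]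
      rw [horth _ (by rwa [ne_eq, inv_mul_eq_one, eq_comm]), zero_mul]
    · simp
  rw [hsum, Finset.sum_eq_zero]
  intro k _
  have hc : ∀ t : T, E ((h₀ : G) * ((k : G) * t.out)) ((k : G) * t.out)
      = E ((h₀ : G) * t.out) t.out := by
    intro t
    rw [← mul_assoc, ← Subgroup.coe_mul, mul_comm h₀ k, Subgroup.coe_mul, mul_assoc,
      hinv k k.2]
  simp only [hc]
  exact hzero

end Cfsg.Agent.Blocks
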