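import Cfsg.Agent.Lib.Blocks.CentralFun

/-!
# Blocks, block idempotents, Osima's theorem

`SameBlock` is an equivalence; `blockCoeff B` is `ofOmega (blockInd B)`; `blockInd_mem_intRing`
(Osima: the block idempotent has local integer coefficients); `mem_of_sameBlock` (a set with
integral idempotent is a union of blocks); `eq_of_algHom` style lemmas `exists_block_of_forall`.
-/

set_option autoImplicit false

open scoped ComplexConjugate

namespace Cfsg.Agent.Blocks

open Cfsg

variable {G : Type*} [Group G]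

/-- The indicator of a set of irreducible characters. -/
noncomputable def blockInd (B : Set (IrrCharacter G)) : IrrCharacter G → ℂ := B.indicator 1

theorem blockInd_of_mem {B : Set (IrrCharacter G)} {χ : IrrCharacter G} (h : χ ∈ B) :
    blockInd B χ = 1 := Set.indicator_of_mem h _

theorem blockInd_of_notMem {B : Set (IrrCharacter G)} {χ : IrrCharacter G} (h : χ ∉ B) :
    blockInd B χ = 0 := Set.indicator_of_notMem h _

theorem blockInd_mul_self (B : Set (IrrCharacter G)) : blockInd B * blockInd B = blockInd B := by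
  ext χ
  by_cases h : χ ∈ B
  · simp [blockInd_of_mem h]
  · simp [blockInd_of_notMem h]

variable [Finite G]

theorem blockCoeff_eq_ofOmega (B : Set (IrrCharacter G)) : blockCoeff B = ofOmega (blockInd B) := by
  ext g
  rw [blockCoeff, ofOmega, finsum_mem_def]
  congr 1
  refine finsum_congr fun χ => ?_
  by_cases h : χ ∈ B
  · rw [Set.indicator_of_mem h, blockInd_of_mem h, one_mul]
  · rw [Set.indicator_of_notMem h, blockInd_of_notMem h, zero_mul, zero_mul]

theorem isClassFunction_blockCoeff (B : Set (IrrCharacter G)) :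
    IsClassFunction G (blockCoeff B) :=
  blockCoeff_eq_ofOmega B ▸ isClassFunction_ofOmega _

variable {p : ℕ} {M : Ideal AlgInt} (hM : IsPModular p M)
include hM

omit [Finite G] in
theorem sameBlock_refl (χ : G → ℂ) : SameBlock M χ χ := fun g => by
  rw [sub_self]; exact memI_zero hM

omit [Finite G] in
omit hM in
theorem sameBlock_symm {χ ψ : G → ℂ} (h : SameBlock M χ ψ) : SameBlock M ψ χ :=
  fun g => memI_sub_comm (h g)

omit [Finite G] in
theorem sameBlock_trans {χ ψ φ : G → ℂ} (h : SameBlock M χ ψ) (h' : SameBlock M ψ φ) :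
    SameBlock M χ φ := fun g => memI_sub_trans hM (h g) (h' g)

omit [Finite G] in
theorem mem_blockOf_self (χ : IrrCharacter G) : χ ∈ blockOf M (χ : G → ℂ) := sameBlock_refl hM _

omit [Finite G] in
theorem isPBlock_blockOf (χ : IrrCharacter G) : IsPBlock M (blockOf M (χ : G → ℂ)) := by
  let _ := hM
  exact ⟨χ, rfl⟩

omit [Finite G] in
theorem sameBlock_of_mem {B : Set (IrrCharacter G)} (hB : IsPBlock M B) {χ ψ : IrrCharacter G}
    (hχ : χ ∈ B) (hψ : ψ ∈ B) : SameBlock M (χ : G → ℂ) (ψ : G → ℂ) := by
  obtain ⟨φ, rfl⟩ := hB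
  exact sameBlock_trans hM (sameBlock_symm hχ) hψ

omit [Finite G] in
theorem isPBlock_nonempty {B : Set (IrrCharacter G)} (hB : IsPBlock M B) : B.Nonempty := by
  obtain ⟨φ, rfl⟩ := hB
  exact ⟨φ, mem_blockOf_self hM φ⟩

omit [Finite G] in
theorem isPBlock_eq_blockOf {B : Set (IrrCharacter G)} (hB : IsPBlock M B) {χ : IrrCharacter G}
    (hχ : χ ∈ B) : B = blockOf M (χ : G → ℂ) := by
  obtain ⟨φ, rfl⟩ := hB
  ext ψ
  exact ⟨fun h => sameBlock_trans hM (sameBlock_symm hχ) h, fun h => sameBlock_trans hM hχ h⟩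

omit [Finite G] in
theorem isPBlock_eq_of_mem {B B' : Set (IrrCharacter G)} (hB : IsPBlock M B) (hB' : IsPBlock M B')
    {χ : IrrCharacter G} (h : χ ∈ B) (h' : χ ∈ B') : B = B' := by
  rw [isPBlock_eq_blockOf hM hB h, isPBlock_eq_blockOf hM hB' h']

/-- An element with local integer coefficients has congruent central characters on a block. -/
theorem intRing_congr {c : IrrCharacter G → ℂ} (hc : c ∈ intRing hM) {χ ψ : IrrCharacter G}
    (h : SameBlock M (χ : G → ℂ) (ψ : G → ℂ)) : MemLocalIdeal M (c χ - c ψ) := by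
  have := Fintype.ofFinite (ConjClasses G)
  rw [← omega_ofOmega c χ, ← omega_ofOmega c ψ,
    omega_eq_sum_classes (isClassFunction_ofOmega c), omega_eq_sum_classes (isClassFunction_ofOmega c),
    ← Finset.sum_sub_distrib]
  refine memI_sum hM _ fun q _ => ?_
  rw [← mul_sub]
  exact memI_mul_left hM (hc _) (h _)

/-- Osima: the idempotent of a block has local integer coefficients. -/
theorem blockInd_mem_intRing {B : Set (IrrCharacter G)} (hB : IsPBlock M B) :
    blockInd B ∈ intRing hM := by
  classical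
  have := Fintype.ofFinite (IrrCharacter G)
  obtain ⟨χ₀, rfl⟩ := hB
  set B := blockOf M (χ₀ : G → ℂ) with hBdef
  have hsep : ∀ ψ : IrrCharacter G, ψ ∉ B →
      ∃ g, ¬ MemLocalIdeal M (centralChar (χ₀ : G → ℂ) g - centralChar (ψ : G → ℂ) g) := by
    intro ψ hψ
    by_contra h
    push Not at h
    exact hψ h
  choose g hg using hsep
  let fac : IrrCharacter G → IrrCharacter G → ℂ := fun ψ =>
    if h : ψ ∉ B then
      (omegaFun (classInd (g ψ h)) - fun _ => centralChar (ψ : G → ℂ) (g ψ h)) *
        fun _ => (centralChar (χ₀ : G → ℂ) (g ψ h) - centralChar (ψ : G → ℂ) (g ψ h))⁻¹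
    else 1
  let f : IrrCharacter G → ℂ := ∏ ψ, fac ψ
  have hfac : ∀ ψ, fac ψ ∈ intRing hM := by
    intro ψ
    by_cases h : ψ ∉ B
    swap
    · rw [show fac ψ = 1 from dif_neg h]
      exact (intRing hM).one_mem
    · rw [show fac ψ = _ from dif_pos h]
      refine (intRing hM).mul_mem ((intRing hM).sub_mem (classInd_mem_intRing hM _)
        (const_mem_intRing hM (memR_centralChar hM ψ _))) (const_mem_intRing hM ?_)
      exact memR_inv hM (memR_sub hM (memR_centralChar hM χ₀ _) (memR_centralChar hM ψ _)) (hg ψ h)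
  have hf : f ∈ intRing hM := (intRing hM).prod_mem fun ψ _ => hfac ψ
  have hf0 : ∀ ψ, ψ ∉ B → f ψ = 0 := by
    intro ψ hψ
    simp only [f, Finset.prod_apply]
    refine Finset.prod_eq_zero (Finset.mem_univ ψ) ?_
    simp [fac, hψ, omegaFun_classInd]
  have hfac1 : ∀ ψ, fac ψ χ₀ = 1 := by
    intro ψ
    by_cases h : ψ ∉ B
    swap
    · rw [show fac ψ = 1 from dif_neg h]; rfl
    · rw [show fac ψ = _ from dif_pos h]
      simp only [Pi.mul_apply, Pi.sub_apply, omegaFun_classInd]
      exact mul_inv_cancel₀ (ne_zero_of_not_memI hM (hg ψ h))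
  have hf1 : ∀ χ, χ ∈ B → MemLocalIdeal M (1 - f χ) := by
    intro χ hχ
    have h1 : f χ₀ = 1 := by
      simp only [f, Finset.prod_apply]
      exact Finset.prod_eq_one fun ψ _ => hfac1 ψ
    rw [← h1]
    exact intRing_congr hM hf hχ
  have hc : ∀ χ, MemLocalIdeal M ((blockInd B * (1 - f)) χ) := by
    intro χ
    by_cases h : χ ∈ B
    · simpa [blockInd_of_mem h] using hf1 χ h
    · simpa [blockInd_of_notMem h] using memI_zero hM
  obtain ⟨N, hN⟩ := exists_small_pow hM hc
  have key : blockInd B = 1 - (1 - f) ^ (N + 1) + (blockInd B * (1 - f)) ^ (N + 1) := by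
    ext χ
    by_cases h : χ ∈ B
    · simp [blockInd_of_mem h]
    · simp [blockInd_of_notMem h, hf0 χ h]
  rw [key]
  exact (intRing hM).add_mem ((intRing hM).sub_mem (intRing hM).one_mem
    ((intRing hM).pow_mem ((intRing hM).sub_mem (intRing hM).one_mem hf) _))
    (intRing_of_isSmall hM (hN _ (Nat.le_succ N)))

theorem memR_blockCoeff {B : Set (IrrCharacter G)} (hB : IsPBlock M B) (g : G) :
    MemLocalRing M (blockCoeff B g) :=
  blockCoeff_eq_ofOmega B ▸ blockInd_mem_intRing hM hB g

/-- A set of characters with integral idempotent is a union of blocks. -/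
theorem mem_of_sameBlock {A : Set (IrrCharacter G)} (hA : blockInd A ∈ intRing hM)
    {χ ψ : IrrCharacter G} (hχ : χ ∈ A) (h : SameBlock M (χ : G → ℂ) (ψ : G → ℂ)) : ψ ∈ A := by
  by_contra hψ
  have h1 := intRing_congr hM hA h
  rw [blockInd_of_mem hχ, blockInd_of_notMem hψ, sub_zero] at h1
  exact not_memI_one hM h1

/-- The block idempotents sum to one, so one of them is not sent into the local ideal by any
evaluation. -/
theorem sum_blockInd [Fintype (IrrCharacter G)] [DecidableEq (Set (IrrCharacter G))] :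
    ∑ B ∈ Finset.univ.image (fun χ : IrrCharacter G => blockOf M (χ : G → ℂ)), blockInd B
      = (1 : IrrCharacter G → ℂ) := by
  ext χ
  rw [Finset.sum_apply, Finset.sum_eq_single (blockOf M (χ : G → ℂ))]
  · exact blockInd_of_mem (mem_blockOf_self hM χ)
  · intro B hB hne
    obtain ⟨φ, -, rfl⟩ := Finset.mem_image.mp hB
    exact blockInd_of_notMem fun h => hne (isPBlock_eq_blockOf hM ⟨φ, rfl⟩ h)
  · exact fun h => absurd (Finset.mem_image_of_mem _ (Finset.mem_univ χ)) h

/-- Some class has both its idempotent coefficient and its central characters outside the local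
ideal. -/
theorem exists_isDefectClass {B : Set (IrrCharacter G)} (hB : IsPBlock M B) :
    ∃ g, IsDefectClass M B g := by
  have := Fintype.ofFinite (ConjClasses G)
  obtain ⟨χ, hχ⟩ := isPBlock_nonempty hM hB
  by_contra hcon
  push Not at hcon
  have h1 : MemLocalIdeal M (omega (χ : G → ℂ) (blockCoeff B)) := by
    rw [omega_eq_sum_classes (isClassFunction_blockCoeff B)]
    refine memI_sum hM _ fun q _ => ?_
    by_cases hb : MemLocalIdeal M (blockCoeff B (Quotient.out q))
    · exact memI_mul_right hM hb (memR_centralChar hM χ _)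
    · by_cases hw : MemLocalIdeal M (centralChar (χ : G → ℂ) (Quotient.out q))
      · exact memI_mul_left hM (memR_blockCoeff hM hB _) hw
      · exfalso
        exact hcon (Quotient.out q) ⟨memR_blockCoeff hM hB _, hb, fun ψ hψ =>
          fun hI => hw ((memI_iff_of_sub hM (sameBlock_of_mem hM hB hχ hψ _)).mpr hI)⟩
  rw [blockCoeff_eq_ofOmega, omega_ofOmega, blockInd_of_mem hχ] at h1
  exact not_memI_one hM h1

end Cfsg.Agent.Blocks
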