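import Cfsg.Agent.EqLemmas

/-!
# Sums over fixed points of a `p`-group action

`sum_sub_sum_fixed_mem`: for a `p`-group acting on a finite type and an invariant function `f`, the
sum of `f` differs from the sum over the fixed points by a combination of multiples `p • f a`.
`conj_sum_sub_sum_centralizer_mem`: the same for conjugation of a finite group by a `p`-subgroup.
-/

set_option autoImplicit false

namespace Cfsg.Agent.Blocks

open scoped Classical in
/-- The sum of an invariant function over the non-fixed points of a `p`-group action lies in any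
additive submonoid containing the multiples by `p` of its values. -/
theorem sum_not_fixed_mem {P α A : Type*} [Group P] [MulAction P α] [Fintype α] [AddCommMonoid A]
    {p : ℕ} [Fact p.Prime] (hP : IsPGroup p P) (f : α → A) (hf : ∀ (u : P) (a : α), f (u • a) = f a)
    (S : AddSubmonoid A) (hS : ∀ a, p • f a ∈ S) :
    ∑ a ∈ Finset.univ.filter (fun a => a ∉ MulAction.fixedPoints P α), f a ∈ S := by
  rw [← Finset.sum_fiberwise (Finset.univ.filter fun a => a ∉ MulAction.fixedPoints P α)
    (fun a => (Quotient.mk (MulAction.orbitRel P α) a : MulAction.orbitRel.Quotient P α)) f]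
  refine S.sum_mem fun q _ => ?_
  obtain ⟨b, rfl⟩ := Quotient.exists_rep q
  by_cases hb : b ∈ MulAction.fixedPoints P α
  · rw [Finset.sum_eq_zero]
    · exact S.zero_mem
    intro a ha
    rw [Finset.mem_filter, Finset.mem_filter, Quotient.eq, MulAction.orbitRel_apply] at ha
    obtain ⟨u, hu⟩ := ha.2
    have hu' : b = a := (MulAction.mem_fixedPoints.mp hb u).symm.trans hu
    exact absurd (hu' ▸ hb) ha.1.2
  have hset : ((Finset.univ.filter fun a => a ∉ MulAction.fixedPoints P α).filter
      fun a => (Quotient.mk (MulAction.orbitRel P α) a) = Quotient.mk _ b)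
      = (MulAction.orbit P b).toFinset := by
    ext a
    simp only [Finset.mem_filter, Finset.mem_univ, true_and, Set.mem_toFinset, Quotient.eq,
      MulAction.orbitRel_apply]
    refine ⟨fun h => h.2, fun h => ⟨fun ha => hb ?_, h⟩⟩
    obtain ⟨u, hu⟩ := h
    rw [MulAction.mem_fixedPoints] at ha ⊢
    have hbb : b = a := by
      have h1 := ha u⁻¹
      rw [← hu, inv_smul_smul] at h1
      exact h1.trans hu
    exact hbb ▸ ha
  have hconst : ∀ a ∈ (MulAction.orbit P b).toFinset, f a = f b := by
    intro a ha
    obtain ⟨u, rfl⟩ := Set.mem_toFinset.mp ha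
    exact hf u b
  rw [hset, Finset.sum_congr rfl hconst, Finset.sum_const]
  obtain ⟨n, hn⟩ := hP.card_orbit b
  rw [Nat.card_eq_card_toFinset] at hn
  rw [hn]
  rcases n with _ | n
  · exfalso
    refine hb (MulAction.mem_fixedPoints.mpr fun u => ?_)
    exact Finset.card_le_one.mp (le_of_eq (by simpa using hn)) _
      (Set.mem_toFinset.mpr (MulAction.mem_orbit b u)) _
      (Set.mem_toFinset.mpr (MulAction.mem_orbit_self b))
  · rw [pow_succ, mul_smul]
    exact S.nsmul_mem (hS b) _

open scoped Classical in
/-- The sum of a `P`-conjugation invariant function on `G` over the elements outside the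
centraliser of the `p`-subgroup `P`. -/
theorem conj_sum_not_centralizer_mem {G A : Type*} [Group G] [Fintype G] [AddCommMonoid A] {p : ℕ}
    [Fact p.Prime] {P : Subgroup G} (hP : IsPGroup p P) (f : G → A)
    (hf : ∀ u ∈ P, ∀ x : G, f (u * x * u⁻¹) = f x) (S : AddSubmonoid A) (hS : ∀ x, p • f x ∈ S) :
    ∑ x ∈ Finset.univ.filter (fun x => x ∉ Subgroup.centralizer (P : Set G)), f x ∈ S := by
  letI : MulAction P G := MulAction.compHom G (MulAut.conj.comp P.subtype)
  have hsmul : ∀ (u : P) (x : G), u • x = (u : G) * x * (u : G)⁻¹ := fun u x => rfl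
  have h := sum_not_fixed_mem hP f (fun u x => by rw [hsmul]; exact hf u u.2 x) S hS
  convert! h using 2
  ext x
  simp only [Finset.mem_filter, Finset.mem_univ, true_and, MulAction.mem_fixedPoints, hsmul,
    Subgroup.mem_centralizer_iff, SetLike.mem_coe, mul_inv_eq_iff_eq_mul, Subtype.forall]

open scoped Classical in
/-- Splitting the sum over `G` at the centraliser of `P`. -/
theorem conj_sum_eq_sum_centralizer_add {G A : Type*} [Group G] [Fintype G] [AddCommMonoid A]
    {P : Subgroup G} (f : G → A) :
    ∑ x, f x = ∑ x ∈ Finset.univ.filter (fun x => x ∈ Subgroup.centralizer (P : Set G)), f x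
      + ∑ x ∈ Finset.univ.filter (fun x => x ∉ Subgroup.centralizer (P : Set G)), f x :=
  (Finset.sum_filter_add_sum_filter_not _ _ f).symm

end Cfsg.Agent.Blocks
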