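import Cfsg.Agent.Lib.Blocks.Osima
import Cfsg.Agent.Lib.Blocks.Trace
import Cfsg.Agent.Lib.Transfer.Residual
import Cfsg.Agent.Lib.CharApp.Schur

/-!
# Weak block orthogonality

`weak_orth`: if the idempotent of `A` has local integer coefficients, `p ∤ orderOf x` and
`p ∣ orderOf y` then `∑ χ ∈ A, χ x * conj (χ y) = 0`.  Proof: the lattice with that idempotent,
cut by the idempotents of the `p'`-group generated by `(u, x)`, is projective over the `p`-part of `y`.
`intRing_of_weak_orth`: conversely this orthogonality makes the idempotent integral.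
-/

set_option autoImplicit false

open scoped ComplexConjugate

namespace Cfsg.Agent.Blocks

open Cfsg

variable {G : Type*} [Group G] [Finite G] {p : ℕ} {M : Ideal AlgInt}

open scoped IsMulCommutative in
/-- The sum of an integral central idempotent over `s⁻¹ * a * x * a⁻¹ * u⁻¹` vanishes. -/
theorem sum_idem_conj_eq_zero [Fintype G] [Fact p.Prime] (hM : IsPModular p M) {e : G → ℂ}
    (he : IsClassFunction G e) (heR : ∀ g, MemLocalRing M (e g)) (hee : conv e e = e) {s u x : G}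
    (hsu : Commute s u) (hs : ∃ k, orderOf s = p ^ k) (hs1 : s ≠ 1) (hu : ¬ p ∣ orderOf u)
    (hx : ¬ p ∣ orderOf x) : ∑ a, e (s⁻¹ * a * x * a⁻¹ * u⁻¹) = 0 := by
  classical
  let Λ : Subgroup (G × G) := Subgroup.zpowers ((u, x) : G × G)
  haveI : NeZero (Monoid.exponent Λ : ℂ) :=
    ⟨Nat.cast_ne_zero.mpr Monoid.exponent_ne_zero_of_finite⟩
  have hΛ : ¬ p ∣ Nat.card Λ := by
    rw [Nat.card_zpowers, Prod.orderOf_mk]
    exact fun hd => ((hM.1.dvd_mul.mp (dvd_trans hd (Nat.lcm_dvd_mul _ _))).elim hu hx)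
  let H : Subgroup G := Subgroup.zpowers s
  have hH : IsPGroup p H := by
    obtain ⟨k, hk⟩ := hs
    exact IsPGroup.of_card (n := k) (by rw [Nat.card_zpowers, hk])
  have hΛH : ∀ l : Λ, ∀ h ∈ H, Commute h (l : G × G).1 := by
    rintro l h hh
    obtain ⟨i, hi⟩ := Subgroup.mem_zpowers_iff.mp l.2
    obtain ⟨j, rfl⟩ := Subgroup.mem_zpowers_iff.mp hh
    rw [← hi]
    exact hsu.zpow_zpow _ _
  let c : ℂ := (Nat.card Λ : ℂ)⁻¹
  have hval : ∀ (φ : Λ →* ℂˣ) (l : Λ), MemLocalRing M (φ l : ℂ) := by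
    intro φ l
    have h1 : (φ l : ℂ) ^ Nat.card Λ = 1 := by
      rw [← Units.val_pow_eq_pow_val, ← map_pow, pow_card_eq_one', map_one, Units.val_one]
    exact memR_of_isIntegral hM (IsIntegral.of_pow Nat.card_pos (h1 ▸ isIntegral_one))
  let E : (Λ →* ℂˣ) → G → G → ℂ := fun φ a b =>
    c * ∑ l : Λ, (φ l : ℂ) * e (a * (l : G × G).2 * b⁻¹ * (l : G × G).1⁻¹)
  have hidem : ∀ φ a b, ∑ d, E φ a d * E φ d b = E φ a b := by
    intro φ a b
    have hterm : ∀ l k : Λ, ∑ d, (e (a * (l : G × G).2 * d⁻¹ * (l : G × G).1⁻¹) *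
          e (d * (k : G × G).2 * b⁻¹ * (k : G × G).1⁻¹))
        = e (a * ((l * k : Λ) : G × G).2 * b⁻¹ * ((l * k : Λ) : G × G).1⁻¹) := by
      intro l k
      conv_rhs => rw [← hee, conv_eq_sum]
      refine Fintype.sum_bijective
        (fun d => a * (l : G × G).2 * d⁻¹ * (l : G × G).1⁻¹) ?_ _ _ fun d => ?_
      · exact (Group.mulRight_bijective _).comp
          ((Group.mulLeft_bijective _).comp (inv_involutive.bijective))
      · congr 1
        refine classFunction_eq_of_isConj he (isConj_iff.mpr ⟨(l : G × G).1, ?_⟩)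
        simp only [Subgroup.coe_mul, Prod.fst_mul, Prod.snd_mul]
        group
    calc ∑ d, E φ a d * E φ d b
        = c * (c * ∑ l : Λ, ∑ k : Λ, (φ (l * k) : ℂ) *
            e (a * ((l * k : Λ) : G × G).2 * b⁻¹ * ((l * k : Λ) : G × G).1⁻¹)) := by
          simp only [E, mul_mul_mul_comm c, ← Finset.mul_sum, ← mul_assoc c c]
          congr 1
          simp only [Finset.sum_mul_sum]
          rw [Finset.sum_comm]
          refine Finset.sum_congr rfl fun l _ => ?_
          rw [Finset.sum_comm]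
          refine Finset.sum_congr rfl fun k _ => ?_
          rw [← hterm l k, Finset.mul_sum, map_mul, Units.val_mul]
          exact Finset.sum_congr rfl fun d _ => by ring
      _ = E φ a b := by
          simp only [E]
          congr 1
          have h1 : ∀ l : Λ, ∑ k : Λ, (φ (l * k) : ℂ) *
              e (a * ((l * k : Λ) : G × G).2 * b⁻¹ * ((l * k : Λ) : G × G).1⁻¹)
            = ∑ k : Λ, (φ k : ℂ) * e (a * (k : G × G).2 * b⁻¹ * (k : G × G).1⁻¹) :=
            fun l => Fintype.sum_equiv (Equiv.mulLeft l) _ _ fun k => rfl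
          simp only [h1, Finset.sum_const, nsmul_eq_mul, Finset.card_univ]
          rw [← mul_assoc, ← Nat.card_eq_fintype_card, inv_mul_cancel₀
            (Nat.cast_ne_zero.mpr Nat.card_pos.ne'), one_mul]
  have hinv : ∀ φ, ∀ h ∈ H, ∀ a b, E φ (h * a) (h * b) = E φ a b := by
    intro φ h hh a b
    simp only [E]
    congr 1
    refine Finset.sum_congr rfl fun l _ => ?_
    congr 1
    have hc : h⁻¹ * (l : G × G).1⁻¹ = (l : G × G).1⁻¹ * h⁻¹ :=
      ((hΛH l h hh).inv_inv).eq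
    rw [← he (a * (l : G × G).2 * b⁻¹ * (l : G × G).1⁻¹) h]
    congr 1
    simp only [mul_inv_rev, mul_assoc, hc]
  have hR : ∀ φ a b, MemLocalRing M (E φ a b) := fun φ a b =>
    memR_mul hM (memR_natCast_inv hM hΛ) (memR_sum hM _ fun l _ => memR_mul hM (hval φ l) (heR _))
  have hzero : ∀ φ, ∑ a, E φ (s⁻¹ * a) a = 0 := fun φ =>
    sum_translate_eq_zero hM (E φ) hH (hR φ) (hinv φ) (hidem φ)
      (h₀ := ⟨s⁻¹, H.inv_mem (Subgroup.mem_zpowers s)⟩)
      (fun h => hs1 (inv_eq_one.mp (congrArg Subtype.val h)))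
  letI : Fintype (Λ →* ℂˣ) := by
    haveI : Finite (Λ →* ℂˣ) := Finite.of_equiv Λ
      (CommGroup.monoidHom_mulEquiv_of_hasEnoughRootsOfUnity Λ ℂ).some.symm.toEquiv
    exact Fintype.ofFinite _
  have horth : ∀ l : Λ, l ≠ 1 → ∑ φ : Λ →* ℂˣ, (φ l : ℂ) = 0 := by
    intro l hne
    obtain ⟨ψ, hψ⟩ := CommGroup.exists_apply_ne_one_of_hasEnoughRootsOfUnity Λ ℂ hne
    have h1 : ∑ φ : Λ →* ℂˣ, (φ l : ℂ) = (ψ l : ℂ) * ∑ φ : Λ →* ℂˣ, (φ l : ℂ) := by
      rw [Finset.mul_sum]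
      exact (Fintype.sum_equiv (Equiv.mulLeft ψ) _ _ fun φ => by simp).symm
    by_contra h0
    exact hψ (Units.val_eq_one.mp (mul_eq_right₀ h0 |>.mp h1.symm))
  let l₀ : Λ := ⟨(u, x), Subgroup.mem_zpowers _⟩
  have h1 : ∑ φ : Λ →* ℂˣ, (φ l₀⁻¹ : ℂ) * ∑ a, E φ (s⁻¹ * a) a = 0 := by simp [hzero]
  simp only [E, ← Finset.mul_sum, mul_left_comm _ c] at h1
  have h2 := (mul_eq_zero.mp h1).resolve_left (inv_ne_zero (Nat.cast_ne_zero.mpr Nat.card_pos.ne'))
  simp only [Finset.mul_sum] at h2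
  rw [Finset.sum_comm] at h2
  simp only [Finset.sum_comm (γ := Λ →* ℂˣ) (α := Λ)] at h2
  have h3 : ∀ a, ∑ l : Λ, ∑ φ : Λ →* ℂˣ, (φ l₀⁻¹ : ℂ) * ((φ l : ℂ) *
      e (s⁻¹ * a * (l : G × G).2 * a⁻¹ * (l : G × G).1⁻¹))
      = (Fintype.card (Λ →* ℂˣ) : ℂ) * e (s⁻¹ * a * x * a⁻¹ * u⁻¹) := by
    intro a
    rw [Finset.sum_eq_single l₀]
    · simp only [← mul_assoc ((_ : ℂˣ) : ℂ), ← Units.val_mul, ← map_mul, inv_mul_cancel, map_one,
        Units.val_one, one_mul, Finset.sum_const, nsmul_eq_mul, Finset.card_univ, l₀]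
    · intro l _ hne
      simp only [← mul_assoc ((_ : ℂˣ) : ℂ), ← Units.val_mul, ← map_mul, ← Finset.sum_mul]
      rw [horth _ (by rwa [ne_eq, inv_mul_eq_one, eq_comm]), zero_mul]
    · simp
  simp only [h3, ← Finset.mul_sum] at h2
  exact (mul_eq_zero.mp h2).resolve_left (Nat.cast_ne_zero.mpr Fintype.card_ne_zero)

/-- Weak block orthogonality, for any set of characters with integral idempotent. -/
theorem weak_orth (hM : IsPModular p M) {A : Set (IrrCharacter G)}
    (hA : blockInd A ∈ intRing hM) {x y : G} (hx : ¬ p ∣ orderOf x) (hy : p ∣ orderOf y) :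
    ∑ᶠ χ ∈ A, (χ : G → ℂ) x * conj ((χ : G → ℂ) y) = 0 := by
  classical
  haveI : Fact p.Prime := ⟨hM.1⟩
  have := Fintype.ofFinite G
  have := Fintype.ofFinite (IrrCharacter G)
  obtain ⟨s, u, hyeq, hs, hu, ⟨k, hk⟩, huo⟩ := Transfer.exists_pPart_mul (p := p) y⁻¹
  have hsu : Commute s u := by
    obtain ⟨i, rfl⟩ := Subgroup.mem_zpowers_iff.mp hs
    obtain ⟨j, rfl⟩ := Subgroup.mem_zpowers_iff.mp hu
    exact (Commute.refl y⁻¹).zpow_zpow i j
  have hup : ¬ p ∣ orderOf u := (hM.1.coprime_iff_not_dvd).mp huo.symm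
  have hs1 : s ≠ 1 := by
    rintro rfl
    rw [one_mul] at hyeq
    exact hup (hyeq ▸ (orderOf_inv y).symm ▸ hy)
  have key := sum_idem_conj_eq_zero hM (e := ofOmega (blockInd A)) (isClassFunction_ofOmega _)
    (fun g => hA g) (by rw [← ofOmega_mul, blockInd_mul_self])
    (Commute.inv_left hsu).inv_right
    ⟨k, by rw [orderOf_inv, hk]⟩ (inv_ne_one.mpr hs1) (by rwa [orderOf_inv]) hx
  have hval : ∀ a, ofOmega (blockInd A) (s⁻¹⁻¹ * a * x * a⁻¹ * u⁻¹⁻¹) =
      (Nat.card G : ℂ)⁻¹ * ∑ χ : IrrCharacter G, blockInd A χ * (χ : G → ℂ) 1 *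
        conj ((χ : G → ℂ) (a * x * a⁻¹ * y⁻¹)) := by
    intro a
    rw [classFunction_eq_of_isConj (isClassFunction_ofOmega _)
      (x := s⁻¹⁻¹ * a * x * a⁻¹ * u⁻¹⁻¹) (y := a * x * a⁻¹ * y⁻¹)
      (isConj_iff.mpr ⟨s⁻¹, by rw [hyeq, hsu.eq]; group⟩), ofOmega_eq_sum]
  simp only [hval, ← Finset.mul_sum] at key
  have key2 := (mul_eq_zero.mp key).resolve_left (inv_ne_zero card_ne_zero_C)
  rw [Finset.sum_comm] at key2
  have hsum : ∀ χ : IrrCharacter G,
      ∑ a, blockInd A χ * (χ : G → ℂ) 1 * conj ((χ : G → ℂ) (a * x * a⁻¹ * y⁻¹))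
        = (Nat.card G : ℂ) * (blockInd A χ * ((χ : G → ℂ) y * conj ((χ : G → ℂ) x))) := by
    intro χ
    obtain ⟨n, ρ, hirr, hρ⟩ := χ.2
    have hχ := Char.IsIrrCharacter.isCharacter χ.2
    have hn : (Module.finrank ℂ (Fin n → ℂ) : ℂ) = (χ : G → ℂ) 1 := by
      rw [← hρ, Representation.char_one]
    rw [← Finset.mul_sum, ← map_sum, ← hρ, CharApp.sum_char_conj_mul ρ x y⁻¹, hρ, hn, map_div₀,
      map_mul, map_mul, Char.IsCharacter.apply_inv hχ, Complex.conj_conj,
      Char.IsCharacter.conj_apply_one hχ, Complex.conj_natCast]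
    have := irr_one_ne_zero χ
    field_simp
  simp only [hsum, ← Finset.mul_sum] at key2
  have key3 := congrArg conj ((mul_eq_zero.mp key2).resolve_left card_ne_zero_C)
  rw [map_sum, map_zero] at key3
  rw [finsum_mem_def, finsum_eq_sum_of_fintype, ← key3]
  refine Finset.sum_congr rfl fun χ _ => ?_
  by_cases h : χ ∈ A
  · rw [Set.indicator_of_mem h, blockInd_of_mem h, one_mul, map_mul, Complex.conj_conj]
    ring
  · rw [Set.indicator_of_notMem h, blockInd_of_notMem h, zero_mul, map_zero]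

/-- For the columns of weak orthogonality the block idempotent vanishes at `p`-singular elements. -/
theorem ofOmega_singular_eq_zero (hM : IsPModular p M) {A : Set (IrrCharacter G)}
    (hA : blockInd A ∈ intRing hM) {y : G} (hy : p ∣ orderOf y) : ofOmega (blockInd A) y = 0 := by
  have h := weak_orth hM hA (x := 1) (by simpa using hM.1.one_lt.ne') hy
  rw [← blockCoeff_eq_ofOmega, blockCoeff, h, mul_zero]

end Cfsg.Agent.Blocks
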