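import Cfsg.Agent.Lib.Blocks.NilOmega
import Cfsg.Agent.Lib.Blocks.WeakOrth
import Cfsg.Agent.Lib.Char.Integral

/-!
# Defect, degrees and defect groups

`charDegree_cast`, `charDegree_pos`, `charDegree_dvd_card`; `isIntegral_avg` (the average of a
character over a coset `g D`, `g` centralising `D`); `pRegular_of_blockCoeff`;
`pow_dvd_charDegree` and `exists_charDegree_not_dvd` (the degrees in a block against a defect
group); `card_defectGroup`; singleton blocks.
-/

set_option autoImplicit false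

open scoped ComplexConjugate

namespace Cfsg.Agent.Blocks

open Cfsg

variable {G : Type*} [Group G] [Finite G]

theorem charDegree_cast (χ : IrrCharacter G) :
    ((charDegree (χ : G → ℂ) : ℕ) : ℂ) = (χ : G → ℂ) 1 := by
  obtain ⟨n, hn⟩ := Char.IsCharacter.exists_degree (Char.IsIrrCharacter.isCharacter χ.2)
  rw [charDegree, hn, Complex.natCast_re, Nat.floor_natCast]

theorem charDegree_pos (χ : IrrCharacter G) : 0 < charDegree (χ : G → ℂ) := by
  refine Nat.pos_of_ne_zero fun h => irr_one_ne_zero χ ?_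
  rw [← charDegree_cast, h, Nat.cast_zero]

theorem charDegree_dvd_card (χ : IrrCharacter G) : charDegree (χ : G → ℂ) ∣ Nat.card G := by
  obtain ⟨n, _, hn, hdvd⟩ := Char.IsIrrCharacter.degree_dvd_card χ.2
  have h : (charDegree (χ : G → ℂ) : ℂ) = (n : ℂ) := (charDegree_cast χ).trans hn
  rwa [Nat.cast_inj.mp h]

omit [Finite G] in
theorem isIntegral_trace_of_pow_eq {V : Type*} [AddCommGroup V] [Module ℂ V] [FiniteDimensional ℂ V]
    (T : Module.End ℂ V) {m : ℕ} (hm : 0 < m) (hT : T ^ (m + 1) = T) :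
    IsIntegral ℤ (LinearMap.trace ℂ V T) := by
  classical
  let b := Module.finBasis ℂ V
  rw [LinearMap.trace_eq_matrix_trace ℂ b, Matrix.trace_eq_sum_roots_charpoly]
  refine IsIntegral.multiset_sum fun r hr => ?_
  rw [LinearMap.charpoly_toMatrix] at hr
  have hev : Module.End.HasEigenvalue T r :=
    (Module.End.hasEigenvalue_iff_isRoot_charpoly T r).mpr (Polynomial.isRoot_of_mem_roots hr)
  obtain ⟨v, hv⟩ := hev.exists_hasEigenvector
  have h1 : r ^ (m + 1) • v = r • v := by
    rw [← hv.pow_apply, hT, hv.apply_eq_smul]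
  have h2 : r ^ (m + 1) = r := smul_left_injective ℂ hv.2 h1
  by_cases hr0 : r = 0
  · rw [hr0]; exact isIntegral_zero
  · refine IsIntegral.of_pow hm ?_
    rw [pow_succ] at h2
    rw [(mul_eq_right₀ hr0).mp h2]
    exact isIntegral_one

/-- The average of a character over `g D`, `g` centralising `D`, is an algebraic integer. -/
theorem isIntegral_avg {χ : G → ℂ} (hχ : IsCharacter G χ) (D : Subgroup G) [Fintype D] {g : G}
    (hg : g ∈ Subgroup.centralizer (D : Set G)) :
    IsIntegral ℤ ((Nat.card D : ℂ)⁻¹ * ∑ u : D, χ (g * u)) := by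
  obtain ⟨n, ρ, rfl⟩ := hχ
  let A : Module.End ℂ (Fin n → ℂ) := (Nat.card D : ℂ)⁻¹ • ∑ u : D, ρ (u : G)
  have hAρ : ∀ v : D, ρ (v : G) * A = A := by
    intro v
    simp only [A, mul_smul_comm, Finset.mul_sum, ← map_mul]
    congr 1
    exact Fintype.sum_equiv (Equiv.mulLeft v) _ _ fun u => by simp
  have hAA : A * A = A := by
    calc A * A = ((Nat.card D : ℂ)⁻¹ • ∑ u : D, ρ (u : G)) * A := rfl
      _ = (Nat.card D : ℂ)⁻¹ • ∑ u : D, ρ (u : G) * A := by rw [smul_mul_assoc, Finset.sum_mul]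
      _ = A := by
        simp only [hAρ, Finset.sum_const, Finset.card_univ, ← Nat.card_eq_fintype_card]
        rw [← Nat.cast_smul_eq_nsmul ℂ, smul_smul,
          inv_mul_cancel₀ (Nat.cast_ne_zero.mpr Nat.card_pos.ne'), one_smul]
  have hc : Commute (ρ g) A := by
    refine Commute.smul_right (Commute.sum_right _ _ _ fun u _ => ?_) _
    exact Commute.map (show Commute g (u : G) from (Subgroup.mem_centralizer_iff.mp hg u u.2).symm) ρ
  have hpow : ∀ k, A ^ (k + 1) = A := by
    intro k
    induction k with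
    | zero => exact pow_one A
    | succ k ih => rw [pow_succ, ih, hAA]
  have hT : (ρ g * A) ^ (orderOf g + 1) = ρ g * A := by
    rw [hc.mul_pow, hpow, pow_succ, ← map_pow, pow_orderOf_eq_one, map_one, one_mul]
  have h := isIntegral_trace_of_pow_eq _ (orderOf_pos g) hT
  simp only [A, mul_smul_comm, map_smul, Finset.mul_sum, map_sum, ← map_mul, smul_eq_mul] at h
  simpa [Representation.character, Finset.mul_sum] using h

variable {p : ℕ} {M : Ideal AlgInt} (hM : IsPModular p M)
include hM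

theorem pRegular_of_blockCoeff {B : Set (IrrCharacter G)} (hB : IsPBlock M B) {g : G}
    (hg : ¬ MemLocalIdeal M (blockCoeff B g)) : ¬ p ∣ orderOf g := fun h => hg (by
  rw [blockCoeff_eq_ofOmega, ofOmega_singular_eq_zero hM (blockInd_mem_intRing hM hB) h]
  exact memI_zero hM)

/-- A representative of a defect class determines a divisor of all degrees in the block. -/
theorem pow_dvd_charDegree [Fact p.Prime] {B : Set (IrrCharacter G)} {χ : IrrCharacter G}
    (hχ : χ ∈ B) {D : Subgroup G} (hD : IsDefectGroup p M B D) {e : ℕ}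
    (he : p ^ e * Nat.card D ∣ Nat.card G) : p ^ e ∣ charDegree (χ : G → ℂ) := by
  obtain ⟨g, hg, hgD⟩ := hD
  set C := Subgroup.centralizer ({g} : Set G)
  have hω := hg.2.2 χ hχ
  have h1 := memR_mul hM (memR_of_isIntegral hM (isIntegral_irr χ g))
    (memR_inv hM (memR_centralChar hM χ g) hω)
  have hidx : p ^ e ∣ C.index := by
    rw [← C.index_mul_card, sylowIn_card hgD] at he
    obtain ⟨r, hr⟩ := he
    have hp : p.Prime := Fact.out
    obtain ⟨m, hm, hCm⟩ : ∃ m, ¬ p ∣ m ∧ Nat.card C = p ^ (Nat.card C).factorization p * m :=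
      ⟨_, Nat.not_dvd_ordCompl hp Nat.card_pos.ne', (Nat.ordProj_mul_ordCompl_eq_self _ p).symm⟩
    have h2 : C.index * m = p ^ e * r := by
      apply Nat.eq_of_mul_eq_mul_left (pow_pos hp.pos ((Nat.card C).factorization p))
      calc p ^ (Nat.card C).factorization p * (C.index * m)
          = C.index * (p ^ (Nat.card C).factorization p * m) := by ring
        _ = p ^ e * p ^ (Nat.card C).factorization p * r := by rw [← hCm, hr]
        _ = _ := by ring
    exact (Nat.Coprime.pow_left e (hp.coprime_iff_not_dvd.mpr hm)).dvd_of_dvd_mul_right ⟨r, h2⟩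
  obtain ⟨r, hr⟩ := hidx
  refine dvd_of_memR_div hM (e := e) ?_
  have h3 : (charDegree (χ : G → ℂ) : ℂ) / (p : ℂ) ^ e
      = (r : ℂ) * ((χ : G → ℂ) g * (centralChar (χ : G → ℂ) g)⁻¹) := by
    rw [charDegree_cast]
    have hne := ne_zero_of_not_memI hM hω
    have hpe : (p : ℂ) ^ e ≠ 0 := pow_ne_zero _ (by exact_mod_cast hM.1.ne_zero)
    have h4 : centralChar (χ : G → ℂ) g * (χ : G → ℂ) 1 = (p : ℂ) ^ e * r * (χ : G → ℂ) g := by
      rw [centralChar, div_mul_cancel₀ _ (irr_one_ne_zero χ), hr]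
      push_cast
      ring
    field_simp
    linear_combination h4
  rw [h3]
  exact memR_mul hM (memR_natCast hM r) h1

/-- Some degree in the block is as small as the defect group allows. -/
theorem exists_charDegree_not_dvd [Fact p.Prime] {B : Set (IrrCharacter G)} (hB : IsPBlock M B)
    {D : Subgroup G} (hD : IsDefectGroup p M B D) {e m : ℕ} (hm : ¬ p ∣ m)
    (he : p ^ e * Nat.card D * m = Nat.card G) :
    ∃ χ ∈ B, ¬ p ^ (e + 1) ∣ charDegree (χ : G → ℂ) := by
  classical
  have := Fintype.ofFinite G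
  have := Fintype.ofFinite (IrrCharacter G)
  obtain ⟨g, hg, hgD⟩ := hD
  by_contra hcon
  push Not at hcon
  have hgC : g ∈ Subgroup.centralizer (D : Set G) := le_centralizer_singleton.mp (sylowIn_le hgD)
  have hgC' : g⁻¹ ∈ Subgroup.centralizer (D : Set G) := Subgroup.inv_mem _ hgC
  have hreg := pRegular_of_blockCoeff hM hB hg.2.1
  set f : G → ℂ := ofOmega (blockInd B)
  have hzero : ∀ u : D, u ≠ 1 → f (g * u) = 0 := by
    intro u hu
    refine ofOmega_singular_eq_zero hM (blockInd_mem_intRing hM hB) ?_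
    have hcomm : Commute g (u : G) := (Subgroup.mem_centralizer_iff.mp hgC u u.2).symm
    obtain ⟨k, hk⟩ := IsPGroup.iff_orderOf.mp (sylowIn_isPGroup hgD) u
    rw [← Subgroup.orderOf_coe] at hk
    have hpk : p ∣ p ^ k := by
      refine dvd_pow_self p fun h0 => hu ?_
      rw [h0, pow_zero, orderOf_eq_one_iff] at hk
      exact Subtype.ext hk
    have hco : Nat.Coprime (orderOf g) (orderOf (u : G)) := by
      rw [hk]
      exact Nat.Coprime.pow_right _ ((hM.1.coprime_iff_not_dvd).mpr hreg).symm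
    rw [hcomm.orderOf_mul_eq_mul_orderOf_of_coprime hco, hk]
    exact dvd_mul_of_dvd_right hpk _
  have hsum : ∑ u : D, f (g * u) = blockCoeff B g := by
    rw [Finset.sum_eq_single (1 : D)]
    · simp [f, blockCoeff_eq_ofOmega]
    · exact fun u _ hu => hzero u hu
    · simp
  have hexp : ∑ u : D, f (g * u) = (Nat.card G : ℂ)⁻¹ * ∑ χ : IrrCharacter G,
      blockInd B χ * (χ : G → ℂ) 1 * ∑ u : D, (χ : G → ℂ) (g⁻¹ * u) := by
    simp only [f, ofOmega_eq_sum, ← Finset.mul_sum]
    rw [Finset.sum_comm]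
    simp only [Finset.mul_sum]
    refine Finset.sum_congr rfl fun χ _ => ?_
    refine Fintype.sum_equiv (Equiv.inv D) _ _ fun u => ?_
    rw [← Char.IsCharacter.apply_inv (Char.IsIrrCharacter.isCharacter χ.2), Equiv.inv_apply,
      Subgroup.coe_inv, mul_inv_rev,
      (Subgroup.mem_centralizer_iff.mp hgC' _ (D.inv_mem u.2) : (u : G)⁻¹ * g⁻¹ = g⁻¹ * (u : G)⁻¹)]
  refine hg.2.1 ?_
  rw [← hsum, hexp]
  have hp0 : (p : ℂ) ≠ 0 := by exact_mod_cast hM.1.ne_zero
  have hm0 : (m : ℂ) ≠ 0 := by exact_mod_cast fun h : m = 0 => hm (h ▸ dvd_zero p)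
  have hD0 : (Nat.card D : ℂ) ≠ 0 := Nat.cast_ne_zero.mpr Nat.card_pos.ne'
  rw [Finset.mul_sum]
  refine memI_sum hM _ fun χ _ => ?_
  by_cases hχ : χ ∈ B
  · obtain ⟨r, hr⟩ := hcon χ hχ
    have key : (Nat.card G : ℂ)⁻¹ *
        (blockInd B χ * (χ : G → ℂ) 1 * ∑ u : D, (χ : G → ℂ) (g⁻¹ * u))
        = (p : ℂ) * ((r : ℂ) * ((m : ℂ)⁻¹ *
          ((Nat.card D : ℂ)⁻¹ * ∑ u : D, (χ : G → ℂ) (g⁻¹ * u)))) := by
      rw [blockInd_of_mem hχ, ← charDegree_cast, hr, ← he]
      push_cast
      field_simp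
      ring
    rw [key]
    exact memI_mul_right hM (memI_p hM) (memR_mul hM (memR_natCast hM r) (memR_mul hM
      (memR_natCast_inv hM hm) (memR_of_isIntegral hM
        (isIntegral_avg (Char.IsIrrCharacter.isCharacter χ.2) D hgC'))))
  · rw [blockInd_of_notMem hχ, zero_mul, zero_mul, mul_zero]
    exact memI_zero hM

theorem card_defectGroup [Fact p.Prime] {B : Set (IrrCharacter G)} (hB : IsPBlock M B)
    {D : Subgroup G} (hD : IsDefectGroup p M B D) : Nat.card D = p ^ blockDefect p B := by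
  have hp : p.Prime := Fact.out
  obtain ⟨k, hk⟩ := (isPGroup_defectGroup hM hD).exists_card_eq
  set a := (Nat.card G).factorization p with ha
  have hka : k ≤ a := by
    rw [ha, ← hp.pow_dvd_iff_le_factorization Nat.card_pos.ne', ← hk]
    exact Subgroup.card_subgroup_dvd_card D
  obtain ⟨m, hm, hN⟩ : ∃ m, ¬ p ∣ m ∧ Nat.card G = p ^ a * m :=
    ⟨_, Nat.not_dvd_ordCompl hp Nat.card_pos.ne', (Nat.ordProj_mul_ordCompl_eq_self _ p).symm⟩
  have he : p ^ (a - k) * Nat.card D * m = Nat.card G := by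
    rw [hk, ← pow_add, Nat.sub_add_cancel hka, hN]
  have hmin : sInf ((fun χ : IrrCharacter G => (charDegree (χ : G → ℂ)).factorization p) '' B)
      = a - k := by
    obtain ⟨χ, hχ, hnd⟩ := exists_charDegree_not_dvd hM hB hD hm he
    refine le_antisymm (le_trans (Nat.sInf_le ⟨χ, hχ, rfl⟩) ?_)
      (le_csInf ⟨_, χ, hχ, rfl⟩ ?_)
    · by_contra h
      push Not at h
      exact hnd ((hp.pow_dvd_iff_le_factorization (charDegree_pos χ).ne').mpr h)
    · rintro _ ⟨ψ, hψ, rfl⟩
      exact (hp.pow_dvd_iff_le_factorization (charDegree_pos ψ).ne').mp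
        (pow_dvd_charDegree hM hψ hD ⟨m, he.symm⟩)
  rw [hk, blockDefect, hmin, ← ha, Nat.sub_sub_self hka]

/-- A character alone in its block vanishes off the `p`-regular elements. -/
theorem apply_eq_zero_of_singleton {χ : IrrCharacter G}
    (h : blockOf M (χ : G → ℂ) = {χ}) {y : G} (hy : p ∣ orderOf y) : (χ : G → ℂ) y = 0 := by
  have hint := blockInd_mem_intRing hM (B := ({χ} : Set (IrrCharacter G))) ⟨χ, h.symm⟩
  have hA := weak_orth hM hint (x := 1) (by simpa using hM.1.one_lt.ne') hy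
  rw [finsum_mem_singleton] at hA
  simpa using (mul_eq_zero.mp hA).resolve_left (irr_one_ne_zero χ)

theorem singleton_iff_not_dvd (χ : IrrCharacter G) :
    ¬ p ∣ Nat.card G / charDegree (χ : G → ℂ) ↔ blockOf M (χ : G → ℂ) = {χ} := by
  classical
  have := Fintype.ofFinite G
  have := Fintype.ofFinite (IrrCharacter G)
  haveI : Fact p.Prime := ⟨hM.1⟩
  obtain ⟨k, hk⟩ := charDegree_dvd_card χ
  have hd := charDegree_pos χ
  rw [hk, Nat.mul_div_cancel_left k hd]
  constructor
  · intro hpk
    have hint : blockInd ({χ} : Set (IrrCharacter G)) ∈ intRing hM := by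
      intro g
      show MemLocalRing M _
      rw [ofOmega_eq_sum, Finset.sum_eq_single χ]
      · rw [blockInd_of_mem (Set.mem_singleton χ), hk, ← charDegree_cast χ]
        push_cast
        have h0 : (charDegree (χ : G → ℂ) : ℂ) ≠ 0 := Nat.cast_ne_zero.mpr hd.ne'
        rw [show ((charDegree (χ : G → ℂ) : ℂ) * k)⁻¹ *
          (1 * (charDegree (χ : G → ℂ) : ℂ) * conj ((χ : G → ℂ) g))
          = (k : ℂ)⁻¹ * conj ((χ : G → ℂ) g) by field_simp]
        refine memR_mul hM (memR_natCast_inv hM hpk) (memR_of_isIntegral hM ?_)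
        rw [← Char.IsCharacter.apply_inv (Char.IsIrrCharacter.isCharacter χ.2)]
        exact isIntegral_irr χ _
      · intro ψ _ hne
        rw [blockInd_of_notMem (by simpa using hne), zero_mul, zero_mul]
      · simp
    ext ψ
    exact ⟨fun h => mem_of_sameBlock hM hint (Set.mem_singleton χ) h,
      fun h => (Set.mem_singleton_iff.mp h) ▸ mem_blockOf_self hM χ⟩
  · intro h hpk
    obtain ⟨P⟩ : Nonempty (Sylow p G) := inferInstance
    have hPcard := P.card_eq_multiplicity
    set a := (Nat.card G).factorization p with ha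
    have hsum : ∑ u : (P : Subgroup G), (χ : G → ℂ) (1 * u) = (χ : G → ℂ) 1 := by
      rw [Finset.sum_eq_single (1 : (P : Subgroup G))]
      · simp
      · intro u _ hu
        rw [one_mul]
        refine apply_eq_zero_of_singleton hM h ?_
        obtain ⟨j, hj⟩ := IsPGroup.iff_orderOf.mp P.2 u
        rw [← Subgroup.orderOf_coe] at hj
        rw [hj]
        refine dvd_pow_self p fun h0 => hu ?_
        rw [h0, pow_zero, orderOf_eq_one_iff] at hj
        exact Subtype.ext hj
      · simp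
    have hint := isIntegral_avg (Char.IsIrrCharacter.isCharacter χ.2) (P : Subgroup G)
      (g := 1) (Subgroup.one_mem _)
    rw [hsum, ← charDegree_cast, hPcard, mul_comm, ← div_eq_mul_inv] at hint
    obtain ⟨r, hr⟩ := Char.nat_dvd_of_isIntegral_div (pow_pos hM.1.pos a).ne' hint
    obtain ⟨k', rfl⟩ := hpk
    have hdvd : p ^ (a + 1) ∣ Nat.card G := ⟨r * k', by rw [hk, hr]; ring⟩
    have := (hM.1.pow_dvd_iff_le_factorization Nat.card_pos.ne').mp hdvd
    omega

end Cfsg.Agent.Blocks
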