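import Cfsg.Agent.Lib.Blocks.Induced
import Cfsg.Agent.Lib.CharApp.Burnside

/-!
# Principal blocks of simple groups

`eq_one_of_principal_of_pow_degree`: in a non-abelian simple group a character of the principal block
of `p`-power degree is principal. `not_commute_order_prime`: in a non-abelian simple group of order
`p^a q^b r` no element of order `p` commutes with one of order `r`.
-/

set_option autoImplicit false

open scoped ComplexConjugate

namespace Cfsg.Agent.Blocks

open Cfsg Module

variable {G : Type*} [Group G] [Finite G]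

theorem principal_isPBlock {p : ℕ} {M : Ideal AlgInt} (hM : IsPModular p M) :
    IsPBlock M (principalBlock M G) ∧
      (⟨1, Char.isIrrCharacter_one⟩ : IrrCharacter G) ∈ principalBlock M G :=
  ⟨⟨⟨1, Char.isIrrCharacter_one⟩, rfl⟩, sameBlock_refl hM (1 : G → ℂ)⟩

/-- A non-abelian simple group has only the principal linear character. -/
theorem eq_one_of_degree_one [IsSimpleGroup G] (hna : ∃ a b : G, a * b ≠ b * a)
    {χ : IrrCharacter G} (h1 : (χ : G → ℂ) 1 = 1) : (χ : G → ℂ) = fun _ => 1 := by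
  obtain ⟨l, hl⟩ := Char.exists_hom_of_degree_one (Char.IsIrrCharacter.isCharacter χ.2) h1
  rw [← hl]
  let l' : G →* ℂˣ := l.toHomUnits
  rcases l'.normal_ker.eq_bot_or_eq_top with h | h
  · obtain ⟨a, b, hab⟩ := hna
    exact absurd (((MonoidHom.ker_eq_bot_iff _).mp h)
      (by rw [map_mul, map_mul, mul_comm] : l' (a * b) = l' (b * a))) hab
  · funext g
    exact congrArg Units.val (MonoidHom.mem_ker.mp (h ▸ Subgroup.mem_top g : g ∈ l'.ker))

theorem eq_one_of_principal_of_pow_degree {p : ℕ} {M : Ideal AlgInt} (hM : IsPModular p M)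
    [IsSimpleGroup G] (hna : ∃ a b : G, a * b ≠ b * a) {χ : IrrCharacter G}
    (hχ : χ ∈ principalBlock M G) {k : ℕ} (hdeg : (χ : G → ℂ) 1 = (p : ℂ) ^ k) :
    (χ : G → ℂ) = fun _ => 1 := by
  classical
  haveI : Fact p.Prime := ⟨hM.1⟩
  rcases Nat.eq_zero_or_pos k with rfl | hk
  · exact eq_one_of_degree_one hna (by simpa using hdeg)
  have hpG : p ∣ Nat.card G := by
    refine dvd_trans ?_ (charDegree_dvd_card χ)
    have h : charDegree (χ : G → ℂ) = p ^ k := by
      have h' := (charDegree_cast χ).trans hdeg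
      exact_mod_cast h'
    rw [h]
    exact dvd_pow_self p hk.ne'
  obtain ⟨P⟩ : Nonempty (Sylow p G) := inferInstance
  haveI : Nontrivial (P : Subgroup G) :=
    (Subgroup.nontrivial_iff_ne_bot _).mpr (P.ne_bot_of_dvd_card hpG)
  haveI : Nontrivial (Subgroup.center (P : Subgroup G)) := P.2.center_nontrivial
  obtain ⟨⟨⟨z, hzP⟩, hzc⟩, hz1⟩ := exists_ne (1 : Subgroup.center (P : Subgroup G))
  have hzne : z ≠ 1 := fun h => hz1 (Subtype.ext (Subtype.ext h))
  have hidx : ¬ p ∣ (Subgroup.centralizer ({z} : Set G)).index := by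
    refine fun hd => P.not_dvd_index (hd.trans (Subgroup.index_dvd_of_le fun u hu => ?_))
    exact mem_centralizer_singleton.mpr
      (congrArg Subtype.val (Subgroup.mem_center_iff.mp hzc ⟨u, hu⟩))
  have hcong := hχ z
  have h1 : centralChar (fun _ : G => (1 : ℂ)) z
      = ((Subgroup.centralizer ({z} : Set G)).index : ℂ) := by simp [centralChar]
  rw [h1] at hcong
  have hne : (χ : G → ℂ) z ≠ 0 := by
    intro h0
    rw [show centralChar (χ : G → ℂ) z = 0 by simp [centralChar, h0], sub_zero] at hcong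
    exact not_memI_natCast hM hidx hcong
  obtain ⟨n, ρ, hirr, hρ⟩ := χ.2
  have hfin : finrank ℂ (Fin n → ℂ) = p ^ k := by
    have h := Representation.char_one ρ
    rw [hρ, hdeg] at h
    exact_mod_cast h.symm
  have hnorm := (CharApp.zero_or_norm_eq_of_coprime ρ z
    (hfin ▸ Nat.Coprime.pow_left k (hM.1.coprime_iff_not_dvd.mpr hidx))).resolve_left (hρ ▸ hne)
  obtain ⟨c, hc⟩ := (Char.norm_character_eq_iff ρ z).mp hnorm
  let φ : G →* Module.End ℂ (Fin n → ℂ) := ρ
  exfalso
  rcases φ.toHomUnits.normal_ker.eq_bot_or_eq_top with h | h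
  · have hzZ : z ∈ Subgroup.center G := Subgroup.mem_center_iff.mpr fun x => by
      refine (MonoidHom.ker_eq_bot_iff _).mp h (Units.ext ?_)
      show ρ (x * z) = ρ (z * x)
      rw [map_mul, map_mul, hc, ← Module.End.one_eq_id, mul_smul_comm, smul_mul_assoc, one_mul,
        mul_one]
    rcases (inferInstance : (Subgroup.center G).Normal).eq_bot_or_eq_top with hZ | hZ
    · exact hzne (by rwa [hZ, Subgroup.mem_bot] at hzZ)
    · obtain ⟨a, b, hab⟩ := hna
      exact hab (Subgroup.mem_center_iff.mp (hZ ▸ Subgroup.mem_top b : b ∈ Subgroup.center G) a)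
  · have := Fintype.ofFinite G
    have hconst : ∀ g : G, (χ : G → ℂ) g = (χ : G → ℂ) 1 := fun g => by
      rw [← hρ]
      show LinearMap.trace ℂ _ (ρ g) = LinearMap.trace ℂ _ (ρ 1)
      rw [map_one, show ρ g = 1 from congrArg Units.val
        (MonoidHom.mem_ker.mp (h ▸ Subgroup.mem_top g : g ∈ φ.toHomUnits.ker))]
    have hne1 : (χ : G → ℂ) ≠ 1 := fun h' => by
      have h'' : (p : ℂ) ^ k = 1 := by rw [← hdeg, h']; rfl
      exact (Nat.one_lt_pow hk.ne' hM.1.one_lt).ne' (by exact_mod_cast h'')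
    have h0 := Char.classInner_irr_of_ne χ.2 Char.isIrrCharacter_one hne1
    simp only [classInner, hconst, Pi.one_apply, map_one, mul_one, Finset.sum_const,
      Finset.card_univ, nsmul_eq_mul, ← Nat.card_eq_fintype_card] at h0
    exact irr_one_ne_zero χ ((mul_eq_zero.mp ((mul_eq_zero.mp h0).resolve_left
      (inv_ne_zero card_ne_zero_C))).resolve_left card_ne_zero_C)

/-- No element of order `p` commutes with one of order `r` in a non-abelian simple group of order
`p ^ a * q ^ b * r`. -/
theorem not_commute_order_prime [IsSimpleGroup G] (hna : ∃ a b : G, a * b ≠ b * a)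
    {p q r a b : ℕ} (hp : p.Prime) (hq : q.Prime) (hr : r.Prime) (hpr : p ≠ r) (hqr : q ≠ r)
    (hcard : Nat.card G = p ^ a * q ^ b * r) {x z : G} (hx : orderOf x = r) (hz : orderOf z = p)
    (hxz : Commute x z) : False := by
  classical
  obtain ⟨Mp, hMp⟩ := exists_isPModular hp
  obtain ⟨Mq, hMq⟩ := exists_isPModular hq
  obtain ⟨Mr, hMr⟩ := exists_isPModular hr
  have := Fintype.ofFinite (IrrCharacter G)
  have hy : orderOf (x * z) = r * p := by
    rw [hxz.orderOf_mul_eq_mul_orderOf_of_coprime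
      (by rw [hx, hz]; exact (Nat.coprime_primes hr hp).mpr hpr.symm), hx, hz]
  obtain ⟨hB, h1B⟩ := principal_isPBlock (G := G) hMp
  have horth := weak_orth hMp (blockInd_mem_intRing hMp hB) (x := 1)
    (by simpa using hp.one_lt.ne') (y := x * z) (hy ▸ dvd_mul_left p r)
  rw [finsum_mem_def, finsum_eq_sum_of_fintype,
    ← Finset.add_sum_erase _ _ (Finset.mem_univ (⟨1, Char.isIrrCharacter_one⟩ : IrrCharacter G)),
    Set.indicator_of_mem h1B] at horth
  simp only [Pi.one_apply, map_one, one_mul] at horth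
  have hint : ∀ χ : IrrCharacter G, MemLocalRing Mq (conj ((χ : G → ℂ) (x * z))) := fun χ => by
    rw [← Char.IsCharacter.apply_inv (Char.IsIrrCharacter.isCharacter χ.2)]
    exact memR_of_isIntegral hMq (isIntegral_irr χ _)
  have hrest : MemLocalIdeal Mq (-1) := by
    rw [← eq_neg_of_add_eq_zero_right horth]
    refine memI_sum hMq _ fun χ hχ => ?_
    by_cases hχB : χ ∈ principalBlock Mp G
    swap
    · rw [Set.indicator_of_notMem hχB]; exact memI_zero hMq
    rw [Set.indicator_of_mem hχB, ← charDegree_cast]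
    by_cases hqd : q ∣ charDegree (χ : G → ℂ)
    · exact memI_mul_right hMq ((memI_natCast hMq).mpr hqd) (hint χ)
    have hdvd : charDegree (χ : G → ℂ) ∣ p ^ a * r := by
      have h := charDegree_dvd_card χ
      rw [hcard, mul_comm (p ^ a), mul_assoc] at h
      exact ((hq.coprime_iff_not_dvd.mpr hqd).symm.pow_right b).dvd_of_dvd_mul_left h
    by_cases hrd : r ∣ charDegree (χ : G → ℂ)
    · obtain ⟨d', hd'⟩ := hrd
      have hnd : ¬ r ∣ Nat.card G / charDegree (χ : G → ℂ) := by
        intro hdd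
        have h2 : r * r ∣ p ^ a * q ^ b * r := by
          rw [← hcard, ← Nat.div_mul_cancel (charDegree_dvd_card χ)]
          exact mul_dvd_mul hdd ⟨d', hd'⟩
        rcases hr.dvd_mul.mp ((Nat.mul_dvd_mul_iff_right hr.pos).mp h2) with h3 | h3
        · exact hpr ((Nat.prime_dvd_prime_iff_eq hr hp).mp (hr.dvd_of_dvd_pow h3)).symm
        · exact hqr ((Nat.prime_dvd_prime_iff_eq hr hq).mp (hr.dvd_of_dvd_pow h3)).symm
      rw [apply_eq_zero_of_singleton hMr ((singleton_iff_not_dvd hMr χ).mp hnd)
        (hy ▸ dvd_mul_right r p), map_zero, mul_zero]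
      exact memI_zero hMq
    · exfalso
      obtain ⟨i, -, hi⟩ := (Nat.dvd_prime_pow hp).mp
        ((hr.coprime_iff_not_dvd.mpr hrd).symm.dvd_of_dvd_mul_right hdvd)
      have hone := eq_one_of_principal_of_pow_degree hMp hna hχB (k := i)
        (by rw [← charDegree_cast, hi]; push_cast; rfl)
      exact (Finset.mem_erase.mp hχ).1 (Subtype.ext hone)
  exact not_memI_one hMq (neg_neg (1 : ℂ) ▸ memI_neg hrest)

end Cfsg.Agent.Blocks
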