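import Cfsg.Agent.Lib.Blocks.OrbitSum

/-!
# Nilpotent central elements of a group algebra in characteristic `p`

`isNilpotent_of_central_of_mapDomain`: a central element of `F[G]` killed by `F[G] → F[G ⧸ P]`, with
`P` a normal `p`-subgroup and `F` a field of characteristic `p`, is nilpotent.
`mapDomain_classSum_eq_zero`: the class sum of an element none of whose conjugates centralises `P`
dies in `F[G ⧸ P]`.
-/

set_option autoImplicit false

namespace Cfsg.Agent.Blocks

open MonoidAlgebra in
/-- In characteristic `p`, a nonzero invariant submodule has a nonzero vector fixed by a `p`-group. -/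
theorem exists_fixed_ne_zero {P V : Type*} [Group P] [Finite P] [AddCommGroup V]
    [DistribMulAction P V] {p : ℕ} [Fact p.Prime] [Module (ZMod p) V] (hP : IsPGroup p P)
    (W : AddSubgroup V) (hW : ∀ (u : P), ∀ v ∈ W, u • v ∈ W) (hne : W ≠ ⊥) :
    ∃ v ∈ W, v ≠ 0 ∧ ∀ u : P, u • v = v := by
  obtain ⟨v, hvW, hv⟩ : ∃ v ∈ W, v ≠ 0 := by
    by_contra h
    push Not at h
    exact hne ((AddSubgroup.eq_bot_iff_forall W).mpr h)
  let T : Submodule (ZMod p) V := Submodule.span (ZMod p) (Set.range fun u : P => u • v)
  have : Module.Finite (ZMod p) ↥T :=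
    Module.Finite.span_of_finite (ZMod p) (Set.finite_range fun u : P => u • v)
  have : Finite T := Module.finite_of_finite (ZMod p)
  have hT : ∀ (u : P), ∀ t ∈ T, u • t ∈ T := by
    intro u t ht
    have : (DistribSMul.toAddMonoidHom V u).toZModLinearMap p t ∈ T := by
      refine Submodule.span_induction ?_ (by simp) ?_ ?_ ht
      · rintro _ ⟨w, rfl⟩
        exact Submodule.subset_span ⟨u * w, by simp [mul_smul]⟩
      · intro a b _ _ ha hb
        rw [map_add]; exact T.add_mem ha hb
      · intro c a _ ha
        rw [map_smul]; exact T.smul_mem c ha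
    exact this
  have hTW : ∀ t ∈ T, t ∈ W := by
    intro t ht
    refine Submodule.span_induction ?_ W.zero_mem (fun _ _ _ _ => W.add_mem) ?_ ht
    · rintro _ ⟨w, rfl⟩
      exact hW w v hvW
    · intro c a _ ha
      rw [← ZMod.natCast_zmod_val c, Nat.cast_smul_eq_nsmul]
      exact W.nsmul_mem ha _
  letI : MulAction P T :=
    { smul := fun u t => ⟨u • (t : V), hT u t t.2⟩
      one_smul := fun t => Subtype.ext (one_smul P (t : V))
      mul_smul := fun a b t => Subtype.ext (mul_smul a b (t : V)) }
  have hvT : v ∈ T := Submodule.subset_span ⟨1, one_smul P v⟩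
  have : Nontrivial T := ⟨⟨v, hvT⟩, 0, fun h => hv (congrArg Subtype.val h)⟩
  obtain ⟨n, hn⟩ : ∃ n, Nat.card T = p ^ n := ⟨_, by
    rw [Module.natCard_eq_pow_finrank (K := ZMod p), Nat.card_zmod]⟩
  have hp : p ∣ Nat.card T := by
    rw [hn]
    refine dvd_pow_self p fun h0 => ?_
    have := Finite.one_lt_card (α := T)
    simp [hn, h0] at this
  obtain ⟨t, ht, hne'⟩ := hP.exists_fixed_point_of_prime_dvd_card_of_fixed_point T hp
    (a := (0 : T)) (MulAction.mem_fixedPoints.mpr fun u => Subtype.ext (smul_zero u))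
  exact ⟨t, hTW t t.2, fun h => hne' (Subtype.ext h).symm,
    fun u => congrArg Subtype.val (MulAction.mem_fixedPoints.mp ht u)⟩

open MonoidAlgebra in
/-- A central element of `F[G]` in the kernel of `F[G] → F[G ⧸ P]`, `P` a normal `p`-subgroup, is
nilpotent when `F` has characteristic `p`. -/
theorem isNilpotent_of_central_of_mapDomain {G : Type*} [Group G] [Finite G] {p : ℕ}
    [Fact p.Prime] {F : Type*} [Field F] [CharP F p] {P : Subgroup G} [P.Normal]
    (hP : IsPGroup p P) {z : MonoidAlgebra F G} (hz : ∀ y, z * y = y * z)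
    (hzP : mapDomainRingHom F (QuotientGroup.mk' P) z = 0) : IsNilpotent z := by
  let L : Module.End F (MonoidAlgebra F G) := LinearMap.mulLeft F z
  have : Module.Finite F (MonoidAlgebra F G) :=
    Module.Finite.equiv (MonoidAlgebra.coeffLinearEquiv F : MonoidAlgebra F G ≃ₗ[F] (G →₀ F)).symm
  obtain ⟨N, hN⟩ := Filter.eventually_atTop.mp L.eventually_disjoint_ker_pow_range_pow
  have hd := hN (N + 1) (Nat.le_succ N)
  have hLn : ∀ (n : ℕ) (y : MonoidAlgebra F G), (L ^ n) y = z ^ n * y := by
    intro n y
    rw [LinearMap.pow_mulLeft]; rfl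
  -- vectors fixed by `P` are killed by `z`
  have hfix : ∀ v : MonoidAlgebra F G, (∀ u ∈ P, single u 1 * v = v) → z * v = 0 := by
    intro v hv
    have key : ∀ (g : G) (r : F),
        single g r * v = single (QuotientGroup.mk' P g).out r * v := by
      intro g r
      obtain ⟨u, hu⟩ := QuotientGroup.mk_out_eq_mul P g
      conv_rhs => rw [QuotientGroup.mk'_apply, hu, ← mul_one r,
        ← MonoidAlgebra.single_mul_single, mul_assoc, hv u u.2]
    have h2 : ∀ w : MonoidAlgebra F G, w * v =
        (MonoidAlgebra.mapDomain (Quotient.out)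
          (mapDomainRingHom F (QuotientGroup.mk' P) w)) * v := by
      intro w
      induction w using MonoidAlgebra.induction_linear with
      | zero => simp
      | add a b ha hb => rw [add_mul, map_add, mapDomain_add, add_mul, ha, hb]
      | single g r =>
        simp only [mapDomainRingHom_apply, mapDomain_single]
        exact key g r
    rw [h2, hzP, mapDomain_zero, zero_mul]
  refine ⟨N + 1, ?_⟩
  by_contra hne
  letI : DistribMulAction P (MonoidAlgebra F G) :=
    { smul := fun u v => single (u : G) 1 * v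
      one_smul := fun v => by show single (1 : G) (1 : F) * v = v; rw [← one_def, one_mul]
      mul_smul := fun a b v => by
        show single ((a : G) * b) (1 : F) * v = single (a : G) 1 * (single (b : G) 1 * v)
        rw [← mul_assoc, single_mul_single, one_mul]
      smul_zero := fun u => mul_zero _
      smul_add := fun u v w => mul_add _ _ _ }
  letI : Algebra (ZMod p) F := ZMod.algebra F p
  obtain ⟨v, hvW, hv, hvfix⟩ := exists_fixed_ne_zero (V := MonoidAlgebra F G) hP
    (LinearMap.range (L ^ (N + 1))).toAddSubgroup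
    (by
      rintro u _ ⟨y, rfl⟩
      refine ⟨single (u : G) 1 * y, ?_⟩
      show _ = single (u : G) 1 * (L ^ (N + 1)) y
      rw [hLn, hLn, ← mul_assoc, ← mul_assoc,
        ((Commute.pow_left (hz _ : Commute z (single (u : G) 1))) (N + 1)).eq])
    (by
      intro h
      apply hne
      have hm : z ^ (N + 1) ∈ (LinearMap.range (L ^ (N + 1))).toAddSubgroup :=
        ⟨1, by rw [hLn, mul_one]⟩
      rwa [h, AddSubgroup.mem_bot] at hm)
  have hker : v ∈ LinearMap.ker (L ^ (N + 1)) := by
    rw [LinearMap.mem_ker, hLn, pow_succ, mul_assoc, hfix v fun u hu => hvfix ⟨u, hu⟩, mul_zero]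
  exact hv (Submodule.disjoint_def.mp hd v hker hvW)

open MonoidAlgebra in
open scoped Classical in
/-- The class sum of `g` dies in `F[G ⧸ P]` when no conjugate of `g` centralises the normal
`p`-subgroup `P`. -/
theorem mapDomain_classSum_eq_zero {G : Type*} [Group G] [Fintype G] {p : ℕ}
    [Fact p.Prime] {F : Type*} [Field F] [CharP F p] {P : Subgroup G} [P.Normal]
    (hP : IsPGroup p P) {g : G}
    (hg : ∀ x : G, IsConj g x → x ∉ Subgroup.centralizer (P : Set G)) :
    mapDomainRingHom F (QuotientGroup.mk' P)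
      (∑ x, if IsConj g x then single x (1 : F) else 0) = 0 := by
  let f : G → MonoidAlgebra F (G ⧸ P) := fun x =>
    if IsConj g x then single (QuotientGroup.mk x : G ⧸ P) 1 else 0
  have h1 : mapDomainRingHom F (QuotientGroup.mk' P)
      (∑ x, if IsConj g x then single x (1 : F) else 0) = ∑ x, f x := by
    rw [map_sum]
    refine Finset.sum_congr rfl fun x _ => ?_
    simp only [f]
    split_ifs <;> simp [mapDomainRingHom_apply, mapDomain_single]
  have hf : ∀ u ∈ P, ∀ x : G, f (u * x * u⁻¹) = f x := by
    intro u hu x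
    have hc : IsConj x (u * x * u⁻¹) := isConj_iff.mpr ⟨u, rfl⟩
    have hc' : IsConj g (u * x * u⁻¹) ↔ IsConj g x :=
      ⟨fun h => h.trans hc.symm, fun h => h.trans hc⟩
    have hq : ((u * x * u⁻¹ : G) : G ⧸ P) = (x : G ⧸ P) := by
      have hu1 : ((u : G) : G ⧸ P) = 1 := (QuotientGroup.eq_one_iff u).mpr hu
      simp [QuotientGroup.mk_mul, QuotientGroup.mk_inv, hu1]
    simp only [f, hc', hq]
  have h2 := conj_sum_not_centralizer_mem hP f hf ⊥ fun x => by
    rw [AddSubmonoid.mem_bot, ← Nat.cast_smul_eq_nsmul F, CharP.cast_eq_zero, zero_smul]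
  rw [h1, conj_sum_eq_sum_centralizer_add (P := P), AddSubmonoid.mem_bot.mp h2, add_zero]
  refine Finset.sum_eq_zero fun x hx => ?_
  exact if_neg fun hc => hg x hc (Finset.mem_filter.mp hx).2

end Cfsg.Agent.Blocks
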