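import Cfsg.Agent.Lib.Blocks.Brauer
import Cfsg.Agent.Lib.Blocks.Nilpotent

/-!
# Central characters and normal `p`-subgroups

`memI_centralChar_of_forall_notMem`: a class not meeting `C(Q)`, `Q` a normal `p`-subgroup, has
central characters in the local ideal. `centralChar_congr_of_mem`: on `Q` they are congruent to the
class size. `inducedCentralChar_congr_brauer`: for `P ≤ H ≤ N(P)` the induced central character is
congruent to the Brauer one. `brauerCentralChar_eq_phi`.
-/

set_option autoImplicit false

open scoped ComplexConjugate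

namespace Cfsg.Agent.Blocks

open Cfsg

variable {G : Type*} [Group G] [Finite G] {p : ℕ} {M : Ideal AlgInt}

open MonoidAlgebra in
/-- A central element of `ℤ[G]` that dies in `(ZMod p)[G ⧸ Q]` has central characters in the local
ideal. -/
theorem memI_omega_of_mapDomain [Fact p.Prime] (hM : IsPModular p M) {Q : Subgroup G} [Q.Normal]
    (hQ : IsPGroup p Q) (Z : MonoidAlgebra ℤ G) (hZ : ∀ y, Z * y = y * Z)
    (hker : mapDomainRingHom (ZMod p) (QuotientGroup.mk' Q)
      (mapRingHom G (Int.castRingHom (ZMod p)) Z) = 0)
    (χ : IrrCharacter G) : MemLocalIdeal M (omega (χ : G → ℂ) fun x => (Z.coeff x : ℂ)) := by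
  classical
  have := Fintype.ofFinite G
  have hcl : ∀ W : MonoidAlgebra ℤ G, (∀ y, W * y = y * W) →
      IsClassFunction G fun x => (W.coeff x : ℂ) := by
    intro W hW g h
    have h1 := congrArg (fun w : MonoidAlgebra ℤ G => w.coeff (h * g)) (hW (single h 1))
    simp only [coeff_mul_single_apply, coeff_single_mul_apply, one_mul, mul_one,
      inv_mul_cancel_left] at h1
    exact congrArg (Int.cast : ℤ → ℂ) h1
  set z : G → ℂ := fun x => (Z.coeff x : ℂ) with hzdef
  have hpow : ∀ n, ∀ g, ofOmega (omegaFun z ^ n) g = ((Z ^ n).coeff g : ℂ) := by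
    intro n
    induction n with
    | zero =>
      intro g
      rw [pow_zero, pow_zero, ofOmega_one, MonoidAlgebra.one_def, coeff_single_apply]
      by_cases hg : g = 1
      · simp [hg]
      · simp [hg, Ne.symm hg]
    | succ n ih =>
      intro g
      rw [pow_succ, pow_succ, ofOmega_mul, ofOmega_omega (hcl Z hZ), conv_eq_sum,
        coeff_mul_apply_left, Finsupp.sum_fintype _ _ fun _ => zero_mul _]
      push_cast
      exact Finset.sum_congr rfl fun x _ => by rw [ih]
  have hzc : ∀ y, mapRingHom G (Int.castRingHom (ZMod p)) Z * y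
      = y * mapRingHom G (Int.castRingHom (ZMod p)) Z := by
    intro y
    induction y using MonoidAlgebra.induction_linear with
    | zero => simp
    | add a b ha hb => rw [mul_add, add_mul, ha, hb]
    | single t r =>
      obtain ⟨i, rfl⟩ : ∃ i : ℤ, (i : ZMod p) = r := ⟨_, ZMod.intCast_zmod_cast r⟩
      have h1 := congrArg (mapRingHom G (Int.castRingHom (ZMod p))) (hZ (single t i))
      simpa using h1
  obtain ⟨N, hN⟩ := isNilpotent_of_central_of_mapDomain hQ hzc hker
  have hsmall : IsSmall M (omegaFun z ^ N) := fun g => by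
    rw [hpow]
    refine memI_intCast hM ?_
    rw [← map_pow] at hN
    have h1 := congrArg (fun w : MonoidAlgebra (ZMod p) G => w.coeff g) hN
    rw [← ZMod.intCast_zmod_eq_zero_iff_dvd]
    simp only [coeff_mapRingHom, MonoidAlgebra.coeff_zero, Finsupp.coe_zero, Pi.zero_apply] at h1
    exact h1
  exact memI_of_pow hM (memR_omega hM (hcl Z hZ) (fun x => memR_intCast hM _) χ)
    (memI_of_isSmall hM hsmall χ)

open scoped Classical in
open MonoidAlgebra in
/-- The class sum of `g` in `ℤ[G]`. -/
noncomputable def classSumInt [Fintype G] (g : G) : MonoidAlgebra ℤ G :=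
  ∑ x, if IsConj g x then single x 1 else 0

theorem classSumInt_comm [Fintype G] (g : G) (y : MonoidAlgebra ℤ G) :
    classSumInt g * y = y * classSumInt g := by
  classical
  unfold classSumInt
  induction y using MonoidAlgebra.induction_linear with
  | zero => simp
  | add a b ha hb => rw [mul_add, add_mul, ha, hb]
  | single t r =>
    rw [Finset.sum_mul, Finset.mul_sum]
    refine Fintype.sum_equiv (MulAut.conj t⁻¹).toEquiv _ _ fun x => ?_
    have hc : IsConj g ((MulAut.conj t⁻¹).toEquiv x) ↔ IsConj g x := by
      have h1 : IsConj x ((MulAut.conj t⁻¹).toEquiv x) := isConj_iff.mpr ⟨t⁻¹, rfl⟩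
      exact ⟨fun h => h.trans h1.symm, fun h => h.trans h1⟩
    by_cases hx : IsConj g x
    · rw [if_pos hx, if_pos (hc.mpr hx)]
      simp [MonoidAlgebra.single_mul_single, ← mul_assoc]
    · rw [if_neg hx, if_neg fun h => hx (hc.mp h)]
      simp

theorem classSumInt_coeff [Fintype G] (g x : G) :
    ((classSumInt g).coeff x : ℂ) = classInd g x := by
  classical
  simp only [classSumInt, classInd, MonoidAlgebra.coeff_sum, Finsupp.finsetSum_apply]
  rw [Finset.sum_eq_single x]
  · split_ifs <;> simp
  · intro y _ hy
    split_ifs <;> simp [MonoidAlgebra.coeff_single_apply, hy]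
  · simp

variable (hM : IsPModular p M)
include hM

/-- A class not meeting the centraliser of a normal `p`-subgroup. -/
theorem memI_centralChar_of_forall_notMem [Fact p.Prime] {Q : Subgroup G} [Q.Normal]
    (hQ : IsPGroup p Q) {g : G}
    (hg : ∀ x : G, IsConj g x → x ∉ Subgroup.centralizer (Q : Set G)) (χ : IrrCharacter G) :
    MemLocalIdeal M (centralChar (χ : G → ℂ) g) := by
  classical
  have := Fintype.ofFinite G
  have h := memI_omega_of_mapDomain hM hQ (classSumInt g) (classSumInt_comm g) ?_ χ
  · simpa [classSumInt_coeff, omega_classInd] using h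
  · rw [show MonoidAlgebra.mapRingHom G (Int.castRingHom (ZMod p)) (classSumInt g)
        = ∑ x, if IsConj g x then MonoidAlgebra.single x (1 : ZMod p) else 0 by
      simp only [classSumInt, map_sum, apply_ite (MonoidAlgebra.mapRingHom G (Int.castRingHom (ZMod p))),
        map_zero, MonoidAlgebra.mapRingHom_single, map_one]]
    exact mapDomain_classSum_eq_zero hQ hg

/-- At an element of a normal `p`-subgroup every central character is congruent to the class
size. -/
theorem centralChar_congr_of_mem [Fact p.Prime] {Q : Subgroup G} [Q.Normal] (hQ : IsPGroup p Q)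
    {g : G} (hg : g ∈ Q) (χ : IrrCharacter G) :
    MemLocalIdeal M (centralChar (χ : G → ℂ) g -
      ((Subgroup.centralizer ({g} : Set G)).index : ℂ)) := by
  classical
  have := Fintype.ofFinite G
  set n : ℕ := (Finset.univ.filter fun x => IsConj g x).card with hn
  have hidx : (n : ℂ) = ((Subgroup.centralizer ({g} : Set G)).index : ℂ) := by
    have h1 := omega_classInd g (⟨_, Char.isIrrCharacter_one⟩ : IrrCharacter G)
    simp only [omega_eq_sum, centralChar, classInd, Pi.one_apply, mul_one, div_one] at h1
    rw [hn, Finset.natCast_card_filter]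
    convert h1 using 3
  have h := memI_omega_of_mapDomain hM hQ
    (classSumInt g - MonoidAlgebra.single 1 (n : ℤ))
    (fun y => by
      rw [sub_mul, mul_sub, classSumInt_comm g y]
      congr 1
      induction y using MonoidAlgebra.induction_linear with
      | zero => simp
      | add a b ha hb => rw [mul_add, add_mul, ha, hb]
      | single t r => simp [MonoidAlgebra.single_mul_single, mul_comm]) ?_ χ
  · have h2 : omega (χ : G → ℂ) (fun x =>
        ((classSumInt g - MonoidAlgebra.single 1 (n : ℤ)).coeff x : ℂ))
        = centralChar (χ : G → ℂ) g - (n : ℂ) := by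
      rw [← omega_classInd, omega_eq_sum, omega_eq_sum]
      simp only [MonoidAlgebra.coeff_sub, Finsupp.sub_apply, Int.cast_sub, classSumInt_coeff,
        sub_mul, Finset.sum_sub_distrib, sub_div, MonoidAlgebra.coeff_single_apply]
      congr 1
      simp [apply_ite (Int.cast : ℤ → ℂ), mul_div_assoc, div_self (irr_one_ne_zero χ)]
    rw [← hidx, ← h2]
    exact h
  · have hq : ∀ x, IsConj g x → QuotientGroup.mk' Q x = 1 := by
      intro x hx
      obtain ⟨c, rfl⟩ := isConj_iff.mp hx
      exact (QuotientGroup.eq_one_iff _).mpr (Subgroup.Normal.conj_mem inferInstance g hg c)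
    simp only [classSumInt, map_sub, map_sum,
      apply_ite (MonoidAlgebra.mapRingHom G (Int.castRingHom (ZMod p))),
      apply_ite (MonoidAlgebra.mapDomainRingHom (ZMod p) (QuotientGroup.mk' Q)), map_zero,
      MonoidAlgebra.mapRingHom_single, MonoidAlgebra.mapDomainRingHom_apply,
      MonoidAlgebra.mapDomain_single, map_one]
    rw [sub_eq_zero, ← Finset.sum_filter, Finset.sum_congr rfl fun x hx => by
      rw [hq x (Finset.mem_filter.mp hx).2], Finset.sum_const, ← hn]
    simp

theorem brauerCentralChar_eq_phi (P H : Subgroup G) (ξ : IrrCharacter H) (g : G) :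
    brauerCentralChar P H (ξ : H → ℂ) g = brauerPhi P H ξ (omegaFun (classInd g)) := by
  classical
  let _ := hM
  have := Fintype.ofFinite G
  rw [brauerPhi, ofOmega_omega (isClassFunction_classInd g), omega_eq_sum, brauerCentralChar,
    finsum_mem_def, finsum_eq_sum_of_fintype, Finset.sum_div]
  refine Finset.sum_congr rfl fun h _ => ?_
  simp only [Set.indicator_apply, Set.mem_ofPred_eq, brauerTrunc, classInd]
  by_cases h1 : (h : G) ∈ Subgroup.centralizer (P : Set G) <;> by_cases h2 : IsConj g (h : G) <;>
    simp only [h1, h2, and_true, and_false, true_and, false_and, if_true, if_false, one_mul, zero_mul,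
      zero_div]

theorem inducedCentralChar_eq_omega (H : Subgroup G) (ξ : IrrCharacter H) (g : G) :
    inducedCentralChar H (ξ : H → ℂ) g = omega (ξ : H → ℂ) (fun h : H => classInd g (h : G)) := by
  classical
  let _ := hM
  have := Fintype.ofFinite G
  rw [omega_eq_sum, inducedCentralChar, finsum_mem_def, finsum_eq_sum_of_fintype, Finset.sum_div]
  refine Finset.sum_congr rfl fun h _ => ?_
  simp only [Set.indicator_apply, Set.mem_ofPred_eq, classInd]
  by_cases h2 : IsConj g (h : G) <;> simp only [h2, if_true, if_false, one_mul, zero_mul, zero_div]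

theorem inducedCentralChar_congr_brauer [Fact p.Prime] {P H : Subgroup G} (hP : IsPGroup p P)
    (hPH : P ≤ H) (hH : H ≤ Subgroup.normalizer (P : Set G)) (ξ : IrrCharacter H) (g : G) :
    MemLocalIdeal M (inducedCentralChar H (ξ : H → ℂ) g - brauerCentralChar P H (ξ : H → ℂ) g) := by
  classical
  have := Fintype.ofFinite G
  have := Fintype.ofFinite (ConjClasses H)
  let d : H → ℂ := fun h =>
    if (h : G) ∈ Subgroup.centralizer (P : Set G) then 0 else classInd g (h : G)
  have hd : IsClassFunction H d := by
    intro x n
    simp only [d, Subgroup.coe_mul, Subgroup.coe_inv]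
    by_cases h : (x : G) ∈ Subgroup.centralizer (P : Set G)
    · rw [if_pos h, if_pos ((conj_mem_centralizer_iff (hH n.2) _).mpr h)]
    · rw [if_neg h, if_neg fun h' => h ((conj_mem_centralizer_iff (hH n.2) _).mp h'),
        isClassFunction_classInd g]
  have heq : inducedCentralChar H (ξ : H → ℂ) g - brauerCentralChar P H (ξ : H → ℂ) g
      = omega (ξ : H → ℂ) d := by
    rw [inducedCentralChar_eq_omega hM, brauerCentralChar_eq_phi hM, brauerPhi,
      ofOmega_omega (isClassFunction_classInd g), omega_eq_sum, omega_eq_sum, omega_eq_sum, ← sub_div,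
      ← Finset.sum_sub_distrib]
    congr 1
    refine Finset.sum_congr rfl fun h _ => ?_
    simp only [d, brauerTrunc]
    split_ifs <;> ring
  rw [heq, omega_eq_sum_classes hd]
  refine memI_sum hM _ fun q _ => ?_
  by_cases hq : ((Quotient.out q : H) : G) ∈ Subgroup.centralizer (P : Set G)
  · simp only [d, if_pos hq, zero_mul]
    exact memI_zero hM
  · haveI : (P.subgroupOf H).Normal := by
      refine ⟨fun u hu n => ?_⟩
      rw [Subgroup.mem_subgroupOf] at hu ⊢
      exact ((Subgroup.mem_normalizer_iff.mp (hH n.2)) _).mp hu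
    refine memI_mul_left hM ?_ (memI_centralChar_of_forall_notMem hM
      (hP.of_equiv (Subgroup.subgroupOfEquivOfLe hPH).symm) (fun x hx hxC => ?_) ξ)
    · simp only [d, if_neg hq]
      exact classInd_mem (locRing hM) g _
    · obtain ⟨n, rfl⟩ := isConj_iff.mp hx
      refine hq ((conj_mem_centralizer_iff (hH n.2) _).mp ?_)
      rw [Subgroup.mem_centralizer_iff]
      intro u hu
      exact congrArg Subtype.val
        (Subgroup.mem_centralizer_iff.mp hxC ⟨u, hPH hu⟩ (Subgroup.mem_subgroupOf.mpr hu))

end Cfsg.Agent.Blocks
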