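import Cfsg.Agent.Lib.Blocks.Defect
import Cfsg.Agent.Lib.BrauerPairs.RegularOrth
import Cfsg.Agent.Lib.SecondMain.Second

/-!
# Height zero characters and Okuyama's criterion

`regConj p χ` is the central element `∑ conj (χ g) g` over the `p`-regular `g`.  It has central
character zero outside the block of `χ` (`omega_regConj_eq_zero`) and, for `χ` of height zero, a
unit on it (`not_memI_omega_regConj`).  `okuyama_criterion`: a block `e` of `H` with defined induced
block induces the block of `χ` iff it is the block of the restriction of `χ`, both of height zero.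
-/

set_option autoImplicit false

open scoped ComplexConjugate

namespace Cfsg.Agent.Blocks

open Cfsg

/-- The central element `∑ conj (χ g) g`, the sum over `p`-regular elements. -/
noncomputable def regConj {G : Type*} [Group G] (p : ℕ) (χ : G → ℂ) : G → ℂ :=
  fun g => conj (pRegularPart p χ g)

variable {G : Type*} [Group G] {p : ℕ} {M : Ideal AlgInt}

theorem regConj_restrict (χ : G → ℂ) (H : Subgroup G) (h : H) :
    regConj p χ (h : G) = regConj p (fun k : H => χ k) h := by
  simp only [regConj, pRegularPart, IsPRegular, Subgroup.orderOf_coe]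
  by_cases hd : p ∣ orderOf h <;> simp [hd]

theorem regConj_one (hp : p.Prime) (χ : G → ℂ) : regConj p χ 1 = conj (χ 1) := by
  simp [regConj, pRegularPart, IsPRegular, hp.one_lt.ne']

variable [Finite G]

theorem isClassFunction_regConj {χ : G → ℂ} (hχ : IsClassFunction G χ) :
    IsClassFunction G (regConj p χ) := fun g h => by
  have := Fintype.ofFinite G
  simp only [regConj, BrauerPairs.isClassFunction_pRegularPart hχ g h]

theorem memR_regConj (hM : IsPModular p M) (χ : IrrCharacter G) (g : G) :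
    MemLocalRing M (regConj p (χ : G → ℂ) g) := by
  simp only [regConj, pRegularPart]
  split_ifs
  · exact memR_of_isIntegral hM
      ((isIntegral_irr χ g).map ((starRingEnd ℂ).toIntAlgHom : ℂ →ₐ[ℤ] ℂ))
  · rw [map_zero]; exact memR_zero hM

theorem omega_regConj_eq [Fintype G] (χ η : IrrCharacter G) :
    omega (η : G → ℂ) (regConj p (χ : G → ℂ)) =
      (Nat.card G : ℂ) * classInner (pRegularPart p (η : G → ℂ)) (χ : G → ℂ) / (η : G → ℂ) 1 := by
  rw [omega_eq_sum, classInner, ← mul_assoc, mul_inv_cancel₀ card_ne_zero_C, one_mul]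
  congr 1
  refine Finset.sum_congr rfl fun x _ => ?_
  simp only [regConj, pRegularPart]
  split_ifs <;> simp [mul_comm]

theorem omega_regConj_eq_zero (hM : IsPModular p M) {B : Set (IrrCharacter G)}
    (hB : IsPBlock M B) {χ η : IrrCharacter G} (hχ : χ ∈ B) (hη : η ∉ B) :
    omega (η : G → ℂ) (regConj p (χ : G → ℂ)) = 0 := by
  have := Fintype.ofFinite G
  rw [omega_regConj_eq, BrauerPairs.classInner_pRegularPart_eq_zero hM
    (isPBlock_blockOf hM η) (mem_blockOf_self hM η) fun h =>
      hη ((isPBlock_eq_of_mem hM hB (isPBlock_blockOf hM η) hχ h).symm ▸ mem_blockOf_self hM η),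
    mul_zero, zero_div]

omit [Finite G] in
theorem exists_blockHeight_eq_zero (p : ℕ) {B : Set (IrrCharacter G)} (hB : B.Nonempty) :
    ∃ χ ∈ B, blockHeight p B (χ : G → ℂ) = 0 := by
  obtain ⟨χ, hχ, hmin⟩ := Nat.sInf_mem
    (s := (fun χ : IrrCharacter G => (charDegree (χ : G → ℂ)).factorization p) '' B) (hB.image _)
  exact ⟨χ, hχ, Nat.sub_eq_zero_of_le hmin.le⟩

omit [Finite G] in
theorem factorization_le_of_height_zero {B : Set (IrrCharacter G)} {χ η : IrrCharacter G}
    (h0 : blockHeight p B (χ : G → ℂ) = 0) (hη : η ∈ B) :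
    (charDegree (χ : G → ℂ)).factorization p ≤ (charDegree (η : G → ℂ)).factorization p :=
  (Nat.sub_eq_zero_iff_le.1 h0).trans (Nat.sInf_le ⟨η, hη, rfl⟩)

/-- For a character of height zero, `regConj` has a unit central character on its block. -/
theorem not_memI_omega_regConj (hM : IsPModular p M) {B : Set (IrrCharacter G)} (hB : IsPBlock M B)
    {χ : IrrCharacter G} (hχ : χ ∈ B) (h0 : blockHeight p B (χ : G → ℂ) = 0) {η : IrrCharacter G}
    (hη : η ∈ B) : ¬ MemLocalIdeal M (omega (η : G → ℂ) (regConj p (χ : G → ℂ))) := by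
  classical
  have : Fact p.Prime := ⟨hM.1⟩
  have := Fintype.ofFinite G
  have := Fintype.ofFinite (IrrCharacter G)
  set s := regConj p (χ : G → ℂ) with hsdef
  have hs : IsClassFunction G s := isClassFunction_regConj (irr_class χ)
  have hsR : omegaFun s ∈ intRing hM := omega_mem_intRing hM hs (memR_regConj hM χ)
  intro hI
  have hall : ∀ ψ ∈ B, MemLocalIdeal M (omegaFun s ψ) := fun ψ hψ =>
    (memI_iff_of_sub hM (intRing_congr hM hsR (sameBlock_of_mem hM hB hψ hη))).2 hI
  set S := (default : Sylow p G) with hS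
  set P : Subgroup G := (S : Subgroup G) with hP
  have := Fintype.ofFinite P
  set m : IrrCharacter G → ℂ := fun ψ => (Nat.card P : ℂ)⁻¹ * ∑ u : P, (ψ : G → ℂ) (1 * u) with hm
  have hmint : ∀ ψ, IsIntegral ℤ (conj (m ψ)) := fun ψ =>
    (isIntegral_avg (Char.IsIrrCharacter.isCharacter ψ.2) P (Subgroup.one_mem _)).map
      ((starRingEnd ℂ).toIntAlgHom : ℂ →ₐ[ℤ] ℂ)
  have hsum : ∑ u : P, s (u : G) = (χ : G → ℂ) 1 := by
    rw [Finset.sum_eq_single (1 : P)]
    · rw [Subgroup.coe_one, hsdef, regConj_one hM.1, ← charDegree_cast, map_natCast]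
    · intro u _ hu
      have : ¬ IsPRegular p (u : G) := fun h => hu <| by
        obtain ⟨k, hk⟩ := (IsPGroup.iff_orderOf.1 S.2) u
        rcases k with _ | k
        · exact orderOf_eq_one_iff.1 (by simpa using hk)
        · exact absurd (by rw [Subgroup.orderOf_coe, hk]; exact dvd_pow_self p k.succ_ne_zero) h
      simp [hsdef, regConj, pRegularPart, this]
    · simp
  have key : (Nat.card G : ℂ) * (χ : G → ℂ) 1 =
      (Nat.card P : ℂ) * ∑ ψ, omegaFun s ψ * ((ψ : G → ℂ) 1 * conj (m ψ)) := by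
    rw [← hsum, ← ofOmega_omega hs]
    simp only [ofOmega_eq_sum, omegaFun_ofOmega, ← Finset.mul_sum, ← mul_assoc,
      mul_inv_cancel₀ card_ne_zero_C, one_mul]
    rw [Finset.sum_comm, Finset.mul_sum]
    refine Finset.sum_congr rfl fun ψ _ => ?_
    rw [hm, ← Finset.mul_sum, map_mul, map_inv₀, map_natCast, map_sum]
    simp only [one_mul]
    field_simp
  set h := (charDegree (χ : G → ℂ)).factorization p with hh
  have hpne : (p : ℂ) ^ h ≠ 0 := pow_ne_zero _ (by exact_mod_cast hM.1.ne_zero)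
  obtain ⟨r, hr, hdeg⟩ : ∃ r, ¬ p ∣ r ∧ charDegree (χ : G → ℂ) = p ^ h * r :=
    ⟨_, Nat.not_dvd_ordCompl hM.1 (charDegree_pos χ).ne', (Nat.ordProj_mul_ordCompl_eq_self _ p).symm⟩
  have hrhs : MemLocalIdeal M
      (((p : ℂ) ^ h)⁻¹ * ∑ ψ, omegaFun s ψ * ((ψ : G → ℂ) 1 * conj (m ψ))) := by
    rw [Finset.mul_sum]
    refine memI_sum hM _ fun ψ _ => ?_
    by_cases hψ : ψ ∈ B
    · obtain ⟨t, ht⟩ : p ^ h ∣ charDegree (ψ : G → ℂ) :=
        (hM.1.pow_dvd_iff_le_factorization (charDegree_pos ψ).ne').2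
          (factorization_le_of_height_zero h0 hψ)
      rw [show ((p : ℂ) ^ h)⁻¹ * (omegaFun s ψ * ((ψ : G → ℂ) 1 * conj (m ψ)))
          = omegaFun s ψ * ((t : ℂ) * conj (m ψ)) by
        rw [← charDegree_cast, ht, Nat.cast_mul, Nat.cast_pow]
        field_simp]
      exact memI_mul_right hM (hall ψ hψ)
        (memR_mul hM (memR_natCast hM t) (memR_of_isIntegral hM (hmint ψ)))
    · rw [show omegaFun s ψ = 0 from omega_regConj_eq_zero hM hB hχ hψ, zero_mul, mul_zero]
      exact memI_zero hM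
  have hlhs : (((P.index * r : ℕ) : ℂ))
      = ((p : ℂ) ^ h)⁻¹ * ∑ ψ, omegaFun s ψ * ((ψ : G → ℂ) 1 * conj (m ψ)) := by
    have e := key
    generalize ∑ ψ, omegaFun s ψ * ((ψ : G → ℂ) 1 * conj (m ψ)) = X at e ⊢
    rw [← P.index_mul_card, ← charDegree_cast, hdeg] at e
    push_cast at e ⊢
    have hPne : (Nat.card P : ℂ) ≠ 0 := card_ne_zero_C
    field_simp
    apply mul_left_cancel₀ hPne
    linear_combination e
  rw [← hlhs] at hrhs
  exact (hM.1.not_dvd_mul S.not_dvd_index hr) ((memI_natCast hM).1 hrhs)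

omit [Finite G] in
theorem blockHeight_eq_zero_of_one {χ : G → ℂ} (h : χ 1 = 1) (B : Set (IrrCharacter G)) :
    blockHeight p B χ = 0 := by
  simp [blockHeight, charDegree, h]

/-- **Okuyama's criterion.** -/
theorem okuyama_criterion (hM : IsPModular p M) (H : Subgroup G) (χ : IrrCharacter G)
    (ψ : IrrCharacter H) (hψ : ∀ h : H, (ψ : H → ℂ) h = (χ : G → ℂ) h)
    (hχ0 : blockHeight p (blockOf M (χ : G → ℂ)) (χ : G → ℂ) = 0)
    (hψ0 : blockHeight p (blockOf M (ψ : H → ℂ)) (ψ : H → ℂ) = 0)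
    {e : Set (IrrCharacter H)} (he : InducedBlockDefined M H e) :
    IsInducedBlock M H e (blockOf M (χ : G → ℂ)) ↔ e = blockOf M (ψ : H → ℂ) := by
  obtain ⟨B', hB'⟩ := he
  have hB := isPBlock_blockOf hM χ
  have hb := isPBlock_blockOf hM ψ
  have hres : (fun k : H => regConj p (χ : G → ℂ) (k : G)) = regConj p (ψ : H → ℂ) :=
    funext fun k => by rw [regConj_restrict, show (fun k : H => (χ : G → ℂ) k) = (ψ : H → ℂ) from
      funext fun k => (hψ k).symm]
  obtain ⟨ξ, hξ⟩ := isPBlock_nonempty hM hB'.1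
  have key : ∀ η ∈ B', (MemLocalIdeal M (omega (ξ : H → ℂ) (regConj p (ψ : H → ℂ))) ↔
      MemLocalIdeal M (omega (η : G → ℂ) (regConj p (χ : G → ℂ)))) := fun η hη => by
    rw [← hres]
    exact memI_iff_of_sub hM (SecondMain.omega_restrict_congr hM hB' hξ hη
      (isClassFunction_regConj (irr_class χ)) (memR_regConj hM χ))
  constructor
  · intro hind
    obtain rfl := SecondMain.induced_unique hM hind hB'
    by_contra hne
    have hξb : ξ ∉ blockOf M (ψ : H → ℂ) := fun h => hne (isPBlock_eq_of_mem hM hB'.1 hb hξ h)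
    refine not_memI_omega_regConj hM hB (mem_blockOf_self hM χ) hχ0 (mem_blockOf_self hM χ)
      ((key χ (mem_blockOf_self hM χ)).1 ?_)
    rw [omega_regConj_eq_zero hM hb (mem_blockOf_self hM ψ) hξb]
    exact memI_zero hM
  · rintro rfl
    suffices B' = blockOf M (χ : G → ℂ) from this ▸ hB'
    obtain ⟨η, hη⟩ := isPBlock_nonempty hM hB'.2.1
    by_contra hne
    have hηB : η ∉ blockOf M (χ : G → ℂ) := fun h => hne (isPBlock_eq_of_mem hM hB'.2.1 hB hη h)
    refine not_memI_omega_regConj hM hb (mem_blockOf_self hM ψ) hψ0 hξ ((key η hη).2 ?_)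
    rw [omega_regConj_eq_zero hM hB (mem_blockOf_self hM χ) hηB]
    exact memI_zero hM

end Cfsg.Agent.Blocks
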