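import Cfsg.Agent.Lib.Blocks.CoverStab
import Cfsg.Agent.Lib.RegPart.Contribution
import Cfsg.Agent.Lib.SecondMain.BrauerPair
import Cfsg.Agent.Lib.BrauerPairs.AbelianDefect
import Cfsg.Agent.Lib.SecondMain.KleinFour

/-!
# Blocks of defect two for the prime two and blocks with Klein four defect group

* `card_eq_four`: a 2-block of defect two has four characters;
* `blockRank_pos`, `card_eq_rank_add`: the count by subsections in terms of Brauer pairs;
* `fusion_of_abelian`: conjugation between pairs below a maximal pair with abelian subgroup;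
* `main`: for a Klein four defect group, `k(B) = 4` and `l(B)` is the inertial index, 1 or 3.
-/

set_option autoImplicit false

namespace Cfsg.Agent.KleinDefect

open Cfsg Cfsg.Agent.Blocks Cfsg.Agent.BrauerPairs

variable {G : Type*} [Group G] [Finite G] {p : ℕ} {M : Ideal AlgInt}

/-! ### Defect two -/

/-- The row of a character of height zero in the contribution matrix of a 2-block of defect two. -/
theorem row_of_height_zero {B : Set (IrrCharacter G)} [Fintype B] {c : B → B → ℤ}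
    (hd : blockDefect 2 B = 2) (hsq : ∀ χ, ∑ ψ, c χ ψ ^ 2 = (2 : ℤ) ^ blockDefect 2 B * c χ χ)
    (hpar : ∀ χ ψ : B, (2 : ℤ) ^ blockHeight 2 B ((ψ : IrrCharacter G) : G → ℂ) ∣ c χ ψ ∧
      ((2 : ℤ) ^ (blockHeight 2 B ((ψ : IrrCharacter G) : G → ℂ) + 1) ∣ c χ ψ ↔
        0 < blockHeight 2 B ((χ : IrrCharacter G) : G → ℂ)))
    {χ : B} (h0 : blockHeight 2 B ((χ : IrrCharacter G) : G → ℂ) = 0) [DecidableEq B] :
    (c χ χ = 1 ∨ c χ χ = 3) ∧ (∀ ψ, ψ ≠ χ → c χ ψ = 1 ∨ c χ ψ = -1) ∧ Nat.card B = 4 ∧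
      ∀ ψ : B, blockHeight 2 B ((ψ : IrrCharacter G) : G → ℂ) = 0 := by
  have hrow := hsq χ
  rw [hd, ← Finset.add_sum_erase _ _ (Finset.mem_univ χ)] at hrow
  obtain ⟨-, hodd⟩ := hpar χ χ
  rw [h0, zero_add, pow_one] at hodd
  have hodd' : ¬ (2 : ℤ) ∣ c χ χ := fun h => lt_irrefl 0 (hodd.mp h)
  have hrest : 0 ≤ ∑ ψ ∈ Finset.univ.erase χ, c χ ψ ^ 2 := Finset.sum_nonneg fun _ _ => sq_nonneg _
  have h13 : c χ χ = 1 ∨ c χ χ = 3 := by
    have hle : c χ χ ≤ 4 := by nlinarith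
    have hge : 0 ≤ c χ χ := by nlinarith
    omega
  have hthree : ∑ ψ ∈ Finset.univ.erase χ, c χ ψ ^ 2 = 3 := by
    rcases h13 with h | h <;> rw [h] at hrow <;> linarith
  have hne : ∀ ψ, c χ ψ ≠ 0 := fun ψ h => by
    obtain ⟨-, hu⟩ := hpar χ ψ
    rw [h0] at hu
    exact lt_irrefl 0 (hu.mp (h ▸ dvd_zero _))
  have hoff : ∀ ψ, ψ ≠ χ → c χ ψ = 1 ∨ c χ ψ = -1 := by
    intro ψ hψ
    have hle : c χ ψ ^ 2 ≤ 3 := hthree ▸ Finset.single_le_sum (f := fun ψ => c χ ψ ^ 2)
      (fun _ _ => sq_nonneg _) (Finset.mem_erase.mpr ⟨hψ, Finset.mem_univ _⟩)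
    have hb : -1 ≤ c χ ψ ∧ c χ ψ ≤ 1 := ⟨by nlinarith, by nlinarith⟩
    have := hne ψ
    omega
  refine ⟨h13, hoff, ?_, fun ψ => ?_⟩
  · rw [Finset.sum_congr rfl (g := fun _ => 1) (fun ψ hψ => by
      rcases hoff ψ (Finset.ne_of_mem_erase hψ) with h | h <;> rw [h] <;> norm_num),
      Finset.sum_const, Finset.card_erase_of_mem (Finset.mem_univ χ), nsmul_eq_mul, mul_one] at hthree
    have h3 : (Finset.univ : Finset B).card - 1 = 3 := by exact_mod_cast hthree
    rw [Nat.card_eq_fintype_card, ← Finset.card_univ]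
    omega
  · by_cases hψ : ψ = χ
    · rw [hψ, h0]
    by_contra hpos
    have hd2 := (dvd_pow_self (2 : ℤ) hpos).trans (hpar χ ψ).1
    rcases hoff ψ hψ with h | h <;> rw [h] at hd2 <;> omega

theorem card_eq_four (hM : IsPModular 2 M) {B : Set (IrrCharacter G)} (hB : IsPBlock M B)
    (hd : blockDefect 2 B = 2) : Nat.card B = 4 := by
  classical
  have := Fintype.ofFinite G
  have := Fintype.ofFinite B
  obtain ⟨c, -, -, hsq, hpar⟩ := RegPart.exists_contribution hM hB
  obtain ⟨χ₀, hχ₀, h0⟩ := SecondMain.exists_height_zero hM hB (p := 2)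
  exact (row_of_height_zero hd hsq hpar (χ := ⟨χ₀, hχ₀⟩) h0).2.2.1

/-! ### The count by subsections -/

theorem blockRank_pos (hM : IsPModular p M) {B : Set (IrrCharacter G)} (hB : IsPBlock M B) :
    0 < blockRank p B := by
  obtain ⟨χ, hχ⟩ := isPBlock_nonempty hM hB
  rw [blockRank, Module.finrank_pos_iff]
  refine ⟨⟨⟨_, Submodule.subset_span ⟨χ, hχ, rfl⟩⟩, 0, fun h => irr_one_ne_zero χ ?_⟩⟩
  have h1 : pRegularPart p (χ : G → ℂ) 1 = 0 := congrFun (congrArg Subtype.val h) 1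
  rwa [SecondMain.pRegularPart_of_regular (by simpa using hM.1.one_lt.ne')] at h1

/-- Blocks at a cyclic subgroup: pairs are exactly the inducing blocks. -/
theorem inducedSet_eq (hM : IsPModular p M) {B : Set (IrrCharacter G)} {x : G}
    (hx : ∃ k, orderOf x = p ^ k) :
    SecondMain.inducedSet M (Subgroup.centralizer (Subgroup.zpowers x : Set G)) B =
      {b | IsBrauerPairOf p M B (Subgroup.zpowers x) b} := by
  have : Fact p.Prime := ⟨hM.1⟩
  obtain ⟨k, hk⟩ := hx
  have hP : IsPGroup p (Subgroup.zpowers x) := IsPGroup.of_card (n := k) (by rw [Nat.card_zpowers, hk])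
  ext b
  refine ⟨fun h => ?_, SecondMain.induced_of_brauerPair hM ⟨k, hk⟩⟩
  refine KernelPairs.isBrauerPairOf_of_induced hM h ⟨hP, h.1⟩ (fun u hu => ?_) le_rfl ?_
  · rw [SecondMain.mem_centralizer_zpowers_iff]
    obtain ⟨i, rfl⟩ := Subgroup.mem_zpowers_iff.mp hu
    exact (Commute.refl x).zpow_right i
  · rw [br_eq_self (bIdem_central _ b).1]
    exact bIdem_mul_self hM h.1

omit [Finite G] in
theorem finsum_rank_congr {B : Set (IrrCharacter G)} {H K : Subgroup G} (h : H = K) :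
    (∑ᶠ b ∈ SecondMain.inducedSet M H B, blockRank p b) =
      ∑ᶠ b ∈ SecondMain.inducedSet M K B, blockRank p b := by
  subst h
  rfl

theorem sum_rank_one (hM : IsPModular p M) {B : Set (IrrCharacter G)} (hB : IsPBlock M B) :
    (∑ᶠ b ∈ SecondMain.inducedSet M (Subgroup.centralizer ({(1 : G)} : Set G)) B, blockRank p b) =
      blockRank p B := by
  classical
  have := Fintype.ofFinite G
  set C := Subgroup.centralizer ({(1 : G)} : Set G)
  have hfin : (SecondMain.inducedSet M C B).Finite := Set.toFinite _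
  have hCtop : C = ⊤ := eq_top_iff.mpr fun g _ =>
    SecondMain.commute_iff_mem_centralizer_singleton.mpr (Commute.one_left g)
  have hcard : (Nat.card C : ℂ) = Nat.card G := by rw [hCtop, Subgroup.card_top]
  apply Nat.cast_injective (R := ℂ)
  rw [finsum_mem_eq_finite_toFinset_sum _ hfin, Nat.cast_sum,
    SecondMain.blockRank_eq_regular hM hB,
    Finset.sum_congr rfl fun b hb =>
      SecondMain.blockRank_eq_regular (p := p) hM ((Set.Finite.mem_toFinset hfin).mp hb).1,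
    ← Finset.mul_sum, hcard, Finset.sum_comm, Finset.sum_filter, Finset.sum_filter]
  congr 1
  rw [← SecondMain.sum_centralizer_one
    (fun g : G => if ¬ p ∣ orderOf g then SecondMain.colSum B g g else 0)]
  refine Finset.sum_congr rfl fun s _ => ?_
  simp only [Subgroup.orderOf_coe]
  by_cases hs : p ∣ orderOf s
  · rw [if_neg (not_not_intro hs), if_neg (not_not_intro hs)]
  · have h := SecondMain.colSum_eq_sum hM hB (x := (1 : G)) ⟨0, by rw [orderOf_one, pow_zero]⟩
      (fun _ => SecondMain.commute_iff_mem_centralizer_singleton) hs hs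
    rw [one_mul, finsum_mem_eq_finite_toFinset_sum _ hfin] at h
    rw [if_pos hs, if_pos hs, h]

/-- Representatives of the classes of `p`-elements. -/
theorem exists_reps (p : ℕ) :
    ∃ X : Finset G, (1 : G) ∈ X ∧ (∀ x ∈ X, ∃ k, orderOf x = p ^ k) ∧
      ∀ g : G, (∃ k : ℕ, orderOf g = p ^ k) → ∃! x, x ∈ X ∧ IsConj g x := by
  classical
  have := Fintype.ofFinite G
  let r : G → G := fun g => (ConjClasses.mk g).out
  have hr : ∀ g, IsConj g (r g) := fun g =>
    ConjClasses.mk_eq_mk_iff_isConj.mp (Quotient.out_eq (ConjClasses.mk g)).symm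
  refine ⟨(Finset.univ.filter fun g : G => ∃ k, orderOf g = p ^ k).image r, ?_, ?_, ?_⟩
  · refine Finset.mem_image.mpr ⟨1, Finset.mem_filter.mpr ⟨Finset.mem_univ _, 0, by simp⟩, ?_⟩
    exact isConj_one_right.mp (hr 1)
  · intro x hx
    obtain ⟨g, hg, rfl⟩ := Finset.mem_image.mp hx
    obtain ⟨k, hk⟩ := (Finset.mem_filter.mp hg).2
    obtain ⟨c, hc⟩ := isConj_iff.mp (hr g)
    exact ⟨k, by rw [← hc, SecondMain.orderOf_conj, hk]⟩
  · intro g hg
    refine ⟨r g, ⟨Finset.mem_image.mpr ⟨g, Finset.mem_filter.mpr ⟨Finset.mem_univ _, hg⟩, rfl⟩, hr g⟩, ?_⟩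
    rintro x ⟨hx, hgx⟩
    obtain ⟨g', -, rfl⟩ := Finset.mem_image.mp hx
    have h : ConjClasses.mk g' = ConjClasses.mk g :=
      ConjClasses.mk_eq_mk_iff_isConj.mpr ((hr g').trans hgx.symm)
    exact congrArg (fun q : ConjClasses G => q.out) h

/-- The count of the characters by the subsections of a block. -/
theorem card_eq_rank_add [DecidableEq G] (hM : IsPModular p M) {B : Set (IrrCharacter G)}
    (hB : IsPBlock M B) {X : Finset G} (h1 : (1 : G) ∈ X) (hX : ∀ x ∈ X, ∃ k, orderOf x = p ^ k)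
    (hrep : ∀ g : G, (∃ k : ℕ, orderOf g = p ^ k) → ∃! x, x ∈ X ∧ IsConj g x) :
    Nat.card B = blockRank p B + ∑ x ∈ X.erase 1,
      ∑ᶠ b ∈ {b | IsBrauerPairOf p M B (Subgroup.zpowers x) b}, blockRank p b := by
  have := Fintype.ofFinite G
  rw [SecondMain.card_block_eq hM hB X hX hrep, ← Finset.add_sum_erase _ _ h1, sum_rank_one hM hB]
  congr 1
  refine Finset.sum_congr rfl fun x hx => ?_
  rw [← inducedSet_eq hM (hX x (Finset.mem_of_mem_erase hx))]
  refine finsum_rank_congr ?_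
  ext g
  rw [SecondMain.mem_centralizer_zpowers_iff, SecondMain.commute_iff_mem_centralizer_singleton]

/-! ### Fusion below a maximal pair with abelian subgroup -/

omit [Finite G] in
theorem exists_idx_of_fst {a : BrauerPairIdx G} {Q : Subgroup G} (h : a.1 = Q) :
    ∃ b : Set (IrrCharacter (Subgroup.centralizer (Q : Set G))), (⟨Q, b⟩ : BrauerPairIdx G) = a := by
  subst h
  exact ⟨a.2, rfl⟩

theorem conjIdx_cancel (hM : IsPModular p M) {g g' : G} {a a' : BrauerPairIdx G}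
    (ha : IsPBlock M a.2) (ha' : IsPBlock M a'.2) (h : conjIdx g a = conjIdx g' a') :
    conjIdx (g'⁻¹ * g) a = a' := by
  rw [← conjIdx_conjIdx hM _ _ ha, h, conjIdx_conjIdx hM _ _ ha', inv_mul_cancel,
    conjIdx_one hM ha']

omit [Finite G] in
theorem conjSub_zpowers (g x : G) : conjSub g (Subgroup.zpowers x) = Subgroup.zpowers (g * x * g⁻¹) := by
  rw [conjSub, MonoidHom.map_zpowers]
  rfl

variable [Fact p.Prime]

/-- A conjugation between two pairs below a maximal pair with abelian subgroup is, up to the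
centraliser of the second, a stabiliser of the maximal pair. -/
theorem fusion_of_abelian (hM : IsPModular p M) {B : Set (IrrCharacter G)} {P Q Q' : Subgroup G}
    {e : Set (IrrCharacter (Subgroup.centralizer (P : Set G)))}
    {f : Set (IrrCharacter (Subgroup.centralizer (Q : Set G)))}
    {f' : Set (IrrCharacter (Subgroup.centralizer (Q' : Set G)))}
    (hmax : IsMaximalBrauerPair p M B P e) (hab : ∀ x ∈ P, ∀ y ∈ P, x * y = y * x)
    (hle : SubpairLE p M Q f P e) (hf' : IsPBlock M f') (hle' : SubpairLE p M Q' f' P e) {z : G}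
    (hz : conjIdx z (⟨Q, f⟩ : BrauerPairIdx G) = ⟨Q', f'⟩) :
    ∃ c ∈ Subgroup.centralizer (Q' : Set G), c * z ∈ pairStab M P e := by
  have hPe : IsBrauerPair p M P e := hmax.1.1
  have hQ' : conjSub z Q = Q' := congrArg Sigma.fst hz
  have hQP : Q ≤ P :=
    subgroup_le_of_subpairLE (a := (⟨Q, f⟩ : BrauerPairIdx G)) (b := ⟨P, e⟩) hle
  have hQP' : Q' ≤ P :=
    subgroup_le_of_subpairLE (a := (⟨Q', f'⟩ : BrauerPairIdx G)) (b := ⟨P, e⟩) hle'
  have hPC : ∀ {R : Subgroup G}, R ≤ P → P ≤ Subgroup.centralizer (R : Set G) := fun hR u hu =>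
    Subgroup.mem_centralizer_iff.2 fun q hq => hab q (hR hq) u hu
  have hCN := centralizer_le_normalizer hM Q'
  have hD : IsDefectGroup p M f'
      ((P ⊓ Subgroup.centralizer (Q' : Set G)).subgroupOf (Subgroup.centralizer (Q' : Set G))) :=
    (local_fully_iff hM hmax hle' hf' hCN hf' rfl).1 fun g _ => by
      rw [inf_eq_left.2 (hPC hQP')]
      exact Subgroup.card_le_of_le inf_le_left
  have hn : NormalSubpairRel p M (⟨Q, f⟩ : BrauerPairIdx G) ⟨P, e⟩ :=
    normalSubpair_of_le hM hPe hle ((hPC hQP).trans (centralizer_le_normalizer hM Q))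
  have hn' := normalSubpairRel_conj hM hn z
  rw [hz] at hn'
  have hzP : conjSub z P ≤ Subgroup.centralizer (Q' : Set G) := by
    rw [← hQ', ← conjSub_centralizer_map]
    exact conjSub_mono z (hPC hQP)
  obtain ⟨c, hc, hcle⟩ := local_extend hM hPe hle' (fun u hu => hPC hQP' (hQP' hu)) hCN le_rfl hf'
    rfl hD hn' hzP
  refine ⟨c, hc, stab_eq_of_subgroup_eq hM hPe ?_⟩
  have hidx := conjIdx_conjIdx hM c z (a := (⟨P, e⟩ : BrauerPairIdx G)) hPe.2
  unfold SubpairLE at hcle ⊢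
  rw [show (⟨conjSub (c * z) P, conjBlock P (c * z) e⟩ : BrauerPairIdx G) =
    conjIdx (c * z) ⟨P, e⟩ from rfl, ← hidx]
  exact hcle

/-! ### Klein four groups as defect groups -/

variable {P : Subgroup G} {B : Set (IrrCharacter G)}
  {e : Set (IrrCharacter (Subgroup.centralizer (P : Set G)))}

omit [Finite G] in
theorem abelian_of_mul_self (hexp : ∀ x ∈ P, x * x = 1) : ∀ x ∈ P, ∀ y ∈ P, x * y = y * x := by
  intro x hx y hy
  have hinv : ∀ z ∈ P, z⁻¹ = z := fun z hz => inv_eq_of_mul_eq_one_right (hexp z hz)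
  calc x * y = (x * y)⁻¹ := (hinv _ (mul_mem hx hy)).symm
    _ = y * x := by rw [mul_inv_rev, hinv x hx, hinv y hy]

theorem four_cases (hP : Nat.card P = 4) (hexp : ∀ x ∈ P, x * x = 1) {u v : G} (hu : u ∈ P)
    (hu1 : u ≠ 1) (hv : v ∈ P) (hv1 : v ≠ 1) (hvu : v ≠ u) {w : G} (hw : w ∈ P) :
    w = 1 ∨ w = u ∨ w = v ∨ w = u * v := by
  classical
  by_contra h
  push Not at h
  obtain ⟨h1, h2, h3, h4⟩ := h
  have := Fintype.ofFinite P
  have e1 : u * v ≠ 1 := fun h => hvu (by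
    rw [← inv_eq_of_mul_eq_one_right h, inv_eq_of_mul_eq_one_right (hexp u hu)])
  have e2 : u * v ≠ u := fun h => hv1 (mul_eq_left.mp h)
  have e3 : u * v ≠ v := fun h => hu1 (mul_eq_right.mp h)
  have hsub : ({1, u, v, u * v, w} : Finset G) ⊆ (P : Set G).toFinset := by
    intro z hz
    simp only [Finset.mem_insert, Finset.mem_singleton] at hz
    rw [Set.mem_toFinset]
    rcases hz with rfl | rfl | rfl | rfl | rfl
    exacts [P.one_mem, hu, hv, mul_mem hu hv, hw]
  have h5 : ({1, u, v, u * v, w} : Finset G).card = 5 := by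
    simp [Ne.symm hu1, Ne.symm hv1, Ne.symm hvu, Ne.symm e1, Ne.symm e2, Ne.symm e3, Ne.symm h1,
      Ne.symm h2, Ne.symm h3, Ne.symm h4]
  have h6 := Finset.card_le_card hsub
  rw [h5, Set.toFinset_card, ← Nat.card_eq_fintype_card] at h6
  exact absurd (hP ▸ h6) (by decide)

variable {M : Ideal AlgInt}

theorem stab_relIndex (hM : IsPModular p M) (hmax : IsMaximalBrauerPair p M B P e)
    (hab : ∀ x ∈ P, ∀ y ∈ P, x * y = y * x) :
    ¬ p ∣ (Subgroup.centralizer (P : Set G)).relIndex (pairStab M P e) := by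
  obtain ⟨F, hF, heq, -⟩ := exists_block_pairStab hM hmax.1.1
  have hD := defect_pairStab_top hM hmax hF heq
  have h := not_dvd_local_index hM hmax.1.1.2 (pairStab_le_normalizer P e)
    (centralizer_le_pairStab hM P e) hF heq hD
  have hle : (P ⊓ pairStab M P e).subgroupOf (pairStab M P e) ≤
      (Subgroup.centralizer (P : Set G)).subgroupOf (pairStab M P e) := fun u hu =>
    Subgroup.mem_centralizer_iff.2 fun q hq => hab q hq u hu.1
  rwa [sup_eq_right.2 hle] at h

theorem mem_centralizer_of_fix (hM : IsPModular 2 M) (hmax : IsMaximalBrauerPair 2 M B P e)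
    (hP : Nat.card P = 4) (hexp : ∀ x ∈ P, x * x = 1) {t : G} (ht : t ∈ pairStab M P e) {u : G}
    (hu : u ∈ P) (hu1 : u ≠ 1) (htu : t * u * t⁻¹ = u) :
    t ∈ Subgroup.centralizer (P : Set G) := by
  have : Fact (Nat.Prime 2) := ⟨Nat.prime_two⟩
  have hTN := pairStab_le_normalizer (M := M) P e
  have hn : ((Subgroup.centralizer (P : Set G)).subgroupOf (pairStab M P e)).Normal := Subgroup.normal_subgroupOf_of_le_normalizer fun g hg =>
    mem_normalizer_centralizer (hTN hg)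
  have h2 : t ^ 2 ∈ Subgroup.centralizer (P : Set G) := by
    rw [Subgroup.mem_centralizer_iff]
    intro v hv
    suffices h : t ^ 2 * v * (t ^ 2)⁻¹ = v by
      conv_rhs => rw [← inv_mul_cancel_right (t ^ 2 * v) (t ^ 2)]
      rw [h]
    have hv' : t * v * t⁻¹ ∈ P := (Subgroup.mem_normalizer_iff.mp (hTN ht) v).mp hv
    have e2 : t ^ 2 * v * (t ^ 2)⁻¹ = t * (t * v * t⁻¹) * t⁻¹ := by rw [sq]; group
    rw [e2]
    by_cases hv1 : v = 1
    · simp [hv1]
    by_cases hvu : v = u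
    · rw [hvu, htu, htu]
    rcases four_cases hP hexp hu hu1 hv hv1 hvu hv' with h | h | h | h
    · exact absurd (conj_eq_one_iff.mp h) hv1
    · exact absurd (mul_left_cancel (mul_right_cancel (h.trans htu.symm))) hvu
    · rw [h, h]
    · rw [h, show t * (u * v) * t⁻¹ = t * u * t⁻¹ * (t * v * t⁻¹) by group, htu, h, ← mul_assoc,
        hexp u hu, one_mul]
  have hodd := stab_relIndex hM hmax (abelian_of_mul_self hexp)
  obtain ⟨j, hj⟩ : Odd ((Subgroup.centralizer (P : Set G)).relIndex (pairStab M P e)) := Nat.not_even_iff_odd.mp fun h => hodd h.two_dvd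
  have h1 : (⟨t, ht⟩ : pairStab M P e) ^ ((Subgroup.centralizer (P : Set G)).subgroupOf (pairStab M P e)).index ∈ (Subgroup.centralizer (P : Set G)).subgroupOf (pairStab M P e) :=
    Subgroup.pow_index_mem _ _
  have h3 : t ^ (Subgroup.centralizer (P : Set G)).relIndex (pairStab M P e) ∈ Subgroup.centralizer (P : Set G) := h1
  rw [hj, pow_succ, pow_mul] at h3
  exact (Subgroup.mul_mem_cancel_left _ (pow_mem h2 j)).mp h3

theorem exists_three_le (hM : IsPModular 2 M) (hmax : IsMaximalBrauerPair 2 M B P e)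
    (hP : Nat.card P = 4) (hexp : ∀ x ∈ P, x * x = 1) [DecidableEq G] {X : Finset G}
    (hrep : ∀ g : G, (∃ k : ℕ, orderOf g = 2 ^ k) → ∃! x, x ∈ X ∧ IsConj g x)
    (hstab : ∀ t ∈ pairStab M P e, t ∈ Subgroup.centralizer (P : Set G)) :
    3 ≤ ∑ x ∈ X.erase 1,
      ∑ᶠ b ∈ {b | IsBrauerPairOf 2 M B (Subgroup.zpowers x) b}, blockRank 2 b := by
  classical
  have : Fact (Nat.Prime 2) := ⟨Nat.prime_two⟩
  have := Fintype.ofFinite G
  have hPe : IsBrauerPair 2 M P e := hmax.1.1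
  have hB : IsPBlock M B := hmax.1.2.1
  set U := (P : Set G).toFinset.erase 1 with hU
  have hUcard : U.card = 3 := by
    rw [hU, Finset.card_erase_of_mem (Set.mem_toFinset.mpr P.one_mem), Set.toFinset_card,
      ← Nat.card_eq_fintype_card]
    exact congrArg (· - 1) hP
  have hUP : ∀ u ∈ U, u ∈ P := fun u hu => Set.mem_toFinset.mp (Finset.mem_of_mem_erase hu)
  let J : Finset (Σ x : G, Set (IrrCharacter (Subgroup.centralizer (Subgroup.zpowers x : Set G)))) :=
    (X.erase 1).sigma fun x =>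
      (Set.toFinite {b | IsBrauerPairOf 2 M B (Subgroup.zpowers x) b}).toFinset
  have hstep : J.card ≤ ∑ x ∈ X.erase 1,
      ∑ᶠ b ∈ {b | IsBrauerPairOf 2 M B (Subgroup.zpowers x) b}, blockRank 2 b := by
    rw [Finset.card_sigma]
    refine Finset.sum_le_sum fun x _ => ?_
    rw [finsum_mem_eq_finite_toFinset_sum _ (Set.toFinite _), Finset.card_eq_sum_ones]
    exact Finset.sum_le_sum fun b hb =>
      blockRank_pos hM ((Set.Finite.mem_toFinset _).mp hb).1.2
  have hex : ∀ u ∈ U, ∃ j ∈ J, ∃ (g : G) (f : Set (IrrCharacter (Subgroup.centralizer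
      (Subgroup.zpowers u : Set G)))), IsPBlock M f ∧ SubpairLE 2 M (Subgroup.zpowers u) f P e ∧
      g * u * g⁻¹ = j.1 ∧
      conjIdx g (⟨Subgroup.zpowers u, f⟩ : BrauerPairIdx G) = ⟨Subgroup.zpowers j.1, j.2⟩ := by
    intro u hu
    have hu2 : orderOf u = 2 := orderOf_eq_prime (by rw [sq]; exact hexp u (hUP u hu))
      (Finset.ne_of_mem_erase hu)
    obtain ⟨x, ⟨hxX, hux⟩, -⟩ := hrep u ⟨1, by rw [hu2, pow_one]⟩
    obtain ⟨g, hg⟩ := isConj_iff.mp hux
    obtain ⟨f, hf, hle⟩ := exists_subpair hM hPe (Subgroup.zpowers_le.mpr (hUP u hu))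
    obtain ⟨b, hb⟩ := exists_idx_of_fst (a := conjIdx g (⟨Subgroup.zpowers u, f⟩ : BrauerPairIdx G))
      (show conjSub g (Subgroup.zpowers u) = Subgroup.zpowers x by rw [conjSub_zpowers, hg])
    refine ⟨⟨x, b⟩, Finset.mem_sigma.mpr ⟨Finset.mem_erase.mpr ⟨fun h => ?_, hxX⟩,
      (Set.Finite.mem_toFinset _).mpr ?_⟩, g, f, hf, hle, hg, hb.symm⟩
    · change x = 1 at h
      exact Finset.ne_of_mem_erase hu (conj_eq_one_iff.mp (hg.trans h))
    · have h := isBrauerPairOf_conj hM ((isBrauerPairOf_iff_of_le hM hB hle).mp hmax.1) g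
      show IsBrauerPairOf 2 M B (⟨Subgroup.zpowers x, b⟩ : BrauerPairIdx G).1
        (⟨Subgroup.zpowers x, b⟩ : BrauerPairIdx G).2
      rw [hb]
      exact h
  choose ι hιJ g f hf hle hg hidx using hex
  refine le_trans ?_ hstep
  rw [← hUcard, ← Finset.card_attach]
  refine Finset.card_le_card_of_injOn (fun u => ι u.1 u.2) (fun u _ => hιJ u.1 u.2) ?_
  rintro ⟨u, hu⟩ - ⟨u', hu'⟩ - h
  simp only at h
  apply Subtype.ext
  change u = u'
  have hz : conjIdx ((g u' hu')⁻¹ * g u hu) (⟨Subgroup.zpowers u, f u hu⟩ : BrauerPairIdx G) =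
      ⟨Subgroup.zpowers u', f u' hu'⟩ :=
    conjIdx_cancel (a := ⟨Subgroup.zpowers u, f u hu⟩) (a' := ⟨Subgroup.zpowers u', f u' hu'⟩) hM
      (hf u hu) (hf u' hu') ((hidx u hu).trans (by rw [h]; exact (hidx u' hu').symm))
  have hzu : (g u' hu')⁻¹ * g u hu * u * ((g u' hu')⁻¹ * g u hu)⁻¹ = u' := by
    calc _ = (g u' hu')⁻¹ * (g u hu * u * (g u hu)⁻¹) * g u' hu' := by group
      _ = (g u' hu')⁻¹ * (g u' hu' * u' * (g u' hu')⁻¹) * g u' hu' := by rw [hg u hu, h, hg u' hu']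
      _ = u' := by group
  obtain ⟨c, hc, hcz⟩ := fusion_of_abelian hM hmax (abelian_of_mul_self hexp) (hle u hu)
    (hf u' hu') (hle u' hu') hz
  have h1 := Subgroup.mem_centralizer_iff.mp (hstab _ hcz) u (hUP u hu)
  have h2 := Subgroup.mem_centralizer_iff.mp hc u' (Subgroup.mem_zpowers u')
  set z := (g u' hu')⁻¹ * g u hu
  calc u = c * z * u * (c * z)⁻¹ := by rw [← h1, mul_inv_cancel_right]
    _ = c * (z * u * z⁻¹) * c⁻¹ := by group
    _ = u' := by rw [hzu, ← h2, mul_inv_cancel_right]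

theorem defect_eq_two (hM : IsPModular 2 M) (hmax : IsMaximalBrauerPair 2 M B P e)
    (hP : Nat.card P = 4) : blockDefect 2 B = 2 := by
  have : Fact (Nat.Prime 2) := ⟨Nat.prime_two⟩
  have h := card_defectGroup hM hmax.1.2.1 (maximal_isDefectGroup hM hmax)
  rw [hP] at h
  exact (Nat.pow_right_injective le_rfl ((show 2 ^ 2 = 4 from rfl).trans h)).symm

theorem rank_one_of_stab (hM : IsPModular 2 M) (hmax : IsMaximalBrauerPair 2 M B P e)
    (hP : Nat.card P = 4) (hexp : ∀ x ∈ P, x * x = 1)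
    (hstab : ∀ t ∈ pairStab M P e, t ∈ Subgroup.centralizer (P : Set G)) :
    blockRank 2 B = 1 := by
  classical
  have hB : IsPBlock M B := hmax.1.2.1
  obtain ⟨X, h1, hX, hrep⟩ := exists_reps (G := G) 2
  have hk := card_eq_four hM hB (defect_eq_two hM hmax hP)
  rw [card_eq_rank_add hM hB h1 hX hrep] at hk
  have h3 := exists_three_le hM hmax hP hexp hrep hstab
  have h0 := blockRank_pos hM hB (p := 2)
  omega

omit [Finite G] in
theorem exists_down {H : Subgroup G} (hPH : P ≤ H) :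
    ∃ P' : Subgroup H, P'.map H.subtype = P ∧ P' = P.subgroupOf H :=
  ⟨_, Subgroup.map_subgroupOf_eq_of_le hPH, rfl⟩

theorem local_defectGroup (hM : IsPModular p M) (hmax : IsMaximalBrauerPair p M B P e)
    (hab : ∀ x ∈ P, ∀ y ∈ P, x * y = y * x) {Q : Subgroup G}
    {f : Set (IrrCharacter (Subgroup.centralizer (Q : Set G)))}
    (hf : IsPBlock M f) (hle : SubpairLE p M Q f P e) :
    P ≤ Subgroup.centralizer (Q : Set G) ∧
      IsDefectGroup p M f (P.subgroupOf (Subgroup.centralizer (Q : Set G))) := by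
  have hQP : Q ≤ P :=
    subgroup_le_of_subpairLE (a := (⟨Q, f⟩ : BrauerPairIdx G)) (b := ⟨P, e⟩) hle
  have hPH : P ≤ Subgroup.centralizer (Q : Set G) := fun v hv =>
    Subgroup.mem_centralizer_iff.2 fun q hq => hab q (hQP hq) v hv
  have hD : IsDefectGroup p M f
      ((P ⊓ Subgroup.centralizer (Q : Set G)).subgroupOf (Subgroup.centralizer (Q : Set G))) :=
    (local_fully_iff hM hmax hle hf (centralizer_le_normalizer hM Q) hf rfl).1 fun g _ => by
      rw [inf_eq_left.2 hPH]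
      exact Subgroup.card_le_of_le inf_le_left
  rw [inf_eq_left.2 hPH] at hD
  exact ⟨hPH, hD⟩

/-- Every block at an involution below the maximal pair has rank one. -/
theorem rank_local (hM : IsPModular 2 M) (hmax : IsMaximalBrauerPair 2 M B P e)
    (hP : Nat.card P = 4) (hexp : ∀ x ∈ P, x * x = 1) {u : G} (hu : u ∈ P) (hu1 : u ≠ 1)
    {f : Set (IrrCharacter (Subgroup.centralizer (Subgroup.zpowers u : Set G)))}
    (hf : IsPBlock M f) (hle : SubpairLE 2 M (Subgroup.zpowers u) f P e) :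
    blockRank 2 f = 1 := by
  have : Fact (Nat.Prime 2) := ⟨Nat.prime_two⟩
  have hQP : Subgroup.zpowers u ≤ P := Subgroup.zpowers_le.mpr hu
  have hCN := centralizer_le_normalizer hM (Subgroup.zpowers u)
  obtain ⟨hPH, hD⟩ := local_defectGroup hM hmax (abelian_of_mul_self hexp) hf hle
  have hfix := fun (t : G) (ht : t ∈ pairStab M P e) (htu : t * u * t⁻¹ = u) =>
    mem_centralizer_of_fix hM hmax hP hexp ht hu hu1 htu
  obtain ⟨-, hPe, -, -, -, hbr⟩ := (isNormalSubpair_iff hM).1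
    (normalSubpair_of_le hM hmax.1.1 hle (hPH.trans hCN))
  obtain ⟨P', hmap, hP'⟩ := exists_down hPH
  rw [← hP'] at hD
  clear hP' hle hmax
  subst hmap
  have hC : Subgroup.centralizer ((P'.map (Subgroup.centralizer (Subgroup.zpowers u : Set G)).subtype : Subgroup G) : Set G) ≤ Subgroup.centralizer (Subgroup.zpowers u : Set G) :=
    Subgroup.centralizer_le hQP
  obtain ⟨e', he', hup⟩ := exists_upBlock hM P' hC hPe.2
  subst hup
  have hpair : IsBrauerPairOf 2 M f P' e' :=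
    (isBrauerPairOf_sub_iff hM P' hC hf he').2 ⟨hPe.1, hbr⟩
  refine rank_one_of_stab hM (isMaximal_of_isDefectGroup hM hpair hD) ?_ ?_ ?_
  · rwa [← Subgroup.card_map_of_injective (Subgroup.centralizer (Subgroup.zpowers u : Set G)).subtype_injective]
  · exact fun x hx => Subtype.ext (hexp (x : G) ⟨x, hx, rfl⟩)
  · intro x hx
    obtain ⟨hxn, hxe⟩ := hx
    have hxu : (x : G) * u * (x : G)⁻¹ = u := by
      rw [← Subgroup.mem_centralizer_iff.mp x.2 u (Subgroup.mem_zpowers u), mul_inv_cancel_right]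
    refine (mem_centralizer_sub_iff P' x).mpr (hfix _ ⟨(mem_normalizer_sub_iff hM P' x).mp hxn, ?_⟩
      hxu)
    have h := congrArg (emb (Subgroup.centralizer (Subgroup.zpowers u : Set G))) hxe
    rwa [emb_cj, emb_cb hM P' hC] at h

/-- A pair at a nontrivial cyclic subgroup: an involution, with a block of rank one and defect two. -/
theorem rank_pair (hM : IsPModular 2 M) (hmax : IsMaximalBrauerPair 2 M B P e)
    (hP : Nat.card P = 4) (hexp : ∀ x ∈ P, x * x = 1) {u : G} (hu1 : u ≠ 1)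
    {b : Set (IrrCharacter (Subgroup.centralizer (Subgroup.zpowers u : Set G)))}
    (hb : IsBrauerPairOf 2 M B (Subgroup.zpowers u) b) :
    orderOf u = 2 ∧ blockRank 2 b = 1 ∧ blockDefect 2 b = 2 := by
  have : Fact (Nat.Prime 2) := ⟨Nat.prime_two⟩
  obtain ⟨P₁, e₁, hmax₁, hle₁⟩ := exists_maximal_ge hM hb
  obtain ⟨c, hc⟩ := isDefectGroup_conj_eq hM hmax.1.2.1 (maximal_isDefectGroup hM hmax)
    (maximal_isDefectGroup hM hmax₁)
  subst hc
  have hexp₁ : ∀ y ∈ conjSub c P, y * y = 1 := fun y hy => by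
    have h := hexp _ (mem_conjSub.mp hy)
    calc y * y = c * (c⁻¹ * y * c * (c⁻¹ * y * c)) * c⁻¹ := by group
      _ = 1 := by rw [h]; group
  have hcard : Nat.card (conjSub c P) = 4 := by rw [card_conjSub, hP]
  have huP : u ∈ conjSub c P :=
    subgroup_le_of_subpairLE (a := (⟨Subgroup.zpowers u, b⟩ : BrauerPairIdx G))
      (b := ⟨_, e₁⟩) hle₁ (Subgroup.mem_zpowers u)
  refine ⟨orderOf_eq_prime (by rw [sq]; exact hexp₁ u huP) hu1,
    rank_local hM hmax₁ hcard hexp₁ huP hu1 hb.1.2 hle₁, ?_⟩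
  obtain ⟨hPH, hD⟩ := local_defectGroup hM hmax₁ (abelian_of_mul_self hexp₁) hb.1.2 hle₁
  have h := card_defectGroup hM hb.1.2 hD
  rw [Nat.card_congr (Subgroup.subgroupOfEquivOfLe hPH).toEquiv, hcard] at h
  exact (Nat.pow_right_injective le_rfl ((show 2 ^ 2 = 4 from rfl).trans h)).symm

theorem conj_pair_eq (hM : IsPModular p M) (hmax : IsMaximalBrauerPair p M B P e) {t v w : G}
    (ht : t ∈ pairStab M P e) (htv : t * v * t⁻¹ = w)
    {fv : Set (IrrCharacter (Subgroup.centralizer (Subgroup.zpowers v : Set G)))}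
    {fw : Set (IrrCharacter (Subgroup.centralizer (Subgroup.zpowers w : Set G)))}
    (hv : SubpairLE p M (Subgroup.zpowers v) fv P e)
    (hw : SubpairLE p M (Subgroup.zpowers w) fw P e) :
    conjIdx t (⟨Subgroup.zpowers v, fv⟩ : BrauerPairIdx G) = ⟨Subgroup.zpowers w, fw⟩ := by
  obtain ⟨b, hb⟩ := exists_idx_of_fst (a := conjIdx t (⟨Subgroup.zpowers v, fv⟩ : BrauerPairIdx G))
    (show conjSub t (Subgroup.zpowers v) = Subgroup.zpowers w by rw [conjSub_zpowers, htv])
  have h := subpairLE_conj hM hv t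
  have hbw : SubpairLE p M (Subgroup.zpowers w) b P e := by
    unfold SubpairLE at h ⊢
    rw [show (⟨conjSub t P, conjBlock P t e⟩ : BrauerPairIdx G) = conjIdx t ⟨P, e⟩ from rfl,
      conjIdx_eq_self_of_mem_pairStab hM hmax.1.1.2 ht] at h
    rw [hb]
    exact h
  rw [← hb, subpair_unique hM hmax.1.1 hbw hw]

theorem transitive_case (hM : IsPModular 2 M) (hmax : IsMaximalBrauerPair 2 M B P e)
    (hP : Nat.card P = 4) (hexp : ∀ x ∈ P, x * x = 1)
    (htr : ∀ u ∈ P, ∀ v ∈ P, u ≠ 1 → v ≠ 1 → ∃ t ∈ pairStab M P e, t * v * t⁻¹ = u) :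
    blockRank 2 B = 3 := by
  classical
  have : Fact (Nat.Prime 2) := ⟨Nat.prime_two⟩
  have hB : IsPBlock M B := hmax.1.2.1
  have hPe : IsBrauerPair 2 M P e := hmax.1.1
  obtain ⟨X, h1, hX, hrep⟩ := exists_reps (G := G) 2
  have hk := card_eq_four hM hB (defect_eq_two hM hmax hP)
  rw [card_eq_rank_add hM hB h1 hX hrep] at hk
  suffices h : ∑ x ∈ X.erase 1,
      ∑ᶠ b ∈ {b | IsBrauerPairOf 2 M B (Subgroup.zpowers x) b}, blockRank 2 b = 1 by omega
  obtain ⟨u₀, hu₀, hu₀1⟩ : ∃ u ∈ P, u ≠ 1 := P.bot_or_exists_ne_one.resolve_left fun h => by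
    rw [h, Subgroup.card_bot] at hP
    omega
  obtain ⟨f₀, hf₀, hle₀⟩ := exists_subpair hM hPe (Subgroup.zpowers_le.mpr hu₀)
  have hu2 : orderOf u₀ = 2 := orderOf_eq_prime (by rw [sq]; exact hexp u₀ hu₀) hu₀1
  -- every pair at a nontrivial representative is conjugate to the one at `u₀`, and has rank one
  have hall : ∀ x ∈ X.erase 1, ∀ b, IsBrauerPairOf 2 M B (Subgroup.zpowers x) b →
      blockRank 2 b = 1 ∧ ∃ z : G, z * x * z⁻¹ = u₀ ∧
        conjIdx z (⟨Subgroup.zpowers x, b⟩ : BrauerPairIdx G) = ⟨Subgroup.zpowers u₀, f₀⟩ := by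
    intro x hx b hb
    obtain ⟨hx1, hxX⟩ := Finset.mem_erase.mp hx
    refine ⟨?_, ?_⟩
    · exact (rank_pair hM hmax hP hexp hx1 hb).2.1
    · obtain ⟨g, hg⟩ := exists_conj_le_maximal hM hmax hb
      obtain ⟨bv, hbv⟩ := exists_idx_of_fst
        (a := conjIdx g (⟨Subgroup.zpowers x, b⟩ : BrauerPairIdx G)) (conjSub_zpowers g x)
      have hgle : conjSub g (Subgroup.zpowers x) ≤ P := subgroup_le_of_subpairLE
        (a := (⟨conjSub g (Subgroup.zpowers x), conjBlock _ g b⟩ : BrauerPairIdx G))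
        (b := ⟨P, e⟩) hg
      have hv : g * x * g⁻¹ ∈ P := hgle (by rw [conjSub_zpowers]; exact Subgroup.mem_zpowers _)
      have hlev : SubpairLE 2 M (Subgroup.zpowers (g * x * g⁻¹)) bv P e := by
        unfold SubpairLE at hg ⊢
        rw [hbv]
        exact hg
      obtain ⟨t, ht, htv⟩ := htr u₀ hu₀ _ hv hu₀1 (fun h => hx1 (conj_eq_one_iff.mp h))
      refine ⟨t * g, ?_, ?_⟩
      · rw [← htv]; group
      · have h2 := conjIdx_conjIdx hM t g (a := (⟨Subgroup.zpowers x, b⟩ : BrauerPairIdx G)) hb.1.2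
        rw [← hbv, conj_pair_eq hM hmax ht htv hlev hle₀] at h2
        exact h2.symm
  -- the representative of the class of `u₀`
  obtain ⟨x₀, ⟨hx₀X, hux₀⟩, huniq⟩ := hrep u₀ ⟨1, by rw [hu2, pow_one]⟩
  obtain ⟨g₀, hg₀⟩ := isConj_iff.mp hux₀
  have hx₀ : x₀ ∈ X.erase 1 := Finset.mem_erase.mpr
    ⟨fun h => hu₀1 (conj_eq_one_iff.mp (hg₀.trans h)), hx₀X⟩
  obtain ⟨b₀, hb₀⟩ := exists_idx_of_fst
    (a := conjIdx g₀ (⟨Subgroup.zpowers u₀, f₀⟩ : BrauerPairIdx G))
    (show conjSub g₀ (Subgroup.zpowers u₀) = Subgroup.zpowers x₀ by rw [conjSub_zpowers, hg₀])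
  have hb₀B : IsBrauerPairOf 2 M B (Subgroup.zpowers x₀) b₀ := by
    have h := isBrauerPairOf_conj hM ((isBrauerPairOf_iff_of_le hM hB hle₀).mp hmax.1) g₀
    show IsBrauerPairOf 2 M B (⟨Subgroup.zpowers x₀, b₀⟩ : BrauerPairIdx G).1
      (⟨Subgroup.zpowers x₀, b₀⟩ : BrauerPairIdx G).2
    rw [hb₀]
    exact h
  rw [Finset.sum_eq_single_of_mem x₀ hx₀]
  · rw [show {b | IsBrauerPairOf 2 M B (Subgroup.zpowers x₀) b} = {b₀} from ?_,
      finsum_mem_singleton]
    · exact (hall x₀ hx₀ b₀ hb₀B).1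
    ext b
    refine ⟨fun hb => ?_, fun h => h ▸ hb₀B⟩
    obtain ⟨-, z, hz, hzb⟩ := hall x₀ hx₀ b hb
    obtain ⟨-, z', hz', hzb'⟩ := hall x₀ hx₀ b₀ hb₀B
    have hzc : z'⁻¹ * z ∈ Subgroup.centralizer (Subgroup.zpowers x₀ : Set G) := by
      rw [SecondMain.mem_centralizer_zpowers_iff]
      refine (mul_inv_eq_iff_eq_mul.mp ?_).symm
      calc z'⁻¹ * z * x₀ * (z'⁻¹ * z)⁻¹ = z'⁻¹ * (z * x₀ * z⁻¹) * z' := by group
        _ = x₀ := by rw [hz, ← hz']; group
    have h3 : conjIdx (z'⁻¹ * z) (⟨Subgroup.zpowers x₀, b⟩ : BrauerPairIdx G) =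
        ⟨Subgroup.zpowers x₀, b₀⟩ :=
      conjIdx_cancel (a := ⟨Subgroup.zpowers x₀, b⟩) (a' := ⟨Subgroup.zpowers x₀, b₀⟩) hM
        hb.1.2 hb₀B.1.2 (hzb.trans hzb'.symm)
    rw [conjIdx_eq_self_of_mem_pairStab hM hb.1.2 (centralizer_le_pairStab hM _ _ hzc)] at h3
    exact eq_of_heq (Sigma.mk.inj_iff.mp h3).2
  · intro x hx hne
    refine finsum_mem_eq_zero_of_forall_eq_zero fun b hb => absurd ?_ hne
    obtain ⟨-, z, hz, -⟩ := hall x hx b hb
    exact huniq x ⟨Finset.mem_of_mem_erase hx, (isConj_iff.mpr ⟨z, hz⟩).symm⟩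

/-- Klein four defect groups: four characters, and the rank is the inertial index, one or three. -/
theorem main (hM : IsPModular 2 M) (hmax : IsMaximalBrauerPair 2 M B P e)
    (hP : Nat.card P = 4) (hexp : ∀ x ∈ P, x * x = 1) {n : ℕ}
    (hn : (Subgroup.centralizer (P : Set G)).relIndex (pairStab M P e) = n) :
    (n = 1 ∨ n = 3) ∧ Nat.card B = 4 ∧ blockRank 2 B = n := by
  classical
  have : Fact (Nat.Prime 2) := ⟨Nat.prime_two⟩
  refine and_left_comm.mp ⟨card_eq_four hM hmax.1.2.1 (defect_eq_two hM hmax hP), ?_⟩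
  have := Fintype.ofFinite G
  obtain ⟨u, hu, hu1⟩ : ∃ u ∈ P, u ≠ 1 := P.bot_or_exists_ne_one.resolve_left fun h => by
    rw [h, Subgroup.card_bot] at hP
    omega
  set U := (P : Set G).toFinset.erase 1 with hU
  have hUcard : U.card = 3 := by
    rw [hU, Finset.card_erase_of_mem (Set.mem_toFinset.mpr P.one_mem), Set.toFinset_card,
      ← Nat.card_eq_fintype_card]
    exact congrArg (· - 1) hP
  -- the orbit map on the cosets of `C` in `T`
  let φ : pairStab M P e ⧸ (Subgroup.centralizer (P : Set G)).subgroupOf (pairStab M P e) → G := fun q => (q.out : G) * u * (q.out : G)⁻¹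
  have hφU : ∀ q, φ q ∈ U := fun q => Finset.mem_erase.mpr
    ⟨fun h => hu1 (conj_eq_one_iff.mp h), Set.mem_toFinset.mpr
      ((Subgroup.mem_normalizer_iff.mp (pairStab_le_normalizer P e q.out.2) u).mp hu)⟩
  have hφinj : Function.Injective φ := by
    intro q r hqr
    have hfix : ((r.out : G)⁻¹ * q.out) * u * ((r.out : G)⁻¹ * q.out)⁻¹ = u := by
      calc _ = (r.out : G)⁻¹ * φ q * r.out := by simp only [φ]; group
        _ = u := by rw [hqr]; simp only [φ]; group
    have h := mem_centralizer_of_fix hM hmax hP hexp (t := (r.out : G)⁻¹ * q.out)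
      (mul_mem (inv_mem r.out.2) q.out.2) hu hu1 hfix
    rw [← QuotientGroup.out_eq' q, ← QuotientGroup.out_eq' r]
    exact ((QuotientGroup.eq (a := r.out) (b := q.out)).mpr h).symm
  have hidx : n = Nat.card (pairStab M P e ⧸ (Subgroup.centralizer (P : Set G)).subgroupOf (pairStab M P e)) := hn.symm
  have hle : n ≤ 3 := by
    rw [hidx, Nat.card_eq_fintype_card, ← hUcard, ← Finset.card_univ]
    exact Finset.card_le_card_of_injOn φ (fun q _ => hφU q) hφinj.injOn
  have hpos : 0 < n := hidx ▸ Nat.card_pos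
  have hodd : ¬ 2 ∣ n := hn ▸ stab_relIndex hM hmax (abelian_of_mul_self hexp)
  have hn13 : n = 1 ∨ n = 3 := by omega
  refine ⟨hn13, ?_⟩
  rcases hn13 with h1 | h3
  · rw [h1]
    refine rank_one_of_stab hM hmax hP hexp fun t ht => ?_
    rw [h1, Subgroup.relIndex_eq_one] at hn
    exact hn ht
  · rw [h3]
    refine transitive_case hM hmax hP hexp fun a ha b hb ha1 hb1 => ?_
    have himg : Finset.univ.image φ = U := by
      refine Finset.eq_of_subset_of_card_le (fun x hx => ?_) ?_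
      · obtain ⟨q, -, rfl⟩ := Finset.mem_image.mp hx
        exact hφU q
      · rw [hUcard, Finset.card_image_of_injective _ hφinj, Finset.card_univ,
          ← Nat.card_eq_fintype_card, ← hidx, h3]
    obtain ⟨q, -, hq⟩ := Finset.mem_image.mp (himg.symm ▸
      Finset.mem_erase.mpr ⟨ha1, Set.mem_toFinset.mpr ha⟩ : a ∈ Finset.univ.image φ)
    obtain ⟨r, -, hr⟩ := Finset.mem_image.mp (himg.symm ▸
      Finset.mem_erase.mpr ⟨hb1, Set.mem_toFinset.mpr hb⟩ : b ∈ Finset.univ.image φ)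
    refine ⟨(q.out : G) * (r.out : G)⁻¹, mul_mem q.out.2 (inv_mem r.out.2), ?_⟩
    rw [← hr, ← hq]
    simp only [φ]
    group

end Cfsg.Agent.KleinDefect
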