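import Cfsg.Agent.Lib.Blocks.HeightZeroValues
import Cfsg.Agent.Lib.ZStar.Trunc
import Cfsg.Agent.Lib.BrauerPairs.Principal

/-!
# Blocks of the centraliser of a p-element

`exists_induced_coeff_not_memI`: a block `b` of `H = C(x)` inducing `B` whose idempotent is a unit at
a given `y ∈ H` at which that of `B` is; `induced_principal_iff` (third main theorem);
`blockDefect_le_of_induced`; `exists_blockPart_shift_ne_zero` (height zero characters survive on
every subsection).
-/

set_option autoImplicit false

open scoped ComplexConjugate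

namespace Cfsg.Agent.Blocks

open Cfsg Cfsg.Agent.ZStar

variable {G : Type*} [Group G] [Finite G] {p : ℕ} {M : Ideal AlgInt}

theorem induced_principal_iff (hM : IsPModular p M) {H : Subgroup G} {b : Set (IrrCharacter H)}
    (hb : InducedBlockDefined M H b) :
    IsInducedBlock M H b (principalBlock M G) ↔ b = principalBlock M H :=
  okuyama_criterion hM H (BrauerPairs.oneIrr G) (BrauerPairs.oneIrr H) (fun _ => rfl)
    (blockHeight_eq_zero_of_one rfl _) (blockHeight_eq_zero_of_one rfl _) hb

theorem blockDefect_le_of_induced (hM : IsPModular p M) {H : Subgroup G}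
    {b : Set (IrrCharacter H)} {B : Set (IrrCharacter G)} (hind : IsInducedBlock M H b B) :
    blockDefect p b ≤ blockDefect p B := by
  have : Fact p.Prime := ⟨hM.1⟩
  obtain ⟨D, hD⟩ := exists_isDefectGroup hM hind.1
  obtain ⟨E, hE, hle⟩ := exists_defectGroup_ge_of_induced hM hind hD
  have h := Subgroup.card_le_of_le hle
  rw [Subgroup.card_map_of_injective H.subtype_injective, card_defectGroup hM hind.1 hD,
    card_defectGroup hM hind.2.1 hE] at h
  exact (Nat.pow_le_pow_iff_right hM.1.one_lt).1 h

theorem card_le_pow_blockDefect (hM : IsPModular p M) {B : Set (IrrCharacter G)}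
    (hB : IsPBlock M B) {y : G} (hy : ¬ MemLocalIdeal M (blockCoeff B y)) {Q : Subgroup G}
    (hQ : IsPGroup p Q) (hQy : Q ≤ Subgroup.centralizer ({y} : Set G)) :
    Nat.card Q ≤ p ^ blockDefect p B := by
  have : Fact p.Prime := ⟨hM.1⟩
  obtain ⟨χ, hχ⟩ := isPBlock_nonempty hM hB
  obtain ⟨D, k, hk, S, hS⟩ := exists_isDefectGroup hM hB
  obtain ⟨x, hx⟩ := minmax hM hB hχ (hk.2.2 χ hχ) hy hQ hQy (D := D) ⟨S, hS⟩
  refine (Subgroup.card_le_of_le hx).trans (le_of_eq ?_)
  rw [card_conjSub]
  exact card_defectGroup hM hB ⟨k, hk, S, hS⟩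

/-- A block of the centraliser inducing `B` with a unit coefficient at `y`. -/
theorem exists_induced_coeff_not_memI (hM : IsPModular p M) {x : G}
    (hx : ∃ k, orderOf x = p ^ k) {H : Subgroup G} (hH : ∀ g, g ∈ H ↔ Commute x g)
    {B : Set (IrrCharacter G)} (hB : IsPBlock M B) {y : H}
    (hy : ¬ MemLocalIdeal M (blockCoeff B (y : G))) :
    ∃ b, IsInducedBlock M H b B ∧ ¬ MemLocalIdeal M (blockCoeff b y) := by
  classical
  have : Fact p.Prime := ⟨hM.1⟩
  have := Fintype.ofFinite (IrrCharacter H)
  have heR := blockInd_mem_intRing hM hB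
  set c := trunc H.subtype (blockInd B) with hc
  have hcR : c ∈ intRing hM := trunc_mem H.subtype hM heR
  have hP : IsPGroup p (Subgroup.zpowers x) := by
    obtain ⟨k, hk⟩ := hx
    exact IsPGroup.of_card (n := k) (by rw [Nat.card_zpowers, hk])
  have hcc : Cong M (c * c) c := by
    have h := (trunc_mul H.subtype hM (MulAut.conj.comp (Subgroup.zpowers x).subtype) hP
      Subtype.coe_injective (fun z => ?_) heR heR
      (fun r z => isClassFunction_ofOmega _ z r) (fun r z => isClassFunction_ofOmega _ z r)).symm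
    · rwa [blockInd_mul_self] at h
    · simp only [Subgroup.range_subtype, hH, MonoidHom.coe_comp, Function.comp_apply,
        Subgroup.coe_subtype, MulAut.conj_apply, Subtype.forall, mul_inv_eq_iff_eq_mul]
      refine ⟨fun h r hr => ?_, fun h => h x (Subgroup.mem_zpowers x)⟩
      obtain ⟨i, rfl⟩ := Subgroup.mem_zpowers_iff.1 hr
      exact (h.zpow_left i).eq
  by_contra hcon
  push Not at hcon
  refine hy ?_
  have hcy : ofOmega c y = blockCoeff B (y : G) := by
    rw [hc, ofOmega_trunc, ← blockCoeff_eq_ofOmega]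
    rfl
  have hsum := sum_blockInd (G := H) hM
  have hc' : c = ∑ b ∈ Finset.univ.image (fun χ : IrrCharacter H => blockOf M (χ : H → ℂ)),
      c * blockInd b := by rw [← Finset.mul_sum, hsum, mul_one]
  rw [← hcy, hc', show ofOmega (∑ b ∈ Finset.univ.image (fun χ : IrrCharacter H =>
      blockOf M (χ : H → ℂ)), c * blockInd b) = ∑ b ∈ Finset.univ.image (fun χ : IrrCharacter H =>
      blockOf M (χ : H → ℂ)), ofOmega (c * blockInd b) from
    map_sum (AddMonoidHom.mk' (ofOmega (G := H)) ofOmega_add) _ _, Finset.sum_apply]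
  refine memI_sum hM _ fun b hb => ?_
  obtain ⟨ξ₀, -, hbξ⟩ := Finset.mem_image.1 hb
  have hbB : IsPBlock M b := ⟨ξ₀, hbξ.symm⟩
  obtain ⟨B', hB'⟩ := SecondMain.exists_induced_centralizer hM hx hH hbB
  have hval : ∀ ξ ∈ b, MemLocalIdeal M (c ξ - if B' = B then 1 else 0) := by
    intro ξ hξ
    obtain ⟨χ, hχ⟩ := isPBlock_nonempty hM hB'.2.1
    have h := SecondMain.omega_restrict_congr hM hB' hξ hχ (isClassFunction_blockCoeff B)
      (memR_blockCoeff hM hB)
    rw [blockCoeff_eq_ofOmega, omega_ofOmega] at h
    by_cases hBB : B' = B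
    · rw [if_pos hBB]
      rw [blockInd_of_mem (hBB ▸ hχ)] at h
      exact h
    · rw [if_neg hBB]
      rw [blockInd_of_notMem fun h' => hBB (isPBlock_eq_of_mem hM hB'.2.1 hB hχ h')] at h
      exact h
  by_cases hBB : B' = B
  · have h1 : Cong M (c * blockInd b) (blockInd b) := mul_blockInd_cong hM hbB hcR hcc
      fun ξ hξ => by simpa [hBB] using hval ξ hξ
    exact (memI_iff_of_sub hM (h1.apply y)).2
      (by rw [← blockCoeff_eq_ofOmega]; exact hcon b (hBB ▸ hB'))
  · have hbR := blockInd_mem_intRing hM hbB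
    refine small_of_idem hM ((intRing hM).mul_mem hcR hbR) ?_ (fun ξ => ?_) y
    · rw [mul_mul_mul_comm, blockInd_mul_self]
      exact hcc.mul_right hM hbR
    · by_cases hξ : ξ ∈ b
      · simpa [hBB, blockInd_of_mem hξ] using hval ξ hξ
      · simpa [blockInd_of_notMem hξ] using memI_zero hM

/-- The block component of the regular part, read as a central element of `H`. -/
theorem blockPart_pRegularPart_eq {H : Type*} [Group H] [Finite H] [Fintype H]
    (b : Set (IrrCharacter H)) (θ : H → ℂ) (y : H) (hinv : ∀ k, conj (θ k) = θ k⁻¹) :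
    blockPart b (pRegularPart p θ) y⁻¹ =
      ofOmega (blockInd b * omegaFun (fun k => conj (pRegularPart p θ k))) y := by
  classical
  have := Fintype.ofFinite (IrrCharacter H)
  have hinv' : ∀ k, conj (pRegularPart p θ k) = pRegularPart p θ k⁻¹ := by
    intro k
    simp only [pRegularPart, IsPRegular, orderOf_inv]
    by_cases hd : p ∣ orderOf k <;> simp [hd, hinv]
  rw [SecondMain.blockPart_apply, finsum_mem_eq_toFinset_sum, ofOmega_eq_sum, Finset.mul_sum,
    ← Finset.sum_subset (Finset.subset_univ b.toFinset) fun η _ hη => by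
      rw [Pi.mul_apply, blockInd_of_notMem fun h => hη (Set.mem_toFinset.2 h)]; ring]
  refine Finset.sum_congr rfl fun η hη => ?_
  rw [Pi.mul_apply, blockInd_of_mem (Set.mem_toFinset.1 hη), one_mul, omegaFun, omega_eq_sum,
    div_mul_cancel₀ _ (irr_one_ne_zero η), classInner,
    Char.IsCharacter.apply_inv (Char.IsIrrCharacter.isCharacter η.2), ← mul_assoc]
  congr 1
  congr 1
  refine Fintype.sum_equiv (Equiv.inv H) _ _ fun k => ?_
  rw [Equiv.inv_apply, hinv' k⁻¹, inv_inv,
    Char.IsCharacter.apply_inv (Char.IsIrrCharacter.isCharacter η.2)]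

/-- A character of height zero does not vanish on any of its subsections. -/
theorem exists_blockPart_shift_ne_zero (hM : IsPModular p M) {x : G}
    (hx : ∃ k, orderOf x = p ^ k) {H : Subgroup G} (hH : ∀ g, g ∈ H ↔ Commute x g)
    {b : Set (IrrCharacter H)} {B : Set (IrrCharacter G)} (hind : IsInducedBlock M H b B)
    {χ : IrrCharacter G} (hχ : χ ∈ B) (h0 : blockHeight p B (χ : G → ℂ) = 0) :
    ∃ y : H, ¬ p ∣ orderOf y ∧
      blockPart b (fun c : H => (χ : G → ℂ) (x * (c : G))) y ≠ 0 := by
  classical
  have : Fact p.Prime := ⟨hM.1⟩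
  have := Fintype.ofFinite H
  by_contra hcon
  push Not at hcon
  obtain ⟨ξ, hξ⟩ := isPBlock_nonempty hM hind.1
  set θ : H → ℂ := fun c => (χ : G → ℂ) (c : G) with hθ
  set ϑ : H → ℂ := fun c => (χ : G → ℂ) (x * (c : G)) with hϑ
  have hθc : IsClassFunction H θ := fun a n => irr_class χ (a : G) (n : G)
  have hϑc : IsClassFunction H ϑ :=
    SecondMain.isClassFunction_shift (fun h hh => (hH h).1 hh) (irr_class χ)
  have hbR : ∀ k, MemLocalRing M (blockCoeff b k) := memR_blockCoeff hM hind.1
  have hreg : ∀ y : H, ¬ p ∣ orderOf y → MemLocalIdeal M (blockPart b (pRegularPart p θ) y) := by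
    intro y hy
    have h1 := hcon y hy
    rw [SecondMain.blockPart_congr_regular hM hind.1 (θ' := pRegularPart p ϑ)
      (fun m hm => by simp [pRegularPart, IsPRegular, hm]) hy] at h1
    refine (memI_iff_of_sub hM ?_).2 (show MemLocalIdeal M (blockPart b (pRegularPart p ϑ) y) by
      rw [h1]; exact memI_zero hM)
    rw [SecondMain.blockPart_eq_sum b (BrauerPairs.isClassFunction_pRegularPart hθc),
      SecondMain.blockPart_eq_sum b (BrauerPairs.isClassFunction_pRegularPart hϑc),
      ← Finset.sum_sub_distrib]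
    refine memI_sum hM _ fun k _ => ?_
    rw [← mul_sub]
    refine memI_mul_left hM (hbR k) ?_
    simp only [pRegularPart]
    split_ifs with hk
    · exact memI_sub_comm (memI_apply_mul_sub hM hx ((hH _).1 (k * y).2))
    · rw [sub_zero]; exact memI_zero hM
  set f : H → ℂ := fun k => regConj p (χ : G → ℂ) (k : G) with hf
  have hff : (fun k => conj (pRegularPart p θ k)) = f :=
    funext fun k => (regConj_restrict (χ : G → ℂ) H k).symm
  have hsmall : IsSmall M (blockInd b * omegaFun f) := by
    intro y
    by_cases hy : p ∣ orderOf y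
    · have hzero : ofOmega (blockInd b * omegaFun f) y = 0 := by
        have := Fintype.ofFinite (IrrCharacter H)
        rw [ofOmega_eq_sum, ← Finset.sum_subset (Finset.subset_univ b.toFinset) fun η _ hη => by
          rw [Pi.mul_apply, blockInd_of_notMem fun h => hη (Set.mem_toFinset.2 h)]; ring]
        simp only [Pi.mul_apply, omegaFun, omega_eq_sum]
        rw [Finset.sum_congr rfl fun η hη => by
          rw [blockInd_of_mem (Set.mem_toFinset.1 hη), one_mul,
            div_mul_cancel₀ _ (irr_one_ne_zero η)]]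
        simp only [Finset.sum_mul]
        rw [Finset.sum_comm, Finset.sum_eq_zero, mul_zero]
        intro k _
        by_cases hk : p ∣ orderOf k
        · refine Finset.sum_eq_zero fun η _ => ?_
          rw [← congrFun hff k]
          simp [pRegularPart, IsPRegular, hk]
        · simp only [mul_assoc, ← Finset.mul_sum, ← finsum_mem_eq_toFinset_sum]
          rw [weak_orth hM (blockInd_mem_intRing hM hind.1) hk hy, mul_zero]
      rw [hzero]
      exact memI_zero hM
    · rw [← hff, ← blockPart_pRegularPart_eq b θ y fun k => by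
        simp [θ, Char.IsCharacter.apply_inv (Char.IsIrrCharacter.isCharacter χ.2)]]
      exact hreg y⁻¹ (by rwa [orderOf_inv])
  have h1 := memI_of_isSmall hM hsmall ξ
  rw [Pi.mul_apply, blockInd_of_mem hξ, one_mul, omegaFun] at h1
  exact not_memI_omega_regConj hM hind.2.1 hχ h0 hχ
    ((memI_iff_of_sub hM (SecondMain.omega_restrict_congr hM hind hξ hχ
      (isClassFunction_regConj (irr_class χ)) (memR_regConj hM χ))).1 h1)

end Cfsg.Agent.Blocks
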