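import Cfsg.Agent.Lib.Blocks.KleinDefect
import Cfsg.Agent.Lib.BrauerPairs.InducedPairs
import Cfsg.Agent.Lib.BrauerPairs.Correspondence

/-!
# Inertial quotients on abelian 2-groups with three involutions

`inertial_facts`: for a maximal pair `(P, e)` with `P` an abelian 2-group with exactly four elements
killed by `2`, the inertial index is `1` or `3` and the quotient is abelian and acts freely on `P`.
-/

set_option autoImplicit false
set_option maxHeartbeats 1000000

namespace Cfsg.Agent.HomocyclicTwo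

open Cfsg Cfsg.Agent.Blocks Cfsg.Agent.BrauerPairs

variable {G : Type*} [Group G] [Finite G] {M : Ideal AlgInt} {B : Set (IrrCharacter G)}
  {P : Subgroup G} {e : Set (IrrCharacter (Subgroup.centralizer (P : Set G)))}

omit [Finite G] in
/-- An element of `N(P)` with an odd power centralising `P`, fixing the involutions, centralises
`P`. -/
theorem mem_centralizer_of_fix_omega (hPp : IsPGroup 2 P) (hab : ∀ x ∈ P, ∀ y ∈ P, x * y = y * x)
    {t : G} (htN : t ∈ Subgroup.normalizer (P : Set G)) {n : ℕ} (hn : Odd n)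
    (htn : t ^ n ∈ Subgroup.centralizer (P : Set G))
    (hfix : ∀ x ∈ P, x * x = 1 → t * x * t⁻¹ = x) : t ∈ Subgroup.centralizer (P : Set G) := by
  have key : ∀ (i : ℕ), ∀ x ∈ P, x ^ 2 ^ i = 1 → t * x * t⁻¹ = x := by
    intro i
    induction i with
    | zero =>
      intro x _ hx
      rw [pow_zero, pow_one] at hx
      simp [hx]
    | succ i ih =>
      intro x hx hxi
      have hy : t * (x * x) * t⁻¹ = x * x := ih (x * x) (mul_mem hx hx) (by
        rw [← pow_two, ← pow_mul, ← pow_succ', hxi])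
      have hx' : t * x * t⁻¹ ∈ P := (Subgroup.mem_normalizer_iff.1 htN x).1 hx
      set d := t * x * t⁻¹ * x⁻¹ with hd
      have hdP : d ∈ P := mul_mem hx' (inv_mem hx)
      have hc : Commute (t * x * t⁻¹) x⁻¹ := hab _ hx' _ (inv_mem hx)
      have hd2 : d * d = 1 := by
        rw [hd, ← pow_two, hc.mul_pow, pow_two, pow_two,
          show t * x * t⁻¹ * (t * x * t⁻¹) = t * (x * x) * t⁻¹ by group, hy]
        group
      have hdfix := hfix d hdP hd2
      have hpow : ∀ j : ℕ, t ^ j * x * (t ^ j)⁻¹ = d ^ j * x := by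
        intro j
        induction j with
        | zero => simp
        | succ j ihj =>
          calc t ^ (j + 1) * x * (t ^ (j + 1))⁻¹ = t * (t ^ j * x * (t ^ j)⁻¹) * t⁻¹ := by
                rw [pow_succ']; group
            _ = (t * d * t⁻¹) ^ j * (t * x * t⁻¹) := by rw [ihj, conj_pow]; group
            _ = d ^ j * (d * x) := by rw [hdfix, hd]; group
            _ = d ^ (j + 1) * x := by rw [← mul_assoc, ← pow_succ]
      have h := hpow n
      rw [← Subgroup.mem_centralizer_iff.1 htn x hx, mul_inv_cancel_right] at h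
      have hdn : d ^ n = 1 := mul_eq_right.1 h.symm
      obtain ⟨j, rfl⟩ := hn
      rw [pow_succ, pow_mul, pow_two, hd2, one_pow, one_mul] at hdn
      rw [hd, mul_inv_eq_one] at hdn
      exact hdn
  refine Subgroup.mem_centralizer_iff.2 fun x hx => ?_
  obtain ⟨i, hi⟩ := hPp ⟨x, hx⟩
  have h := key i x hx (by simpa using congrArg Subtype.val hi)
  conv_lhs => rw [← h]
  group

omit [Finite G] in
/-- With only four elements killed by `2`, two involutions and their product are all. -/
theorem involution_cases [Fintype P] [DecidableEq P] (hab : ∀ x ∈ P, ∀ y ∈ P, x * y = y * x)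
    (hfour : Nat.card {x : P // x * x = 1} = 4) {u x y : P} (hu : u * u = 1) (hu1 : u ≠ 1)
    (hx : x * x = 1) (hx1 : x ≠ 1) (hxu : x ≠ u) (hy : y * y = 1) :
    y = 1 ∨ y = u ∨ y = x ∨ y = u * x := by
  have hc : u * x = x * u := Subtype.ext (hab _ u.2 _ x.2)
  have hux : (u * x) * (u * x) = 1 := by
    rw [mul_assoc, ← mul_assoc x u x, ← hc, mul_assoc u x x, hx, mul_one, hu]
  have h4 : ({1, u, x, u * x} : Finset P).card = 4 := by
    have e1 : (1 : P) ≠ u * x := fun h => hxu (by
      rw [← mul_one u, h, ← mul_assoc, hu, one_mul])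
    have e2 : u ≠ u * x := fun h => hx1 (left_eq_mul.1 h)
    have e3 : x ≠ u * x := fun h => hu1 (right_eq_mul.1 h)
    rw [Finset.card_insert_of_notMem (by simp [hu1.symm, hx1.symm, e1]),
      Finset.card_insert_of_notMem (by simp [hxu.symm, e2]),
      Finset.card_insert_of_notMem (by simp [e3]), Finset.card_singleton]
  have hsub : ({1, u, x, u * x} : Finset P) ⊆ Finset.univ.filter fun z : P => z * z = 1 := by
    intro z hz
    simp only [Finset.mem_insert, Finset.mem_singleton] at hz
    rcases hz with rfl | rfl | rfl | rfl <;> simp [hu, hx, hux]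
  have heq := Finset.eq_of_subset_of_card_le hsub (by
    rw [h4, ← hfour, Nat.card_eq_fintype_card, Fintype.card_subtype])
  have hmem : y ∈ ({1, u, x, u * x} : Finset P) := heq ▸ Finset.mem_filter.2 ⟨Finset.mem_univ _, hy⟩
  simpa using hmem

omit [Finite G] in
/-- Fixing one involution. -/
theorem mem_centralizer_of_fix_one [Fintype P] [DecidableEq P] (hPp : IsPGroup 2 P)
    (hab : ∀ x ∈ P, ∀ y ∈ P, x * y = y * x) (hfour : Nat.card {x : P // x * x = 1} = 4) {t : G}
    (htN : t ∈ Subgroup.normalizer (P : Set G)) {n : ℕ} (hn : Odd n)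
    (htn : t ^ n ∈ Subgroup.centralizer (P : Set G)) {u : P} (hu : u * u = 1) (hu1 : u ≠ 1)
    (htu : t * (u : G) * t⁻¹ = u) : t ∈ Subgroup.centralizer (P : Set G) := by
  have ht2 : t ^ 2 ∈ Subgroup.centralizer (P : Set G) := by
    refine mem_centralizer_of_fix_omega hPp hab (pow_mem htN 2) hn ?_ fun x hx hx2 => ?_
    · rw [← pow_mul, mul_comm, pow_mul]
      exact pow_mem htn 2
    have hsq : t ^ 2 * x * (t ^ 2)⁻¹ = t * (t * x * t⁻¹) * t⁻¹ := by rw [sq]; group
    by_cases hx1 : x = 1
    · simp [hx1]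
    by_cases hxu : x = (u : G)
    · rw [hsq, hxu, htu, htu]
    have hx' : t * x * t⁻¹ ∈ P := (Subgroup.mem_normalizer_iff.1 htN x).1 hx
    have hy : (⟨t * x * t⁻¹, hx'⟩ : P) * ⟨t * x * t⁻¹, hx'⟩ = 1 := Subtype.ext (by
      show t * x * t⁻¹ * (t * x * t⁻¹) = 1
      rw [show t * x * t⁻¹ * (t * x * t⁻¹) = t * (x * x) * t⁻¹ by group, hx2]
      group)
    rcases involution_cases hab hfour hu hu1 (x := ⟨x, hx⟩) (Subtype.ext hx2)
      (fun h => hx1 (congrArg Subtype.val h)) (fun h => hxu (congrArg Subtype.val h)) hy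
      with h | h | h | h
    · exact absurd (conj_eq_one_iff.1 (congrArg Subtype.val h)) hx1
    · exact absurd (mul_left_cancel (mul_right_cancel ((congrArg Subtype.val h).trans htu.symm))) hxu
    · have h' : t * x * t⁻¹ = x := congrArg Subtype.val h
      rw [hsq, h', h']
    · have h' : t * x * t⁻¹ = (u : G) * x := congrArg Subtype.val h
      have hu' : (u : G) * u = 1 := congrArg Subtype.val hu
      rw [hsq, h', show t * ((u : G) * x) * t⁻¹ = t * (u : G) * t⁻¹ * (t * x * t⁻¹) by group, htu,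
        h', ← mul_assoc, hu', one_mul]
  obtain ⟨j, rfl⟩ := hn
  rw [pow_succ, pow_mul] at htn
  exact (Subgroup.mul_mem_cancel_left _ (pow_mem ht2 j)).1 htn

omit [Finite G] in
/-- Fixing one nontrivial element. -/
theorem mem_centralizer_of_fix_any [Fintype P] [DecidableEq P] (hPp : IsPGroup 2 P)
    (hab : ∀ x ∈ P, ∀ y ∈ P, x * y = y * x) (hfour : Nat.card {x : P // x * x = 1} = 4) {g : G}
    (hgN : g ∈ Subgroup.normalizer (P : Set G)) {n : ℕ} (hn : Odd n)
    (hgn : g ^ n ∈ Subgroup.centralizer (P : Set G)) {x : P} (hx1 : x ≠ 1)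
    (hgx : g * (x : G) * g⁻¹ = x) : g ∈ Subgroup.centralizer (P : Set G) := by
  obtain ⟨i, hi⟩ := hPp x
  induction i generalizing x with
  | zero => exact absurd (by simpa using hi) hx1
  | succ i ih =>
    by_cases h : x * x = 1
    · exact mem_centralizer_of_fix_one hPp hab hfour hgN hn hgn h hx1 hgx
    · refine ih h ?_ (by rw [← pow_two, ← pow_mul, ← pow_succ', hi])
      rw [Subgroup.coe_mul]
      conv_rhs => rw [← hgx]
      group

/-- The inertial quotient. -/
theorem inertial_facts (hM : IsPModular 2 M) (hmax : IsMaximalBrauerPair 2 M B P e)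
    (hab : ∀ x ∈ P, ∀ y ∈ P, x * y = y * x)
    (hfour : Nat.card {x : P // x * x = 1} = 4) :
    ((Subgroup.centralizer (P : Set G)).relIndex (pairStab M P e) = 1 ∨
      (Subgroup.centralizer (P : Set G)).relIndex (pairStab M P e) = 3) ∧
    (∀ g ∈ pairStab M P e, ∀ h ∈ pairStab M P e,
      g * h * g⁻¹ * h⁻¹ ∈ Subgroup.centralizer (P : Set G)) ∧
    (∀ g ∈ pairStab M P e, ∀ x ∈ P, x ≠ 1 → g * x * g⁻¹ = x →
      g ∈ Subgroup.centralizer (P : Set G)) := by
  classical
  have : Fact (Nat.Prime 2) := ⟨Nat.prime_two⟩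
  have hPp : IsPGroup 2 P := hmax.1.1.1
  have := Fintype.ofFinite P
  have hodd : Odd ((Subgroup.centralizer (P : Set G)).relIndex (pairStab M P e)) :=
    Nat.not_even_iff_odd.1 fun h => KleinDefect.stab_relIndex hM hmax hab h.two_dvd
  generalize hTdef : pairStab M P e = T at *
  have hTN : T ≤ Subgroup.normalizer (P : Set G) := hTdef ▸ pairStab_le_normalizer P e
  have hCn : ((Subgroup.centralizer (P : Set G)).subgroupOf T).Normal :=
    Subgroup.normal_subgroupOf_of_le_normalizer fun g hg => mem_normalizer_centralizer (hTN hg)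
  have htn : ∀ t ∈ T, t ^ (Subgroup.centralizer (P : Set G)).relIndex T
      ∈ Subgroup.centralizer (P : Set G) := fun t ht =>
    (Subgroup.pow_index_mem ((Subgroup.centralizer (P : Set G)).subgroupOf T) (⟨t, ht⟩ : T) :)
  have hfree : ∀ g ∈ T, ∀ x ∈ P, x ≠ 1 → g * x * g⁻¹ = x →
      g ∈ Subgroup.centralizer (P : Set G) := fun g hg x hx hx1 hgx =>
    mem_centralizer_of_fix_any hPp hab hfour (hTN hg) hodd (htn g hg) (x := ⟨x, hx⟩)
      (fun h => hx1 (congrArg Subtype.val h)) hgx
  let U : Finset P := (Finset.univ.filter fun x : P => x * x = 1).erase 1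
  have hU : U.card = 3 := by
    have h1 : (Finset.univ.filter fun x : P => x * x = 1).card = 4 := by
      rw [← hfour, Nat.card_eq_fintype_card, Fintype.card_subtype]
    have hmem : (1 : P) ∈ Finset.univ.filter fun x : P => x * x = 1 := by simp
    show ((Finset.univ.filter fun x : P => x * x = 1).erase 1).card = 3
    rw [Finset.card_erase_of_mem hmem, h1]
  obtain ⟨u, hu⟩ := Finset.card_pos.1 (by omega : 0 < U.card)
  obtain ⟨hu1, hu'⟩ := Finset.mem_erase.1 hu
  have hu2 : u * u = 1 := (Finset.mem_filter.1 hu').2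
  have hu2' : (u : G) * u = 1 := congrArg Subtype.val hu2
  let φ : T ⧸ (Subgroup.centralizer (P : Set G)).subgroupOf T → P := fun q =>
    ⟨(q.out : G) * u * (q.out : G)⁻¹, (Subgroup.mem_normalizer_iff.1 (hTN q.out.2) _).1 u.2⟩
  have hφU : ∀ q, φ q ∈ U := fun q => Finset.mem_erase.2
    ⟨fun h => hu1 (Subtype.ext (conj_eq_one_iff.1 (congrArg Subtype.val h))),
      Finset.mem_filter.2 ⟨Finset.mem_univ _, Subtype.ext (by
        show (q.out : G) * u * (q.out : G)⁻¹ * ((q.out : G) * u * (q.out : G)⁻¹) = 1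
        rw [show (q.out : G) * u * (q.out : G)⁻¹ * ((q.out : G) * u * (q.out : G)⁻¹)
          = (q.out : G) * ((u : G) * u) * (q.out : G)⁻¹ by group, hu2']
        group)⟩⟩
  have hφ : Function.Injective φ := by
    intro q r hqr
    have h' : (q.out : G) * (u : G) * (q.out : G)⁻¹ = (r.out : G) * (u : G) * (r.out : G)⁻¹ :=
      congrArg Subtype.val hqr
    have hfix : ((r.out : G)⁻¹ * q.out) * (u : G) * ((r.out : G)⁻¹ * q.out)⁻¹ = u := by
      calc _ = (r.out : G)⁻¹ * ((q.out : G) * u * (q.out : G)⁻¹) * r.out := by group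
        _ = u := by rw [h']; group
    have h := hfree _ (mul_mem (inv_mem r.out.2) q.out.2) (u : G) u.2
      (fun h => hu1 (Subtype.ext h)) hfix
    rw [← QuotientGroup.out_eq' q, ← QuotientGroup.out_eq' r]
    exact ((QuotientGroup.eq (a := r.out) (b := q.out)).mpr h).symm
  have hcard : Nat.card (T ⧸ (Subgroup.centralizer (P : Set G)).subgroupOf T) =
      (Subgroup.centralizer (P : Set G)).relIndex T := rfl
  have := Fintype.ofFinite (T ⧸ (Subgroup.centralizer (P : Set G)).subgroupOf T)
  have hle : (Subgroup.centralizer (P : Set G)).relIndex T ≤ 3 := by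
    rw [← hcard, Nat.card_eq_fintype_card, ← hU, ← Finset.card_univ]
    exact Finset.card_le_card_of_injOn φ (fun q _ => hφU q) hφ.injOn
  have hn13 : (Subgroup.centralizer (P : Set G)).relIndex T = 1 ∨
      (Subgroup.centralizer (P : Set G)).relIndex T = 3 := by
    obtain ⟨j, hj⟩ := hodd
    omega
  refine ⟨hn13, fun g hg h hh => ?_, hfree⟩
  suffices hq : (QuotientGroup.mk (⟨g, hg⟩ : T) : T ⧸ _) * QuotientGroup.mk ⟨h, hh⟩ =
      QuotientGroup.mk (s := (Subgroup.centralizer (P : Set G)).subgroupOf T) ⟨h, hh⟩ *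
        QuotientGroup.mk ⟨g, hg⟩ by
    have h1 : (QuotientGroup.mk ((⟨g, hg⟩ : T) * ⟨h, hh⟩ * ⟨g, hg⟩⁻¹ * ⟨h, hh⟩⁻¹) :
        T ⧸ (Subgroup.centralizer (P : Set G)).subgroupOf T) = 1 := by
      simp only [QuotientGroup.mk_mul, QuotientGroup.mk_inv]
      rw [hq]
      group
    exact Subgroup.mem_subgroupOf.1 ((QuotientGroup.eq_one_iff _).1 h1)
  rcases hn13 with h1 | h3
  · have := (Nat.card_eq_one_iff_unique.1 (hcard.trans h1)).1
    exact Subsingleton.elim _ _
  · have : Fact (Nat.Prime 3) := ⟨Nat.prime_three⟩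
    have : IsCyclic (T ⧸ (Subgroup.centralizer (P : Set G)).subgroupOf T) :=
      isCyclic_of_prime_card (hcard.trans h3)
    exact (IsCyclic.commGroup (α := T ⧸ (Subgroup.centralizer (P : Set G)).subgroupOf T)).mul_comm _ _

theorem card_two_torsion {D : Type*} [Group D] {m : ℕ} (hm : 1 ≤ m)
    (e : D ≃* Multiplicative (ZMod (2 ^ m) × ZMod (2 ^ m))) :
    Nat.card {x : D // x * x = 1} = 4 ∧ Nat.card D = 4 ^ m ∧ ∀ x y : D, x * y = y * x := by
  classical
  have hne : NeZero (2 ^ m) := ⟨by positivity⟩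
  obtain ⟨k, rfl⟩ : ∃ k, m = k + 1 := ⟨m - 1, by omega⟩
  refine ⟨?_, ?_, fun x y => e.injective (by rw [map_mul, map_mul, mul_comm])⟩
  · have h2 : ∀ a : ZMod (2 ^ (k + 1)), a + a = 0 ↔ a = 0 ∨ a = ((2 ^ k : ℕ) : ZMod _) := by
      intro a
      constructor
      · intro h
        have h1 : ((a.val + a.val : ℕ) : ZMod (2 ^ (k + 1))) = 0 := by
          push_cast [ZMod.natCast_zmod_val]
          exact h
        rw [ZMod.natCast_eq_zero_iff] at h1
        obtain ⟨c, hc⟩ := h1
        have hlt := a.val_lt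
        have hp2 : 2 ^ (k + 1) = 2 ^ k * 2 := pow_succ 2 k
        have hc2 : c < 2 := by
          by_contra hge
          have := Nat.mul_le_mul_left (2 ^ (k + 1)) (not_lt.1 hge)
          omega
        rcases (by omega : c = 0 ∨ c = 1) with rfl | rfl
        · left
          rw [← ZMod.natCast_zmod_val a, show a.val = 0 by omega, Nat.cast_zero]
        · right
          conv_lhs => rw [← ZMod.natCast_zmod_val a, show a.val = 2 ^ k by omega]
      · rintro (rfl | rfl)
        · exact add_zero 0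
        · rw [← Nat.cast_add, ← two_mul, ← pow_succ', ZMod.natCast_self]
    have hne2 : (0 : ZMod (2 ^ (k + 1))) ≠ ((2 ^ k : ℕ) : ZMod _) := by
      intro h
      have := congrArg ZMod.val h
      rw [ZMod.val_zero, ZMod.val_natCast_of_lt (Nat.pow_lt_pow_right one_lt_two k.lt_succ_self)]
        at this
      exact absurd this.symm (by positivity)
    let e' : {x : D // x * x = 1} ≃
        {a : ZMod (2 ^ (k + 1)) // a + a = 0} × {a : ZMod (2 ^ (k + 1)) // a + a = 0} :=
      { toFun := fun x => (⟨(Multiplicative.toAdd (e x)).1, by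
            have h := congrArg (fun z => (Multiplicative.toAdd (e z)).1) x.2
            simpa using h⟩, ⟨(Multiplicative.toAdd (e x)).2, by
            have h := congrArg (fun z => (Multiplicative.toAdd (e z)).2) x.2
            simpa using h⟩)
        invFun := fun a => ⟨e.symm (Multiplicative.ofAdd ((a.1 : ZMod _), (a.2 : ZMod _))), by
          rw [← map_mul, ← ofAdd_add, Prod.mk_add_mk, a.1.2, a.2.2, Prod.mk_zero_zero, ofAdd_zero,
            map_one]⟩
        left_inv := fun x => Subtype.ext (by simp)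
        right_inv := fun a => by simp }
    have h3 : Nat.card {a : ZMod (2 ^ (k + 1)) // a + a = 0} = 2 := by
      rw [Nat.card_eq_fintype_card, Fintype.card_subtype,
        show (Finset.univ.filter fun a : ZMod (2 ^ (k + 1)) => a + a = 0)
          = {0, ((2 ^ k : ℕ) : ZMod _)} by ext a; simp [h2], Finset.card_pair hne2]
    rw [Nat.card_congr e', Nat.card_prod, h3]
  · rw [Nat.card_congr e.toEquiv, Nat.card_congr Multiplicative.toAdd, Nat.card_prod, Nat.card_zmod,
      ← mul_pow]
    rfl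

/-- The setting of the count theorem for free inertial quotients, for a defect group of type
`(2^m, 2^m)`. -/
theorem exists_setting (hM : IsPModular 2 M) (hB : IsPBlock M B) {D : Subgroup G}
    (hD : IsDefectGroup 2 M B D) {m : ℕ} (hm : 1 ≤ m)
    (hiso : Nonempty (D ≃* Multiplicative (ZMod (2 ^ m) × ZMod (2 ^ m)))) :
    ∃ (c : Set (IrrCharacter (Subgroup.centralizer (D : Set G)))) (T : Subgroup G) (n : ℕ),
      IsInducedBlock M (Subgroup.centralizer (D : Set G)) c B ∧
      (∀ g : G, g ∈ T ↔ (g ∈ Subgroup.normalizer (D : Set G) ∧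
        StabilizesBlock (Subgroup.centralizer (D : Set G)) c g)) ∧
      (Subgroup.centralizer (D : Set G)).relIndex T = n ∧ (n = 1 ∨ n = 3) ∧
      Nat.card D = 4 ^ m ∧ D ≠ ⊥ ∧ (∀ x ∈ D, ∀ y ∈ D, x * y = y * x) ∧
      (∀ g ∈ T, ∀ h ∈ T, g * h * g⁻¹ * h⁻¹ ∈ Subgroup.centralizer (D : Set G)) ∧
      (∀ g ∈ T, ∀ x ∈ D, x ≠ 1 → g * x * g⁻¹ = x → g ∈ Subgroup.centralizer (D : Set G)) := by
  have : Fact (Nat.Prime 2) := ⟨Nat.prime_two⟩
  obtain ⟨eqv⟩ := hiso
  obtain ⟨hfour, hcard, hcomm⟩ := card_two_torsion hm eqv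
  have hab : ∀ x ∈ D, ∀ y ∈ D, x * y = y * x := fun x hx y hy =>
    congrArg Subtype.val (hcomm ⟨x, hx⟩ ⟨y, hy⟩)
  obtain ⟨e, he⟩ := exists_pair_of_defectGroup hM hB hD
  have hmax := isMaximal_of_isDefectGroup hM he hD
  have hPC : D ≤ Subgroup.centralizer (D : Set G) := fun x hx =>
    Subgroup.mem_centralizer_iff.2 fun y hy => hab y hy x hx
  obtain ⟨B', hind, hpair⟩ := exists_induced_of_centralizer_pair hM he.1.1 hPC he.1.2
  obtain rfl : B' = B := by
    by_contra hne
    have h1 := ((isBrauerPairOf_iff hM).1 hpair).2.2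
    have h2 := ((isBrauerPairOf_iff hM).1 he).2.2
    have := res_charP hM
    have := Fintype.ofFinite G
    refine bIdem_ne_zero hM he.1.2 (?_ : cb M D e = 0)
    rw [← h2, ← h1, ← mul_assoc, ← br_mul (p := 2) he.1.1 ((fixed_blk B).mono le_top)
      ((fixed_blk B').mono le_top), blk_mul_of_ne hM hB hind.2.1 (Ne.symm hne), br_zero, zero_mul]
  obtain ⟨h13, habq, hfree⟩ := inertial_facts hM hmax hab hfour
  refine ⟨e, pairStab M D e, _, hind, fun g => mem_pairStab_iff hM he.1.2, rfl, h13, hcard,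
    fun hbot => ?_, hab, habq, hfree⟩
  rw [hbot, Subgroup.card_bot] at hcard
  exact absurd hcard.symm (Nat.one_lt_pow (by omega) (by norm_num)).ne'

end Cfsg.Agent.HomocyclicTwo
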