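import Cfsg.Agent.EqLemmas

/-!
# Sylow subgroups of centralisers, as subgroups of the whole group

`SylowIn p K D`: `D` is a Sylow `p`-subgroup of the subgroup `K`, seen in `G`. This is literally the
second half of `Cfsg.IsDefectGroup`. Main results: `sylowIn_exists`, `sylowIn_of_le`,
`sylowIn_isConj`, `sylowIn_conj`, `sylowIn_normalizer_lift`, `pCore_le_of_sylowIn`.
-/

set_option autoImplicit false

namespace Cfsg.Agent.Blocks

variable {G : Type*} [Group G] {p : ℕ}

/-- `D` is a Sylow `p`-subgroup of `K`, viewed in `G`. -/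
def SylowIn (p : ℕ) (K D : Subgroup G) : Prop :=
  ∃ P : Sylow p K, D = (P : Subgroup K).map K.subtype

/-- The conjugate `x * D * x⁻¹`. -/
abbrev conjSub (x : G) (D : Subgroup G) : Subgroup G := D.map (MulAut.conj x).toMonoidHom

theorem mem_conjSub {x y : G} {D : Subgroup G} : y ∈ conjSub x D ↔ x⁻¹ * y * x ∈ D := by
  rw [conjSub, Subgroup.mem_map]
  simp only [MulEquiv.coe_toMonoidHom, MulAut.conj_apply]
  constructor
  · rintro ⟨w, hw, rfl⟩
    simpa [mul_assoc] using hw
  · exact fun h => ⟨_, h, by group⟩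

theorem conjSub_mul (x y : G) (D : Subgroup G) : conjSub x (conjSub y D) = conjSub (x * y) D := by
  ext z; simp [mul_assoc]

theorem conjSub_one (D : Subgroup G) : conjSub 1 D = D := by
  ext z; simp [mem_conjSub]

theorem conjSub_mono (x : G) {D E : Subgroup G} (h : D ≤ E) : conjSub x D ≤ conjSub x E :=
  Subgroup.map_mono h

theorem card_conjSub (x : G) (D : Subgroup G) : Nat.card (conjSub x D) = Nat.card D :=
  Subgroup.card_map_of_injective (MulAut.conj x).injective

theorem conjSub_eq_self_iff {x : G} {D : Subgroup G} [Finite G] :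
    conjSub x D = D ↔ x ∈ Subgroup.normalizer (D : Set G) := by
  rw [Subgroup.mem_normalizer_iff]
  constructor
  · intro h y
    have h1 : x * y * x⁻¹ ∈ conjSub x D ↔ y ∈ D := by rw [mem_conjSub]; simp [mul_assoc]
    rw [h] at h1
    exact h1.symm
  · intro h
    ext y
    rw [mem_conjSub]
    have := h (x⁻¹ * y * x)
    simpa [mul_assoc] using this

theorem mem_centralizer_singleton {g x : G} :
    x ∈ Subgroup.centralizer ({g} : Set G) ↔ x * g = g * x :=
  Subgroup.mem_centralizer_singleton_iff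

theorem le_centralizer_singleton {g : G} {D : Subgroup G} :
    D ≤ Subgroup.centralizer ({g} : Set G) ↔ g ∈ Subgroup.centralizer (D : Set G) := by
  rw [Subgroup.mem_centralizer_iff]
  exact ⟨fun h u hu => mem_centralizer_singleton.mp (h hu),
    fun h u hu => mem_centralizer_singleton.mpr (h u hu)⟩

theorem conjSub_centralizer (x g : G) :
    conjSub x (Subgroup.centralizer ({g} : Set G))
      = Subgroup.centralizer ({x * g * x⁻¹} : Set G) := by
  ext y
  simp only [mem_conjSub, mem_centralizer_singleton]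
  constructor <;> intro h
  · calc y * (x * g * x⁻¹) = x * (x⁻¹ * y * x * g) * x⁻¹ := by group
      _ = x * (g * (x⁻¹ * y * x)) * x⁻¹ := by rw [h]
      _ = x * g * x⁻¹ * y := by group
  · calc x⁻¹ * y * x * g = x⁻¹ * (y * (x * g * x⁻¹)) * x := by group
      _ = x⁻¹ * (x * g * x⁻¹ * y) * x := by rw [h]
      _ = g * (x⁻¹ * y * x) := by group

theorem sylowIn_iff {K D : Subgroup G} :
    SylowIn p K D ↔ D ≤ K ∧ IsPGroup p D ∧
      ∀ Q : Subgroup G, Q ≤ K → IsPGroup p Q → D ≤ Q → Q = D := by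
  constructor
  · rintro ⟨P, rfl⟩
    refine ⟨Subgroup.map_subtype_le _, P.2.map _, fun Q hQK hQ hPQ => ?_⟩
    have h1 : (P : Subgroup K) ≤ Q.subgroupOf K := Subgroup.map_le_iff_le_comap.mp hPQ
    have h2 : IsPGroup p (Q.subgroupOf K) :=
      hQ.of_equiv (Subgroup.subgroupOfEquivOfLe hQK).symm
    rw [← P.3 h2 h1, Subgroup.map_subgroupOf_eq_of_le hQK]
  · rintro ⟨hDK, hD, hmax⟩
    refine ⟨⟨D.subgroupOf K, hD.of_equiv (Subgroup.subgroupOfEquivOfLe hDK).symm,
      fun {Q} hQ hle => ?_⟩, (Subgroup.map_subgroupOf_eq_of_le hDK).symm⟩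
    have h1 : Q.map K.subtype = D := hmax _ (Subgroup.map_subtype_le _) (hQ.map _) (by
      rw [← Subgroup.map_subgroupOf_eq_of_le hDK]
      exact Subgroup.map_mono hle)
    rw [← h1, Subgroup.subgroupOf, Subgroup.comap_map_eq_self_of_injective K.subtype_injective]

theorem sylowIn_le {K D : Subgroup G} (h : SylowIn p K D) : D ≤ K := (sylowIn_iff.mp h).1

theorem sylowIn_isPGroup {K D : Subgroup G} (h : SylowIn p K D) : IsPGroup p D :=
  (sylowIn_iff.mp h).2.1

theorem sylowIn_exists_ge (K : Subgroup G) {Q : Subgroup G} (hQK : Q ≤ K) (hQ : IsPGroup p Q) :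
    ∃ D, SylowIn p K D ∧ Q ≤ D := by
  obtain ⟨P, hP⟩ := (hQ.of_equiv (Subgroup.subgroupOfEquivOfLe hQK).symm).exists_le_sylow
  refine ⟨_, ⟨P, rfl⟩, ?_⟩
  rw [← Subgroup.map_subgroupOf_eq_of_le hQK]
  exact Subgroup.map_mono hP

theorem sylowIn_exists (p : ℕ) (K : Subgroup G) : ∃ D, SylowIn p K D :=
  (sylowIn_exists_ge K bot_le IsPGroup.of_bot).imp fun _ h => h.1

theorem sylowIn_conjSub {K D : Subgroup G} (h : SylowIn p K D) (x : G) :
    SylowIn p (conjSub x K) (conjSub x D) := by
  rw [sylowIn_iff] at h ⊢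
  refine ⟨conjSub_mono x h.1, h.2.1.map _, fun Q hQK hQ hle => ?_⟩
  have key : conjSub x⁻¹ Q = D := by
    refine h.2.2 _ ?_ (hQ.map _) ?_
    · have := conjSub_mono x⁻¹ hQK
      rwa [conjSub_mul, inv_mul_cancel, conjSub_one] at this
    · have := conjSub_mono x⁻¹ hle
      rwa [conjSub_mul, inv_mul_cancel, conjSub_one] at this
  rw [← key, conjSub_mul, mul_inv_cancel, conjSub_one]

theorem sylowIn_conj {g : G} {D : Subgroup G}
    (h : SylowIn p (Subgroup.centralizer ({g} : Set G)) D) (x : G) :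
    SylowIn p (Subgroup.centralizer ({x * g * x⁻¹} : Set G)) (conjSub x D) :=
  conjSub_centralizer x g ▸ sylowIn_conjSub h x

theorem sylowIn_isConj [Finite G] [Fact p.Prime] {K D E : Subgroup G} (hD : SylowIn p K D)
    (hE : SylowIn p K E) : ∃ y ∈ K, conjSub y D = E := by
  obtain ⟨P, rfl⟩ := hD
  obtain ⟨Q, rfl⟩ := hE
  obtain ⟨y, hy⟩ := MulAction.exists_smul_eq K P Q
  refine ⟨y, y.2, ?_⟩
  ext z
  rw [← hy, mem_conjSub]
  simp only [Sylow.coe_subgroup_smul, Subgroup.mem_map, Subgroup.coe_subtype,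
    Subgroup.mem_pointwise_smul_iff_inv_smul_mem, ← map_inv, MulAut.smul_def, MulAut.conj_apply,
    inv_inv]
  constructor
  · rintro ⟨w, hw, hwz⟩
    refine ⟨y * w * y⁻¹, by simpa [mul_assoc] using hw, ?_⟩
    simp [hwz, mul_assoc]
  · rintro ⟨w, hw, rfl⟩
    exact ⟨_, hw, by simp⟩

theorem sylowIn_card_eq [Finite G] [Fact p.Prime] {K D E : Subgroup G} (hD : SylowIn p K D)
    (hE : SylowIn p K E) : Nat.card D = Nat.card E := by
  obtain ⟨y, _, rfl⟩ := sylowIn_isConj hD hE
  exact (card_conjSub y D).symm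

/-- A `p`-subgroup of `K` is contained in a conjugate, by an element of `K`, of a given Sylow
subgroup of `K`. -/
theorem le_conjSub_of_sylowIn [Finite G] [Fact p.Prime] {K D Q : Subgroup G}
    (hD : SylowIn p K D) (hQK : Q ≤ K) (hQ : IsPGroup p Q) : ∃ y ∈ K, Q ≤ conjSub y D := by
  obtain ⟨E, hE, hQE⟩ := sylowIn_exists_ge K hQK hQ
  obtain ⟨y, hy, rfl⟩ := sylowIn_isConj hD hE
  exact ⟨y, hy, hQE⟩

theorem sylowIn_card [Finite G] [Fact p.Prime] {K D : Subgroup G} (hD : SylowIn p K D) :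
    Nat.card D = p ^ (Nat.card K).factorization p := by
  obtain ⟨P, rfl⟩ := hD
  rw [Subgroup.card_map_of_injective K.subtype_injective]
  exact P.card_eq_multiplicity

theorem sylowIn_of_card_eq [Finite G] [Fact p.Prime] {K D : Subgroup G} (hDK : D ≤ K)
    (hD : IsPGroup p D) (hcard : Nat.card D = p ^ (Nat.card K).factorization p) :
    SylowIn p K D := by
  obtain ⟨E, hE, hDE⟩ := sylowIn_exists_ge K hDK hD
  rwa [Subgroup.eq_of_le_of_card_ge hDE (le_of_eq (by rw [sylowIn_card hE, hcard]))]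

/-- A normal `p`-subgroup contained in `K` lies in every Sylow subgroup of `K`. -/
theorem normal_le_of_sylowIn [Finite G] [Fact p.Prime] {K D Q : Subgroup G} [Q.Normal]
    (hD : SylowIn p K D) (hQK : Q ≤ K) (hQ : IsPGroup p Q) : Q ≤ D := by
  obtain ⟨y, _, hy⟩ := le_conjSub_of_sylowIn hD hQK hQ
  intro q hq
  have := hy (Subgroup.Normal.conj_mem inferInstance q hq y)
  rw [mem_conjSub] at this
  simpa [mul_assoc] using this

/-- If `P` is a Sylow subgroup of `K ∩ N(P)` then it is one of `K`. -/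
theorem sylowIn_of_sylowIn_normalizer [Finite G] [Fact p.Prime] {K P : Subgroup G}
    (h : SylowIn p (K ⊓ Subgroup.normalizer (P : Set G)) P) : SylowIn p K P := by
  obtain ⟨hPK, hP, hmax⟩ := sylowIn_iff.mp h
  obtain ⟨E, hE, hPE⟩ := sylowIn_exists_ge K (hPK.trans inf_le_left) hP
  suffices P = E by rwa [this]
  by_contra hne
  have hlt : P.subgroupOf E < ⊤ := by
    rw [lt_top_iff_ne_top]
    intro htop
    exact hne (le_antisymm hPE (Subgroup.subgroupOf_eq_top.mp htop))
  have hnil : Group.IsNilpotent E := (sylowIn_isPGroup hE).isNilpotent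
  have hgrow := Group.normalizerCondition_of_isNilpotent (P.subgroupOf E) hlt
  let Q : Subgroup G := (Subgroup.normalizer (P.subgroupOf E : Set E)).map E.subtype
  have hQE : Q ≤ E := Subgroup.map_subtype_le _
  have hPQ : P < Q := by
    rw [← Subgroup.map_subgroupOf_eq_of_le hPE]
    exact Subgroup.map_lt_map_iff_of_injective E.subtype_injective |>.mpr hgrow
  have hQN : Q ≤ Subgroup.normalizer (P : Set G) := by
    rintro _ ⟨y, hy, rfl⟩
    rw [SetLike.mem_coe, Subgroup.mem_normalizer_iff] at hy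
    rw [Subgroup.mem_normalizer_iff]
    intro z
    constructor
    · intro hz
      simpa [Subgroup.mem_subgroupOf] using (hy ⟨z, hPE hz⟩).mp (Subgroup.mem_subgroupOf.mpr hz)
    · intro hz
      have hzE : z ∈ E := by
        have := E.mul_mem (E.mul_mem (E.inv_mem y.2) (hPE hz)) y.2
        simpa [mul_assoc] using this
      exact (hy ⟨z, hzE⟩).mpr (by simpa [Subgroup.mem_subgroupOf] using hz)
  exact hPQ.ne' (hmax Q (le_inf (hQE.trans (sylowIn_le hE)) hQN)
    ((sylowIn_isPGroup hE).to_le hQE) hPQ.le)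

end Cfsg.Agent.Blocks
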