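import Cfsg.Agent.Lib.Blocks.Osima
import Cfsg.Agent.Lib.Blocks.OrbitSum
import Cfsg.Agent.Lib.Blocks.SylowIn

/-!
# The Brauer map and the min-max lemma

`memI_conv_sub_centralizer` (products of `P`-invariant elements at points of `C(P)`),
`brauerTrunc`, `brauerPhi` (a central character of `H` after truncation to `C(P)`), the block
attached to such a map (`exists_block_of_hom`, `exists_block_brauerPhi`),
`exists_le_conjSub_of_conv` and `minmax`, and the basic facts on defect classes and groups.
-/

set_option autoImplicit false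

open scoped ComplexConjugate

namespace Cfsg.Agent.Blocks

open Cfsg

variable {G : Type*} [Group G] [Finite G] {p : ℕ} {M : Ideal AlgInt}

open scoped Classical in
/-- Products of `P`-invariant elements only see `C(P)` at points of `C(P)`, modulo `p`. -/
theorem memI_conv_sub_centralizer [Fintype G] [Fact p.Prime] (hM : IsPModular p M) {P : Subgroup G}
    (hP : IsPGroup p P) {z w : G → ℂ} (hz : ∀ u ∈ P, ∀ x, z (u * x * u⁻¹) = z x)
    (hw : ∀ u ∈ P, ∀ x, w (u * x * u⁻¹) = w x) (hzR : ∀ x, MemLocalRing M (z x))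
    (hwR : ∀ x, MemLocalRing M (w x)) {y : G} (hy : y ∈ Subgroup.centralizer (P : Set G)) :
    MemLocalIdeal M (conv z w y -
      ∑ x ∈ Finset.univ.filter (fun x => x ∈ Subgroup.centralizer (P : Set G)), z x * w (x⁻¹ * y)) := by
  let S : AddSubmonoid ℂ :=
    { carrier := {v | MemLocalIdeal M v}
      add_mem' := memI_add hM
      zero_mem' := memI_zero hM }
  rw [conv_eq_sum, conj_sum_eq_sum_centralizer_add (P := P), add_sub_cancel_left]
  refine conj_sum_not_centralizer_mem hP _ ?_ S fun x => ?_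
  · intro u hu x
    have hyu : u⁻¹ * y = y * u⁻¹ := Subgroup.mem_centralizer_iff.mp hy u⁻¹ (P.inv_mem hu)
    have he : (u * x * u⁻¹)⁻¹ * y = u * (x⁻¹ * y) * u⁻¹ := by
      simp only [mul_inv_rev, inv_inv, mul_assoc, hyu]
    rw [hz u hu, he, hw u hu]
  · show MemLocalIdeal M _
    rw [nsmul_eq_mul]
    exact memI_mul_right hM (memI_p hM) (memR_mul hM (hzR x) (hwR _))

open scoped Classical in
/-- Truncation to `C(P)`, as a function on `H`. -/
noncomputable def brauerTrunc (P H : Subgroup G) (z : G → ℂ) : H → ℂ :=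
  fun h => if (h : G) ∈ Subgroup.centralizer (P : Set G) then z h else 0

omit [Finite G] in
theorem conj_mem_centralizer_iff {P : Subgroup G} {n : G}
    (hn : n ∈ Subgroup.normalizer (P : Set G)) (x : G) :
    n * x * n⁻¹ ∈ Subgroup.centralizer (P : Set G) ↔ x ∈ Subgroup.centralizer (P : Set G) := by
  simp only [Subgroup.mem_centralizer_iff, SetLike.mem_coe]
  rw [Subgroup.mem_normalizer_iff] at hn
  constructor
  · intro h u hu
    have h1 := h _ ((hn u).mp hu)
    have h2 : n * (u * x) * n⁻¹ = n * (x * u) * n⁻¹ := by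
      calc n * (u * x) * n⁻¹ = n * u * n⁻¹ * (n * x * n⁻¹) := by group
        _ = n * x * n⁻¹ * (n * u * n⁻¹) := h1
        _ = n * (x * u) * n⁻¹ := by group
    exact mul_left_cancel (mul_right_cancel h2)
  · intro h u hu
    have h1 : n⁻¹ * u * n ∈ P := (hn _).mpr (by
      have : n * (n⁻¹ * u * n) * n⁻¹ = u := by group
      rwa [this])
    calc u * (n * x * n⁻¹) = n * (n⁻¹ * u * n * x) * n⁻¹ := by group
      _ = n * (x * (n⁻¹ * u * n)) * n⁻¹ := by rw [h _ h1]
      _ = n * x * n⁻¹ * u := by group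

omit [Finite G] in
theorem isClassFunction_brauerTrunc {P H : Subgroup G}
    (hH : H ≤ Subgroup.normalizer (P : Set G)) {z : G → ℂ} (hz : IsClassFunction G z) :
    IsClassFunction H (brauerTrunc P H z) := by
  intro x n
  simp only [brauerTrunc, Subgroup.coe_mul, Subgroup.coe_inv]
  by_cases h : (x : G) ∈ Subgroup.centralizer (P : Set G)
  · rw [if_pos h, if_pos ((conj_mem_centralizer_iff (hH n.2) _).mpr h), hz]
  · rw [if_neg h, if_neg fun h' => h ((conj_mem_centralizer_iff (hH n.2) _).mp h')]

theorem memR_brauerTrunc (hM : IsPModular p M) (P H : Subgroup G) {z : G → ℂ}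
    (hz : ∀ x, MemLocalRing M (z x)) (h : H) : MemLocalRing M (brauerTrunc P H z h) := by
  unfold brauerTrunc
  split_ifs
  · exact hz _
  · exact memR_zero hM

theorem memI_brauerTrunc (hM : IsPModular p M) (P H : Subgroup G) {z : G → ℂ}
    (hz : ∀ x, MemLocalIdeal M (z x)) (h : H) : MemLocalIdeal M (brauerTrunc P H z h) := by
  unfold brauerTrunc
  split_ifs
  · exact hz _
  · exact memI_zero hM

/-- Truncation is multiplicative modulo the local ideal. -/
theorem memI_brauerTrunc_conv [Fact p.Prime] (hM : IsPModular p M) {P H : Subgroup G}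
    (hP : IsPGroup p P) (hCH : Subgroup.centralizer (P : Set G) ≤ H) {z w : G → ℂ}
    (hz : IsClassFunction G z) (hw : IsClassFunction G w) (hzR : ∀ x, MemLocalRing M (z x))
    (hwR : ∀ x, MemLocalRing M (w x)) (h : H) :
    MemLocalIdeal M (brauerTrunc P H (conv z w) h
      - conv (brauerTrunc P H z) (brauerTrunc P H w) h) := by
  classical
  have := Fintype.ofFinite G
  have hsum : conv (brauerTrunc P H z) (brauerTrunc P H w) h =
      if (h : G) ∈ Subgroup.centralizer (P : Set G) then
        ∑ x ∈ Finset.univ.filter (fun x => x ∈ Subgroup.centralizer (P : Set G)),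
          z x * w (x⁻¹ * (h : G)) else 0 := by
    rw [conv_eq_sum]
    by_cases hh : (h : G) ∈ Subgroup.centralizer (P : Set G)
    · rw [if_pos hh, Finset.sum_filter]
      refine Fintype.sum_of_injective (fun x : H => (x : G)) Subtype.val_injective _ _ ?_ ?_
      · intro x hx
        exact if_neg fun hxC => hx ⟨⟨x, hCH hxC⟩, rfl⟩
      · intro x
        simp only [brauerTrunc, Subgroup.coe_mul, Subgroup.coe_inv]
        by_cases hxC : (x : G) ∈ Subgroup.centralizer (P : Set G)
        · rw [if_pos hxC, if_pos hxC, if_pos (Subgroup.mul_mem _ (Subgroup.inv_mem _ hxC) hh)]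
        · rw [if_neg hxC, if_neg hxC, zero_mul]
    · rw [if_neg hh]
      refine Finset.sum_eq_zero fun x _ => ?_
      simp only [brauerTrunc, Subgroup.coe_mul, Subgroup.coe_inv]
      by_cases hxC : (x : G) ∈ Subgroup.centralizer (P : Set G)
      · rw [if_neg (c := ((x : G)⁻¹ * (h : G)) ∈ _), mul_zero]
        intro hmem
        exact hh (by simpa using Subgroup.mul_mem _ hxC hmem)
      · rw [if_neg hxC, zero_mul]
  rw [hsum, brauerTrunc]
  by_cases hh : (h : G) ∈ Subgroup.centralizer (P : Set G)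
  · rw [if_pos hh, if_pos hh]
    exact memI_conv_sub_centralizer hM hP (fun u _ x => hz x u) (fun u _ x => hw x u) hzR hwR hh
  · rw [if_neg hh, if_neg hh, sub_zero]
    exact memI_zero hM

/-- The central character of `ξ` at the truncation to `C(P)` of the element `ofOmega c`. -/
noncomputable def brauerPhi (P H : Subgroup G) (ξ : IrrCharacter H) (c : IrrCharacter G → ℂ) : ℂ :=
  omega (ξ : H → ℂ) (brauerTrunc P H (ofOmega c))

theorem brauerPhi_add (P H : Subgroup G) (ξ : IrrCharacter H) (c d : IrrCharacter G → ℂ) :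
    brauerPhi P H ξ (c + d) = brauerPhi P H ξ c + brauerPhi P H ξ d := by
  classical
  have := Fintype.ofFinite G
  simp only [brauerPhi, omega_eq_sum, ofOmega_add, brauerTrunc, Pi.add_apply, ← add_div,
    ← Finset.sum_add_distrib, ← add_mul]
  congr 1
  refine Finset.sum_congr rfl fun h _ => ?_
  split_ifs <;> simp

theorem brauerPhi_smul (P H : Subgroup G) (ξ : IrrCharacter H) (a : ℂ)
    (c : IrrCharacter G → ℂ) : brauerPhi P H ξ (a • c) = a * brauerPhi P H ξ c := by
  classical
  have := Fintype.ofFinite G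
  simp only [brauerPhi, omega_eq_sum, ofOmega_smul, brauerTrunc, Pi.smul_apply, smul_eq_mul,
    ← mul_div_assoc, Finset.mul_sum]
  congr 1
  refine Finset.sum_congr rfl fun h _ => ?_
  split_ifs <;> ring

theorem brauerPhi_one (P H : Subgroup G) (ξ : IrrCharacter H) :
    brauerPhi P H ξ (1 : IrrCharacter G → ℂ) = 1 := by
  classical
  have := Fintype.ofFinite G
  have h1 : brauerTrunc P H (ofOmega (1 : IrrCharacter G → ℂ))
      = ofOmega (1 : IrrCharacter H → ℂ) := by
    ext h
    simp only [brauerTrunc, ofOmega_one]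
    by_cases hh : h = 1
    · subst hh
      simp [(Subgroup.centralizer (P : Set G)).one_mem]
    · have : (h : G) ≠ 1 := fun h' => hh (Subtype.ext h')
      simp [hh, this]
  rw [brauerPhi, h1, omega_ofOmega]
  rfl

variable (hM : IsPModular p M)
include hM

theorem memR_brauerPhi {P H : Subgroup G} (hH : H ≤ Subgroup.normalizer (P : Set G))
    (ξ : IrrCharacter H) {c : IrrCharacter G → ℂ} (hc : c ∈ intRing hM) :
    MemLocalRing M (brauerPhi P H ξ c) :=
  memR_omega hM (isClassFunction_brauerTrunc hH (isClassFunction_ofOmega c))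
    (memR_brauerTrunc hM P H hc) ξ

theorem memI_brauerPhi {P H : Subgroup G} (hH : H ≤ Subgroup.normalizer (P : Set G))
    (ξ : IrrCharacter H) {c : IrrCharacter G → ℂ} (hc : IsSmall M c) :
    MemLocalIdeal M (brauerPhi P H ξ c) :=
  memI_omega hM (isClassFunction_brauerTrunc hH (isClassFunction_ofOmega c))
    (memI_brauerTrunc hM P H hc) ξ

theorem brauerPhi_mul [Fact p.Prime] {P H : Subgroup G} (hP : IsPGroup p P)
    (hCH : Subgroup.centralizer (P : Set G) ≤ H) (hH : H ≤ Subgroup.normalizer (P : Set G))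
    (ξ : IrrCharacter H) {c d : IrrCharacter G → ℂ} (hc : c ∈ intRing hM) (hd : d ∈ intRing hM) :
    MemLocalIdeal M (brauerPhi P H ξ (c * d) - brauerPhi P H ξ c * brauerPhi P H ξ d) := by
  have := Fintype.ofFinite G
  have := Fintype.ofFinite H
  have hzc := isClassFunction_brauerTrunc hH (isClassFunction_ofOmega c) (P := P)
  have hzd := isClassFunction_brauerTrunc hH (isClassFunction_ofOmega d) (P := P)
  simp only [brauerPhi, ofOmega_mul, ← omega_conv hzc hzd ξ]
  rw [omega_eq_sum, omega_eq_sum, ← sub_div, ← Finset.sum_sub_distrib]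
  simp only [← sub_mul]
  rw [← omega_eq_sum (ξ : H → ℂ)]
  refine memI_omega hM ?_ (fun h => memI_brauerTrunc_conv hM hP hCH (isClassFunction_ofOmega c)
    (isClassFunction_ofOmega d) hc hd h) ξ
  intro x n
  dsimp only
  rw [isClassFunction_brauerTrunc hH (isClassFunction_conv (isClassFunction_ofOmega c)
    (isClassFunction_ofOmega d)) x n, isClassFunction_conv hzc hzd x n]

/-- A map that is multiplicative modulo the local ideal on integral central elements is, modulo
the local ideal, the central character of a unique block. -/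
theorem exists_block_of_hom (Φ : (IrrCharacter G → ℂ) → ℂ)
    (hadd : ∀ c d, Φ (c + d) = Φ c + Φ d) (hsmul : ∀ (a : ℂ) c, Φ (a • c) = a * Φ c)
    (hone : Φ 1 = 1) (hR : ∀ c ∈ intRing hM, MemLocalRing M (Φ c))
    (hI : ∀ c, IsSmall M c → MemLocalIdeal M (Φ c))
    (hmul : ∀ c ∈ intRing hM, ∀ d ∈ intRing hM, MemLocalIdeal M (Φ (c * d) - Φ c * Φ d)) :
    ∃ B, IsPBlock M B ∧ MemLocalIdeal M (Φ (blockInd B) - 1) ∧
      ∀ χ ∈ B, ∀ c ∈ intRing hM, MemLocalIdeal M (Φ c - c χ) := by
  classical
  have := Fintype.ofFinite (IrrCharacter G)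
  have hzero : Φ 0 = 0 := by simpa using hsmul 0 0
  let L : (IrrCharacter G → ℂ) →+ ℂ :=
    { toFun := Φ, map_zero' := hzero, map_add' := hadd }
  obtain ⟨B, hB, hne⟩ : ∃ B, IsPBlock M B ∧ ¬ MemLocalIdeal M (Φ (blockInd B)) := by
    by_contra h
    push Not at h
    have h1 : MemLocalIdeal M (L (1 : IrrCharacter G → ℂ)) := by
      rw [← sum_blockInd hM, map_sum]
      refine memI_sum hM _ fun B hB => ?_
      obtain ⟨φ, -, rfl⟩ := Finset.mem_image.mp hB
      exact h _ ⟨φ, rfl⟩
    exact not_memI_one hM (hone ▸ h1)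
  have he := blockInd_mem_intRing hM hB
  have heR := hR _ he
  have he1 : MemLocalIdeal M (Φ (blockInd B) - 1) := by
    have h1 := hmul _ he _ he
    rw [blockInd_mul_self] at h1
    have h2 : MemLocalIdeal M (Φ (blockInd B) * (Φ (blockInd B) - 1)) := by
      have := memI_neg h1
      convert! this using 1
      ring
    exact (memI_or_memI hM heR (memR_sub hM heR (memR_one hM)) h2).resolve_left hne
  refine ⟨B, hB, he1, fun χ hχ c hc => ?_⟩
  let L₀ : IrrCharacter G → ℂ := fun _ => c χ
  have hL₀ : L₀ ∈ intRing hM := const_mem_intRing hM (memR_of_intRing hM hc χ)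
  let d : IrrCharacter G → ℂ := blockInd B * (c - L₀)
  have hd : d ∈ intRing hM := (intRing hM).mul_mem he ((intRing hM).sub_mem hc hL₀)
  have hdI : ∀ ψ, MemLocalIdeal M (d ψ) := by
    intro ψ
    by_cases hψ : ψ ∈ B
    · simpa [d, L₀, blockInd_of_mem hψ] using intRing_congr hM hc (sameBlock_of_mem hM hB hψ hχ)
    · simpa [d, blockInd_of_notMem hψ] using memI_zero hM
  obtain ⟨N, hN⟩ := exists_small_pow hM hdI
  have hpow : ∀ n, MemLocalIdeal M (Φ (d ^ (n + 1)) - Φ d ^ (n + 1)) := by
    intro n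
    induction n with
    | zero => simpa using memI_zero hM
    | succ n ih =>
      rw [pow_succ d, pow_succ (Φ d)]
      refine memI_sub_trans hM (hmul _ ((intRing hM).pow_mem hd _) _ hd) ?_
      rw [← sub_mul]
      exact memI_mul_right hM ih (hR d hd)
  have hΦd : MemLocalIdeal M (Φ d) :=
    memI_of_pow hM (hR d hd) ((memI_iff_of_sub hM (hpow N)).mp (hI _ (hN _ (Nat.le_succ N))))
  have h3 : MemLocalIdeal M (Φ (blockInd B) * (Φ c - c χ)) := by
    have h1 := hmul _ he _ ((intRing hM).sub_mem hc hL₀)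
    have h2 : Φ (c - L₀) = Φ c - c χ := by
      have h4 : L₀ = c χ • (1 : IrrCharacter G → ℂ) := by ext; simp [L₀]
      rw [sub_eq_add_neg, h4, ← neg_smul, hadd, hsmul, hone]
      ring
    rw [h2] at h1
    exact (memI_iff_of_sub hM h1).mp hΦd
  exact (memI_or_memI hM heR (memR_sub hM (hR c hc) (memR_of_intRing hM hc χ)) h3).resolve_left hne

/-- The block attached to a block of `H` through the Brauer map at `P`. -/
theorem exists_block_brauerPhi [Fact p.Prime] {P H : Subgroup G} (hP : IsPGroup p P)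
    (hCH : Subgroup.centralizer (P : Set G) ≤ H) (hH : H ≤ Subgroup.normalizer (P : Set G))
    (ξ : IrrCharacter H) :
    ∃ B, IsPBlock M B ∧ MemLocalIdeal M (brauerPhi P H ξ (blockInd B) - 1) ∧
      ∀ χ ∈ B, ∀ c ∈ intRing hM, MemLocalIdeal M (brauerPhi P H ξ c - c χ) :=
  exists_block_of_hom hM (brauerPhi P H ξ) (brauerPhi_add P H ξ) (brauerPhi_smul P H ξ)
    (brauerPhi_one P H ξ) (fun _ => memR_brauerPhi hM hH ξ) (fun _ => memI_brauerPhi hM hH ξ)
    (fun _ hc _ hd => brauerPhi_mul hM hP hCH hH ξ hc hd)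

/-- If the product of the class sum of `k` with an integral central element has a coefficient
outside the local ideal at `h`, a `p`-subgroup centralising `h` is conjugate into a Sylow subgroup
of `C(k)`. -/
theorem exists_le_conjSub_of_conv [Fact p.Prime] {w : G → ℂ} (hw : IsClassFunction G w)
    (hwR : ∀ x, MemLocalRing M (w x)) {h k : G} {Q D : Subgroup G} (hQ : IsPGroup p Q)
    (hQh : Q ≤ Subgroup.centralizer ({h} : Set G))
    (hD : SylowIn p (Subgroup.centralizer ({k} : Set G)) D)
    (hne : ¬ MemLocalIdeal M (conv (classInd k) w h)) : ∃ x, Q ≤ conjSub x D := by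
  classical
  have := Fintype.ofFinite G
  by_contra hcon
  push Not at hcon
  have h1 := memI_conv_sub_centralizer hM hQ (fun u _ x => isClassFunction_classInd k x u)
    (fun u _ x => hw x u) (fun x => classInd_mem (locRing hM) k x) hwR
    (le_centralizer_singleton.mp hQh)
  rw [Finset.sum_eq_zero (fun x hx => ?_), sub_zero] at h1
  · exact hne h1
  · by_cases hc : IsConj k x
    · exfalso
      obtain ⟨c, rfl⟩ := isConj_iff.mp hc
      obtain ⟨y, _, hy⟩ := le_conjSub_of_sylowIn (sylowIn_conj hD c)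
        (le_centralizer_singleton.mpr (Finset.mem_filter.mp hx).2) hQ
      exact hcon (y * c) (conjSub_mul y c D ▸ hy)
    · rw [classInd, if_neg hc, zero_mul]

/-- The min-max lemma: if the central characters of `B` at `k` and the idempotent coefficient at
`h` are outside the local ideal, then `p`-subgroups of `C(h)` are conjugate into a Sylow subgroup
of `C(k)`. -/
theorem minmax [Fact p.Prime] {B : Set (IrrCharacter G)} (hB : IsPBlock M B) {χ : IrrCharacter G}
    (hχ : χ ∈ B) {h k : G} (hk : ¬ MemLocalIdeal M (centralChar (χ : G → ℂ) k))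
    (hh : ¬ MemLocalIdeal M (blockCoeff B h)) {Q D : Subgroup G} (hQ : IsPGroup p Q)
    (hQh : Q ≤ Subgroup.centralizer ({h} : Set G))
    (hD : SylowIn p (Subgroup.centralizer ({k} : Set G)) D) : ∃ x, Q ≤ conjSub x D := by
  let l := centralChar (χ : G → ℂ) k
  let X : IrrCharacter G → ℂ := omegaFun (classInd k)
  let L : IrrCharacter G → ℂ := fun _ => l
  let e := blockInd B
  have he : e ∈ intRing hM := blockInd_mem_intRing hM hB
  have hX : X ∈ intRing hM := classInd_mem_intRing hM k
  have hL : L ∈ intRing hM := const_mem_intRing hM (memR_centralChar hM χ k)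
  have hd : ∀ ψ, MemLocalIdeal M ((e * (X - L)) ψ) := by
    intro ψ
    by_cases hψ : ψ ∈ B
    · simpa [e, X, L, l, omegaFun_classInd, blockInd_of_mem hψ]
        using sameBlock_of_mem hM hB hψ hχ k
    · simpa [e, blockInd_of_notMem hψ] using memI_zero hM
  obtain ⟨N, hN⟩ := exists_small_pow hM hd
  let q : IrrCharacter G → ℂ :=
    ∑ i ∈ Finset.range (N + 1), (X - L) ^ i * (-L) ^ (N + 1 - 1 - i)
  have hq : e * q ∈ intRing hM := (intRing hM).mul_mem he ((intRing hM).sum_mem fun i _ =>
    (intRing hM).mul_mem ((intRing hM).pow_mem ((intRing hM).sub_mem hX hL) _)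
      ((intRing hM).pow_mem ((intRing hM).neg_mem hL) _))
  have hid : (e * (X - L)) ^ (N + 1) = ((-l) ^ (N + 1)) • e + X * (e * q) := by
    have hg := geom_sum₂_mul (X - L) (-L) (N + 1)
    ext ψ
    have hgψ := congrFun hg ψ
    simp only [q, Pi.mul_apply, Pi.sub_apply, Pi.pow_apply, Pi.neg_apply, Finset.sum_apply,
      sub_neg_eq_add, Pi.add_apply, L] at hgψ
    by_cases hψ : ψ ∈ B
    · simp only [e, q, L, Pi.mul_apply, Pi.sub_apply, Pi.pow_apply, Pi.neg_apply, Finset.sum_apply,
        Pi.add_apply, Pi.smul_apply, smul_eq_mul, blockInd_of_mem hψ, one_mul, mul_one]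
      linear_combination -hgψ
    · simp [e, blockInd_of_notMem hψ]
  have h1 := hN (N + 1) (Nat.le_succ N) h
  rw [hid, ofOmega_add, ofOmega_smul, ofOmega_mul] at h1
  simp only [Pi.add_apply, Pi.smul_apply, smul_eq_mul, X,
    ofOmega_omega (isClassFunction_classInd k), e, ← blockCoeff_eq_ofOmega] at h1
  refine exists_le_conjSub_of_conv hM (isClassFunction_ofOmega (e * q)) hq hQ hQh hD fun hI => ?_
  have hl : MemLocalRing M (-l) := memR_neg (memR_centralChar hM χ k)
  have hl' : ¬ MemLocalIdeal M (-l) := fun h' => hk (by simpa [l] using memI_neg h')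
  refine not_memI_mul hM (memR_pow hM hl (N + 1)) (memR_blockCoeff hM hB h)
    (not_memI_pow hM hl hl' (N + 1)) hh ?_
  simpa [e] using memI_sub hM h1 hI

omit hM in
theorem isDefectClass_conj {B : Set (IrrCharacter G)} {g g' : G} (hg : IsDefectClass M B g)
    (hc : IsConj g g') : IsDefectClass M B g' := by
  have hind : classInd g = classInd g' := by
    ext x
    simp only [classInd]
    congr 1
    exact propext ⟨fun h => hc.symm.trans h, fun h => hc.trans h⟩
  have h1 : blockCoeff B g' = blockCoeff B g :=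
    (classFunction_eq_of_isConj (isClassFunction_blockCoeff B) hc).symm
  refine ⟨h1 ▸ hg.1, h1 ▸ hg.2.1, fun χ hχ => ?_⟩
  rw [← omega_classInd, ← hind, omega_classInd]
  exact hg.2.2 χ hχ

omit [Finite G] hM in
theorem isDefectGroup_iff {B : Set (IrrCharacter G)} {D : Subgroup G} :
    IsDefectGroup p M B D ↔
      ∃ g, IsDefectClass M B g ∧ SylowIn p (Subgroup.centralizer ({g} : Set G)) D := Iff.rfl

theorem exists_isDefectGroup {B : Set (IrrCharacter G)} (hB : IsPBlock M B) :
    ∃ D, IsDefectGroup p M B D := by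
  obtain ⟨g, hg⟩ := exists_isDefectClass hM hB
  obtain ⟨D, hD⟩ := sylowIn_exists p (Subgroup.centralizer ({g} : Set G))
  exact ⟨D, g, hg, hD⟩

theorem isDefectGroup_conjSub {B : Set (IrrCharacter G)} {D : Subgroup G}
    (hD : IsDefectGroup p M B D) (x : G) : IsDefectGroup p M B (conjSub x D) := by
  obtain ⟨g, hg, hgD⟩ := hD
  exact ⟨x * g * x⁻¹, isDefectClass_conj hg (isConj_iff.mpr ⟨x, rfl⟩), sylowIn_conj hgD x⟩

theorem isPGroup_defectGroup {B : Set (IrrCharacter G)} {D : Subgroup G}
    (hD : IsDefectGroup p M B D) : IsPGroup p D := by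
  let _ := hM
  obtain ⟨g, _, hgD⟩ := hD
  exact sylowIn_isPGroup hgD

/-- Defect groups of a block are conjugate. -/
theorem isDefectGroup_conj_eq [Fact p.Prime] {B : Set (IrrCharacter G)} (hB : IsPBlock M B)
    {D E : Subgroup G} (hD : IsDefectGroup p M B D) (hE : IsDefectGroup p M B E) :
    ∃ x, conjSub x D = E := by
  obtain ⟨χ, hχ⟩ := isPBlock_nonempty hM hB
  obtain ⟨g, hg, hgD⟩ := hD
  obtain ⟨k, hk, hkE⟩ := hE
  obtain ⟨x, hx⟩ := minmax hM hB hχ (hk.2.2 χ hχ) hg.2.1 (sylowIn_isPGroup hgD)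
    (sylowIn_le hgD) hkE
  obtain ⟨y, hy⟩ := minmax hM hB hχ (hg.2.2 χ hχ) hk.2.1 (sylowIn_isPGroup hkE)
    (sylowIn_le hkE) hgD
  refine ⟨y, (Subgroup.eq_of_le_of_card_ge hy ?_).symm⟩
  rw [card_conjSub, ← card_conjSub x E]
  exact Subgroup.card_le_of_le hx

end Cfsg.Agent.Blocks
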