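import Cfsg.Agent.Lib.Blocks.HeightZero
import Cfsg.Agent.Lib.Blocks.Induced
import Cfsg.Agent.Lib.SecondMain.Columns
import Cfsg.Agent.Lib.CentralChar.Congr

/-!
# Values of characters on the sections of defect groups

`apply_eq_zero_of_notMem_defectGroup`: `χ (x * y) = 0` when the `p`-part `x` lies in no defect group.
`not_memI_apply_of_height_zero`, `not_memI_centralChar_mul`: values at `x * y`, `y` a defect class and
`x` in a Sylow subgroup of its centraliser (central in it for the central character).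
-/

set_option autoImplicit false

namespace Cfsg.Agent.Blocks

open Cfsg

variable {G : Type*} [Group G] [Finite G] {p : ℕ} [Fact p.Prime] {M : Ideal AlgInt}
  (hM : IsPModular p M)
include hM

theorem apply_eq_zero_of_notMem_defectGroup {B : Set (IrrCharacter G)} (hB : IsPBlock M B)
    {χ : IrrCharacter G} (hχ : χ ∈ B) {x y : G} (hx : ∃ k, orderOf x = p ^ k) (hxy : Commute x y)
    (hy : ¬ p ∣ orderOf y) (hD : ∀ D, IsDefectGroup p M B D → x ∉ D) :
    (χ : G → ℂ) (x * y) = 0 := by
  have hH : ∀ g, g ∈ Subgroup.centralizer ({x} : Set G) ↔ Commute x g := fun _ =>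
    SecondMain.commute_iff_mem_centralizer_singleton
  let s : Subgroup.centralizer ({x} : Set G) := ⟨y, (hH y).2 hxy⟩
  have hs : ¬ p ∣ orderOf s := by rwa [← Subgroup.orderOf_coe]
  rw [show y = (s : G) from rfl, ← SecondMain.sum_induced_shift_of_mem hM hx hH hB hχ hs]
  refine finsum_mem_of_eqOn_zero fun b hb => absurd hb fun hb => ?_
  let x' : Subgroup.centralizer ({x} : Set G) := ⟨x, (hH x).2 (Commute.refl x)⟩
  have hQn : (Subgroup.zpowers x').Normal := by
    refine ⟨fun u hu c => ?_⟩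
    obtain ⟨i, rfl⟩ := Subgroup.mem_zpowers_iff.1 hu
    have hc : Commute c x' := Subtype.ext ((hH c).1 c.2).eq.symm
    rw [(hc.zpow_right i).eq, mul_inv_cancel_right]
    exact Subgroup.zpow_mem _ (Subgroup.mem_zpowers x') i
  have hQ : IsPGroup p (Subgroup.zpowers x') := by
    obtain ⟨k, hk⟩ := hx
    exact IsPGroup.of_card (n := k) (by rw [Nat.card_zpowers, ← Subgroup.orderOf_coe]; exact hk)
  obtain ⟨Q, hQb⟩ := exists_isDefectGroup hM hb.1
  obtain ⟨E, hE, hQE⟩ := exists_defectGroup_ge_of_induced hM hb hQb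
  exact hD E hE (hQE ⟨x', normal_le_defectGroup hM hQ hb.1 hQb (Subgroup.mem_zpowers x'), rfl⟩)

omit [Fact p.Prime] in
theorem memI_apply_mul_sub {χ : IrrCharacter G} {x y : G} (hx : ∃ k, orderOf x = p ^ k)
    (hxy : Commute x y) : MemLocalIdeal M ((χ : G → ℂ) (x * y) - (χ : G → ℂ) y) := by
  obtain ⟨k, hk⟩ := hx
  refine CentralChar.memI_sub_of_pow_eq hM (Char.IsIrrCharacter.isCharacter χ.2) (k := k) ?_
  rw [hxy.mul_pow, ← hk, pow_orderOf_eq_one, one_mul]

omit hM in
theorem index_eq_pow_mul (C : Subgroup G) {e : ℕ}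
    (he : (Nat.card G).factorization p - (Nat.card C).factorization p = e) :
    ∃ i, ¬ p ∣ i ∧ C.index = p ^ e * i := by
  refine ⟨_, Nat.not_dvd_ordCompl Fact.out C.index_ne_zero_of_finite, ?_⟩
  rw [← he, ← C.index_mul_card, Nat.factorization_mul C.index_ne_zero_of_finite Nat.card_pos.ne',
    Finsupp.add_apply, Nat.add_sub_cancel]
  exact (Nat.ordProj_mul_ordCompl_eq_self _ p).symm

theorem factorization_centralizer_defectClass {B : Set (IrrCharacter G)} (hB : IsPBlock M B)
    {y : G} (hy : IsDefectClass M B y) {χ : IrrCharacter G} (hχ : χ ∈ B)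
    (h0 : blockHeight p B (χ : G → ℂ) = 0) :
    (Nat.card G).factorization p - (Nat.card (Subgroup.centralizer ({y} : Set G))).factorization p
      = (charDegree (χ : G → ℂ)).factorization p := by
  let S : Sylow p (Subgroup.centralizer ({y} : Set G)) := default
  have h1 := card_defectGroup hM hB ⟨y, hy, S, rfl⟩
  rw [Subgroup.card_map_of_injective (Subgroup.subtype_injective _), S.card_eq_multiplicity] at h1
  have hmin : sInf ((fun χ : IrrCharacter G => (charDegree (χ : G → ℂ)).factorization p) '' B)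
      = (charDegree (χ : G → ℂ)).factorization p :=
    le_antisymm (Nat.sInf_le ⟨χ, hχ, rfl⟩) (Nat.sub_eq_zero_iff_le.1 h0)
  rw [Nat.pow_right_injective (Fact.out : p.Prime).two_le h1, blockDefect, hmin, Nat.sub_sub_self]
  exact (Nat.factorization_le_iff_dvd (charDegree_pos χ).ne' Nat.card_pos.ne').2
    (charDegree_dvd_card χ) p

omit [Fact p.Prime] in
theorem centralChar_eq_ratio {χ : IrrCharacter G} {g : G} {i : ℕ}
    (hi : (Subgroup.centralizer ({g} : Set G)).index =
      p ^ (charDegree (χ : G → ℂ)).factorization p * i) :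
    ∃ r, ¬ p ∣ r ∧ centralChar (χ : G → ℂ) g = (i : ℂ) * (r : ℂ)⁻¹ * (χ : G → ℂ) g := by
  set h := (charDegree (χ : G → ℂ)).factorization p with hh
  refine ⟨_, Nat.not_dvd_ordCompl hM.1 (charDegree_pos χ).ne', ?_⟩
  set r := charDegree (χ : G → ℂ) / p ^ h with hr
  have hdeg : charDegree (χ : G → ℂ) = p ^ h * r := (Nat.ordProj_mul_ordCompl_eq_self _ p).symm
  have hr0 : (r : ℂ) ≠ 0 := Nat.cast_ne_zero.2 fun h0 =>
    (charDegree_pos χ).ne' (by rw [hdeg, h0, mul_zero])
  have hp0 : (p : ℂ) ^ h ≠ 0 := pow_ne_zero _ (by exact_mod_cast hM.1.ne_zero)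
  rw [centralChar, hi, ← charDegree_cast, hdeg]
  push_cast
  field_simp

theorem not_memI_apply_of_height_zero {B : Set (IrrCharacter G)} (hB : IsPBlock M B) {y : G}
    (hy : IsDefectClass M B y) {χ : IrrCharacter G} (hχ : χ ∈ B)
    (h0 : blockHeight p B (χ : G → ℂ) = 0) {x : G} (hx : ∃ k, orderOf x = p ^ k)
    (hxy : Commute x y) : ¬ MemLocalIdeal M ((χ : G → ℂ) (x * y)) := by
  rw [memI_iff_of_sub hM (memI_apply_mul_sub hM hx hxy)]
  intro hI
  obtain ⟨i, -, hi⟩ := index_eq_pow_mul _ (factorization_centralizer_defectClass hM hB hy hχ h0)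
  obtain ⟨r, hr, heq⟩ := centralChar_eq_ratio hM hi
  refine hy.2.2 χ hχ ?_
  rw [heq]
  exact memI_mul_left hM (memR_mul hM (memR_natCast hM i) (memR_natCast_inv hM hr)) hI

theorem not_memI_centralChar_mul {B : Set (IrrCharacter G)} (hB : IsPBlock M B) {y : G}
    (hy : IsDefectClass M B y) {P : Subgroup G}
    (hP : SylowIn p (Subgroup.centralizer ({y} : Set G)) P) {x : G} (hx : x ∈ P)
    (hxc : ∀ w ∈ P, Commute x w) {χ : IrrCharacter G} (hχ : χ ∈ B) :
    ¬ MemLocalIdeal M (centralChar (χ : G → ℂ) (x * y)) := by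
  have hp : p.Prime := Fact.out
  obtain ⟨η, hη, h0⟩ := exists_blockHeight_eq_zero p (isPBlock_nonempty hM hB)
  rw [memI_iff_of_sub hM (sameBlock_of_mem hM hB hχ hη (x * y))]
  have hxk : ∃ k, orderOf x = p ^ k := by
    obtain ⟨k, hk⟩ := IsPGroup.iff_orderOf.1 (sylowIn_isPGroup hP) ⟨x, hx⟩
    exact ⟨k, by rw [← hk, ← Subgroup.orderOf_coe]⟩
  have hxy : Commute x y := (mem_centralizer_singleton.1 (sylowIn_le hP hx) :)
  have hyp : ¬ p ∣ orderOf y := pRegular_of_blockCoeff hM hB hy.2.1
  have hval := not_memI_apply_of_height_zero hM hB hy hη h0 hxk hxy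
  have hfac : (Nat.card (Subgroup.centralizer ({x * y} : Set G))).factorization p =
      (Nat.card (Subgroup.centralizer ({y} : Set G))).factorization p := by
    refine le_antisymm ((Nat.factorization_le_iff_dvd Nat.card_pos.ne' Nat.card_pos.ne').2
      (Subgroup.card_dvd_of_le fun c hc => ?_) p) ?_
    · have h := mul_inv_eq_iff_eq_mul.2 (Subgroup.mem_centralizer_iff.1 hc _ rfl).symm
      have h2 := (SecondMain.conj_parts hxk hxk hyp hyp hxy hxy h).2
      exact Subgroup.mem_centralizer_iff.2 fun u hu => by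
        rw [Set.mem_singleton_iff.1 hu]; exact (mul_inv_eq_iff_eq_mul.1 h2).symm
    · rw [← hp.pow_dvd_iff_le_factorization Nat.card_pos.ne', ← sylowIn_card hP]
      refine Subgroup.card_dvd_of_le fun w hw => Subgroup.mem_centralizer_iff.2 fun u hu => ?_
      rw [Set.mem_singleton_iff.1 hu]
      have hwy : Commute y w :=
        (Subgroup.mem_centralizer_iff.1 (sylowIn_le hP hw) y rfl : y * w = w * y)
      exact ((hxc w hw).mul_left hwy).eq
  obtain ⟨i, hi, hidx⟩ := index_eq_pow_mul (Subgroup.centralizer ({x * y} : Set G))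
    (e := (charDegree (η : G → ℂ)).factorization p)
    (by rw [hfac]; exact factorization_centralizer_defectClass hM hB hy hη h0)
  obtain ⟨r, hr, heq⟩ := centralChar_eq_ratio hM hidx
  rw [heq]
  refine not_memI_mul hM (memR_mul hM (memR_natCast hM i) (memR_natCast_inv hM hr))
    (memR_of_isIntegral hM (isIntegral_irr η _)) ?_ hval
  intro h
  refine not_memI_natCast hM hi ?_
  have := memI_mul_right hM h (memR_natCast hM r)
  rwa [inv_mul_cancel_right₀ (Nat.cast_ne_zero.2 fun h0' : r = 0 => hr (h0' ▸ dvd_zero p))] at this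

end Cfsg.Agent.Blocks
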