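import Cfsg.Agent.Lib.Blocks.CoverDefect
import Cfsg.Agent.Lib.Blocks.HeightZeroValues
import Mathlib.GroupTheory.FiniteAbelian.Duality

/-!
# Stable blocks of normal subgroups of `p`-power index with abelian defect group

If `G/N` is a `p`-group and the block `B` over the stable block `b` has abelian defect group `P`
then `G = N P`, restriction `B → b` is surjective with fibres of size `|G : N|`, and ranks agree.
-/

set_option autoImplicit false
set_option linter.style.haveILetI false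

namespace Cfsg.Agent.AbelianExt

open Cfsg Cfsg.Agent.Blocks Cfsg.Agent.BrauerPairs Cfsg.Agent.CoverDefect
open scoped Classical ComplexConjugate

variable {G : Type*} [Group G] [Fintype G] {p : ℕ} [Fact p.Prime] {M : Ideal AlgInt}
  {N : Subgroup G} [N.Normal] [Fintype N] {b : Set (IrrCharacter N)} {B : Set (IrrCharacter G)}
  (hM : IsPModular p M)
include hM

/-- The stable covered idempotent is the idempotent of the covering block. -/
theorem bIdem_eq_blk {k : ℕ} (hidx : N.index = p ^ k) (hb : IsPBlock M b)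
    (hfix : Fixed ⊤ (bIdem M N b)) (hB : IsPBlock M B)
    (hcov : ∃ χ ∈ B, ∃ θ ∈ b, classInner (fun n : N => (χ : G → ℂ) n) (θ : N → ℂ) ≠ 0) :
    bIdem M N b = blk M B := by
  have := Fintype.ofFinite (IrrCharacter G)
  have := res_nontrivial hM
  have horb : BlocksNormal.orbitSet N b = b := by
    refine Set.ext fun η => ⟨fun ⟨g, hg⟩ => ?_, fun h => ⟨1, by rwa [BlocksNormal.conjIrr_one]⟩⟩
    have hgN : g⁻¹ ∈ Subgroup.normalizer (N : Set G) := by
      rw [Subgroup.normalizer_eq_top]; trivial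
    refine (forall_conj_mem_iff hM hb hgN).2 (hfix g⁻¹ (Subgroup.mem_top _)) _ hg η (fun h h' he => ?_)
    show (η : N → ℂ) h' = (η : N → ℂ) (MulAut.conjNormal g⁻¹ h)
    refine congrArg _ (Subtype.ext ?_)
    rw [he]
    simp
  have heq : bIdem M N b = red M (BlocksNormal.orbitFun N b) := by
    ext x
    rw [coeff_bIdem hM, coeff_red, BlocksNormal.orbitFun, horb]
    congr 1
    unfold subgroupBlockCoeff
    split_ifs with hx
    · rw [Char.extendByZero_mem _ _ hx, blockCoeff_eq_ofOmega]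
    · rw [Char.extendByZero_not_mem _ _ hx]
  have hEz := blk_mul_bIdem hM hB hb hfix hcov
  obtain ⟨χ, hχ, θ, hθ, hne⟩ := hcov
  calc bIdem M N b = bIdem M N b * ∑ B' ∈ Finset.univ.image
        (fun χ : IrrCharacter G => blockOf M (χ : G → ℂ)), blk M B' := by rw [sum_blk hM, mul_one]
    _ = blk M B := by
      rw [Finset.mul_sum, Finset.sum_eq_single B]
      · rw [hfix.commute SuppIn.top, hEz]
      · intro B' hB' hne'
        obtain ⟨χ', -, rfl⟩ := Finset.mem_image.1 hB'
        rcases mul_blk_cases hM hfix (bIdem_mul_self hM hb) ⟨χ', rfl⟩ (mem_blockOf_self hM χ')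
          with ⟨h1, -⟩ | ⟨-, h⟩
        · exfalso
          obtain ⟨ψ, hψ⟩ := BlocksNormal.exists_constituent N χ'
          rw [heq, lamG_red hM (BlocksNormal.isClassFunction_orbitFun N b)
            (BlocksNormal.memR_orbitFun N hM hb), BlocksNormal.omega_orbitFun N b χ' hψ, horb] at h1
          by_cases hψb : ψ ∈ b
          · exact hne' (isPBlock_eq_of_mem hM ⟨χ', rfl⟩ hB (mem_blockOf_self hM χ')
              (isPBlock_eq_blockOf hM hB hχ ▸ BlocksNormal.cover_unique N hM hidx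
                (sameBlock_of_mem hM hb hθ hψb) hne hψ))
          · rw [blockInd_of_notMem hψb, res_zero hM] at h1
            exact zero_ne_one h1
        · exact h
      · intro hno
        exact absurd (Finset.mem_image.2 ⟨χ, Finset.mem_univ _,
          (isPBlock_eq_blockOf hM hB hχ).symm⟩) hno

variable {P : Subgroup G}

/-- The whole statement. -/
theorem main (hNi : ∃ k : ℕ, N.index = p ^ k) (hb : IsPBlock M b)
    (hstab : ∀ g : G, StabilizesBlock N b g) (hB : IsPBlock M B)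
    (hcov : ∃ χ ∈ B, ∃ θ ∈ b, classInner (fun n : N => (χ : G → ℂ) n) (θ : N → ℂ) ≠ 0)
    (hPD : IsDefectGroup p M B P) (hPab : ∀ x ∈ P, ∀ y ∈ P, x * y = y * x) :
    N ⊔ P = ⊤ ∧ IsDefectGroup p M b ((P ⊓ N).subgroupOf N) ∧
      (∀ χ ∈ B, ∃ θ ∈ b, ∀ n : N, (χ : G → ℂ) n = (θ : N → ℂ) n) ∧
      (∀ θ ∈ b, Nat.card {χ : IrrCharacter G // χ ∈ B ∧
        ∀ n : N, (χ : G → ℂ) n = (θ : N → ℂ) n} = N.index) ∧
      Nat.card B = N.index * Nat.card b ∧ blockRank p B = blockRank p b := by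
  have hp : p.Prime := Fact.out
  obtain ⟨k, hk⟩ := hNi
  have hfix : Fixed ⊤ (bIdem M N b) := fun g _ =>
    (stabilizesBlock_iff hM hb (hstab g).1).1 (hstab g)
  have heq := bIdem_eq_blk hM hk hb hfix hB hcov
  have htop : N ⊔ P = ⊤ := by
    have h := not_dvd_index_sup_defect hM hB hb heq hPD
    rw [sup_comm, ← Subgroup.index_eq_one]
    by_contra h1
    refine h ?_
    obtain ⟨j, -, hj⟩ := (Nat.dvd_prime_pow hp).1
      (hk ▸ Subgroup.index_dvd_of_le (le_sup_right : N ≤ P ⊔ N))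
    rw [hj] at h1 ⊢
    exact dvd_pow_self p fun h0 => h1 (by rw [h0, pow_zero])
  -- the abelian quotient and its characters
  have hrep : ∀ q : G ⧸ N, ∃ u ∈ P, (u : G ⧸ N) = q := by
    intro q
    induction q using QuotientGroup.induction_on with
    | _ g =>
      obtain ⟨n, hn, u, hu, rfl⟩ := Subgroup.mem_sup_of_normal_left.1 (htop ▸ Subgroup.mem_top g :
        g ∈ N ⊔ P)
      exact ⟨u, hu, by rw [QuotientGroup.mk_mul, (QuotientGroup.eq_one_iff n).2 hn, one_mul]⟩
  letI : CommGroup (G ⧸ N) :=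
    { (inferInstance : Group (G ⧸ N)) with
      mul_comm := fun a c => by
        obtain ⟨u, hu, rfl⟩ := hrep a
        obtain ⟨v, hv, rfl⟩ := hrep c
        rw [← QuotientGroup.mk_mul, ← QuotientGroup.mk_mul, hPab u hu v hv] }
  let L := (G ⧸ N) →* ℂˣ
  haveI : NeZero (Monoid.exponent (G ⧸ N)) := ⟨Monoid.exponent_ne_zero_of_finite⟩
  haveI : HasEnoughRootsOfUnity ℂ (Monoid.exponent (G ⧸ N)) := inferInstance
  haveI : Fintype L := Fintype.ofFinite _
  have hLcard : Fintype.card L = N.index := by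
    rw [← Nat.card_eq_fintype_card,
      CommGroup.card_monoidHom_of_hasEnoughRootsOfUnity (G ⧸ N) ℂ]
    rfl
  have horth : ∀ g : G, (∑ l : L, ((l (g : G ⧸ N) : ℂˣ) : ℂ)) =
      if g ∈ N then (N.index : ℂ) else 0 := by
    intro g
    split_ifs with hg
    · rw [Finset.sum_congr rfl fun l _ => by rw [(QuotientGroup.eq_one_iff g).2 hg, map_one]]
      simp [hLcard]
    · obtain ⟨l₀, hl₀⟩ := CommGroup.exists_apply_ne_one_of_hasEnoughRootsOfUnity (G ⧸ N) ℂ
        (a := (g : G ⧸ N)) fun h => hg ((QuotientGroup.eq_one_iff g).1 h)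
      have hsum : ((l₀ (g : G ⧸ N) : ℂˣ) : ℂ) * ∑ l : L, ((l (g : G ⧸ N) : ℂˣ) : ℂ) =
          ∑ l : L, ((l (g : G ⧸ N) : ℂˣ) : ℂ) := by
        rw [Finset.mul_sum]
        exact Fintype.sum_equiv (Equiv.mulLeft l₀) _ _ fun l => (Units.val_mul _ _).symm
      have hne : ((l₀ (g : G ⧸ N) : ℂˣ) : ℂ) - 1 ≠ 0 := fun h =>
        hl₀ (Units.ext (by simpa using sub_eq_zero.1 h))
      refine (mul_eq_zero.1 (?_ : (((l₀ (g : G ⧸ N) : ℂˣ) : ℂ) - 1) * _ = 0)).resolve_left hne
      rw [sub_mul, one_mul, hsum, sub_self]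
  let tw : IrrCharacter G → L → IrrCharacter G := fun χ l =>
    ⟨fun g => (χ : G → ℂ) g * ((l (g : G ⧸ N) : ℂˣ) : ℂ),
      Char.IsIrrCharacter.mul_linear χ.2 ((Units.coeHom ℂ).comp (l.comp (QuotientGroup.mk' N)))⟩
  have htw : ∀ χ l g, (tw χ l : G → ℂ) g = (χ : G → ℂ) g * ((l (g : G ⧸ N) : ℂˣ) : ℂ) :=
    fun _ _ _ => rfl
  have htwN : ∀ χ l (n : N), (tw χ l : G → ℂ) n = (χ : G → ℂ) n := fun χ l n => by
    rw [htw, (QuotientGroup.eq_one_iff (n : G)).2 n.2, map_one, Units.val_one, mul_one]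
  have hoverb : ∀ χ ∈ B, ∀ θ : IrrCharacter N,
      classInner (fun n : N => (χ : G → ℂ) n) (θ : N → ℂ) ≠ 0 → θ ∈ b := by
    intro χ hχ θ hθ
    obtain ⟨χ₁, hχ₁, θ₁, hθ₁, hne₁⟩ := hcov
    obtain ⟨g, hg⟩ := BlocksNormal.exists_conjIrr_mem_of_sameBlock N hM hb
      (sameBlock_of_mem hM hB hχ₁ hχ) hθ₁ hne₁ hθ
    have hgN : g⁻¹ ∈ Subgroup.normalizer (N : Set G) := by
      rw [Subgroup.normalizer_eq_top]; trivial
    refine (forall_conj_mem_iff hM hb hgN).2 (hfix g⁻¹ (Subgroup.mem_top _)) _ hg θ (fun h h' he => ?_)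
    show (θ : N → ℂ) h' = (θ : N → ℂ) (MulAut.conjNormal g⁻¹ h)
    refine congrArg _ (Subtype.ext ?_)
    rw [he]
    simp
  have hcovB : ∀ (χ : IrrCharacter G), ∀ θ ∈ b,
      classInner (fun n : N => (χ : G → ℂ) n) (θ : N → ℂ) ≠ 0 → χ ∈ B := by
    intro χ θ hθ hne
    obtain ⟨χ₁, hχ₁, θ₁, hθ₁, hne₁⟩ := hcov
    rw [isPBlock_eq_blockOf hM hB hχ₁]
    exact BlocksNormal.cover_unique N hM hk (sameBlock_of_mem hM hb hθ₁ hθ) hne₁ hne
  have htwB : ∀ χ ∈ B, ∀ l, tw χ l ∈ B := by
    intro χ hχ l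
    obtain ⟨θ, hθ⟩ := BlocksNormal.exists_constituent N χ
    exact hcovB _ θ (hoverb χ hχ θ hθ) (by simp only [htwN]; exact hθ)
  have htwone : ∀ χ, tw χ 1 = χ := fun χ => Subtype.ext (funext fun g => mul_one _)
  -- no character of `B` is fixed by a nontrivial twist
  have hfree : ∀ χ ∈ B, ∀ l₁ l₂ : L, tw χ l₁ = tw χ l₂ → l₁ = l₂ := by
    intro χ hχ l₁ l₂ h
    refine MonoidHom.ext fun q => ?_
    obtain ⟨u, hu, rfl⟩ := hrep q
    obtain ⟨y, hy, hyP⟩ := id hPD
    have hne := not_memI_centralChar_mul hM hB hy (P := P) hyP hu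
      (fun w hw => hPab u hu w hw) hχ
    have hχne : (χ : G → ℂ) (u * y) ≠ 0 := fun h0 => hne (by
      rw [centralChar, h0, mul_zero, zero_div]
      exact memI_zero hM)
    have hyN : (y : G ⧸ N) = 1 := by
      have hreg : ¬ p ∣ orderOf y := pRegular_of_blockCoeff hM hB hy.2.1
      refine orderOf_eq_one_iff.1 (Nat.eq_one_of_dvd_coprimes
        (Nat.Coprime.pow_left k (hp.coprime_iff_not_dvd.2 hreg)) ?_
        (orderOf_map_dvd (QuotientGroup.mk' N) y))
      exact hk ▸ orderOf_dvd_natCard _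
    have h' := congrArg (fun ψ : IrrCharacter G => (ψ : G → ℂ) (u * y)) h
    simp only [htw, QuotientGroup.mk_mul, hyN, mul_one] at h'
    exact Units.ext (mul_left_cancel₀ hχne h')
  have hres : ∀ χ ∈ B, ∃ θ ∈ b, ∀ n : N, (χ : G → ℂ) n = (θ : N → ℂ) n := by
    intro χ hχ
    have hch : IsCharacter N (fun n : N => (χ : G → ℂ) n) :=
      Char.IsCharacter.restrict (Char.IsIrrCharacter.isCharacter χ.2) N
    have hnorm : classInner (fun n : N => (χ : G → ℂ) n) (fun n : N => (χ : G → ℂ) n) = 1 := by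
      have e1 : ∀ l : L, classInner (tw χ l : G → ℂ) (χ : G → ℂ) = if l = 1 then 1 else 0 := by
        intro l
        split_ifs with hl
        · rw [hl, htwone]
          exact Char.classInner_irr_self χ.2
        · refine Char.classInner_irr_of_ne (tw χ l).2 χ.2 fun h => hl (hfree χ hχ l 1 ?_)
          rw [htwone]
          exact Subtype.ext h
      have e2 : ∑ l : L, classInner (tw χ l : G → ℂ) (χ : G → ℂ) = 1 := by
        rw [Fintype.sum_eq_single (1 : L) fun l hl => by rw [e1, if_neg hl], e1, if_pos rfl]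
      have e3 : ∑ l : L, classInner (tw χ l : G → ℂ) (χ : G → ℂ) =
          classInner (fun n : N => (χ : G → ℂ) n) (fun n : N => (χ : G → ℂ) n) := by
        simp only [classInner, htw, ← Finset.mul_sum]
        rw [Finset.sum_comm]
        have e4 : ∀ g : G, (∑ l : L, (χ : G → ℂ) g * ((l (g : G ⧸ N) : ℂˣ) : ℂ) *
            conj ((χ : G → ℂ) g)) =
            if g ∈ N then (N.index : ℂ) * ((χ : G → ℂ) g * conj ((χ : G → ℂ) g)) else 0 := by
          intro g
          rw [← Finset.sum_mul, ← Finset.mul_sum, horth]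
          split_ifs <;> ring
        simp only [e4]
        rw [← Finset.sum_filter, Finset.sum_subtype (p := fun g => g ∈ N) _ (by simp),
          ← Finset.mul_sum, ← mul_assoc]
        congr 1
        · rw [← N.index_mul_card, Nat.cast_mul, mul_inv, mul_comm (N.index : ℂ)⁻¹, mul_assoc,
            inv_mul_cancel₀ (Nat.cast_ne_zero.2 Subgroup.index_ne_zero_of_finite), mul_one]
      rw [← e3, e2]
    have hirr := (Char.isIrrCharacter_iff_norm_one hch).2 hnorm
    exact ⟨⟨_, hirr⟩, hoverb χ hχ ⟨_, hirr⟩ (by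
      show classInner _ _ ≠ 0
      rw [hnorm]; exact one_ne_zero), fun n => rfl⟩
  have hover : ∀ θ ∈ b, ∃ χ ∈ B, ∀ n : N, (χ : G → ℂ) n = (θ : N → ℂ) n := by
    intro θ hθ
    obtain ⟨χ, hχ⟩ := BlocksNormal.exists_over N θ
    have hχB := hcovB χ θ hθ hχ
    obtain ⟨θ', -, h'⟩ := hres χ hχB
    refine ⟨χ, hχB, fun n => ?_⟩
    have : θ' = θ := by
      by_contra hne
      refine hχ ?_
      rw [show (fun n : N => (χ : G → ℂ) n) = (θ' : N → ℂ) from funext h']
      exact Char.classInner_irr_of_ne θ'.2 θ.2 fun h => hne (Subtype.ext h)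
    rw [h', this]
  -- twists exhaust the characters with a given restriction
  have hexh : ∀ χ χ' : IrrCharacter G, (∀ n : N, (χ : G → ℂ) n = (χ' : G → ℂ) n) →
      χ' ∈ B → ∃ l, tw χ l = χ' := by
    intro χ χ' h hχ'
    by_contra hno
    push Not at hno
    have e0 : ∑ l : L, classInner (tw χ l : G → ℂ) (χ' : G → ℂ) = 0 :=
      Finset.sum_eq_zero fun l _ =>
        Char.classInner_irr_of_ne (tw χ l).2 χ'.2 fun h => hno l (Subtype.ext h)
    have e1 : ∑ l : L, classInner (tw χ l : G → ℂ) (χ' : G → ℂ) =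
        ∑ l : L, classInner (tw χ' l : G → ℂ) (χ' : G → ℂ) := by
      simp only [classInner, htw, ← Finset.mul_sum]
      congr 1
      rw [Finset.sum_comm]
      conv_rhs => rw [Finset.sum_comm]
      refine Finset.sum_congr rfl fun g _ => ?_
      simp only [← Finset.sum_mul, ← Finset.mul_sum, horth]
      by_cases hg : g ∈ N
      · rw [show (χ : G → ℂ) g = (χ' : G → ℂ) g from h ⟨g, hg⟩]
      · simp [hg]
    rw [e0, Finset.sum_eq_single (1 : L) (fun l _ hl => Char.classInner_irr_of_ne (tw χ' l).2 χ'.2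
      fun h => hl (hfree χ' hχ' l 1 (by rw [htwone]; exact Subtype.ext h))) (by simp), htwone,
      Char.classInner_irr_self χ'.2] at e1
    exact zero_ne_one e1
  have hfib : ∀ θ ∈ b, Nat.card {χ : IrrCharacter G // χ ∈ B ∧
      ∀ n : N, (χ : G → ℂ) n = (θ : N → ℂ) n} = N.index := by
    intro θ hθ
    obtain ⟨χ₀, hχ₀, h₀⟩ := hover θ hθ
    rw [← hLcard, ← Nat.card_eq_fintype_card]
    refine (Nat.card_congr (Equiv.ofBijective
      (fun l : L => (⟨tw χ₀ l, htwB χ₀ hχ₀ l, fun n => by rw [htwN, h₀]⟩ :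
        {χ : IrrCharacter G // χ ∈ B ∧ ∀ n : N, (χ : G → ℂ) n = (θ : N → ℂ) n})) ⟨?_, ?_⟩)).symm
    · exact fun l₁ l₂ h => hfree χ₀ hχ₀ l₁ l₂ (congrArg Subtype.val h)
    · rintro ⟨χ, hχ, h⟩
      obtain ⟨l, hl⟩ := hexh χ₀ χ (fun n => (h₀ n).trans (h n).symm) hχ
      exact ⟨l, Subtype.ext hl⟩
  refine ⟨htop, stable_inter hM hB hb hfix hcov hPD, hres, hfib, ?_, ?_⟩
  · choose r hr hr' using hres
    have := Fintype.ofFinite b
    let e : B ≃ Σ θ : b, {χ : IrrCharacter G // χ ∈ B ∧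
        ∀ n : N, (χ : G → ℂ) n = ((θ : IrrCharacter N) : N → ℂ) n} :=
      { toFun := fun χ => ⟨⟨r χ.1 χ.2, hr χ.1 χ.2⟩, χ.1, χ.2, hr' χ.1 χ.2⟩
        invFun := fun x => ⟨x.2.1, x.2.2.1⟩
        left_inv := fun _ => rfl
        right_inv := by
          rintro ⟨⟨θ, hθ⟩, χ, hχ, h⟩
          have : r χ hχ = θ := Subtype.ext (funext fun n => (hr' χ hχ n).symm.trans (h n))
          subst this
          rfl }
    rw [Nat.card_congr e, Nat.card_sigma, Finset.sum_congr rfl fun θ _ => hfib θ.1 θ.2,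
      Finset.sum_const, Finset.card_univ, smul_eq_mul, mul_comm, Nat.card_eq_fintype_card]
  · let ext₀ : (N → ℂ) →ₗ[ℂ] (G → ℂ) :=
      { toFun := fun f => extendByZero N f
        map_add' := fun f f' => funext fun g => by
          by_cases hg : g ∈ N
          · simp [Char.extendByZero_mem _ _ hg]
          · simp [Char.extendByZero_not_mem _ _ hg]
        map_smul' := fun a f => funext fun g => by
          by_cases hg : g ∈ N
          · simp [Char.extendByZero_mem _ _ hg]
          · simp [Char.extendByZero_not_mem _ _ hg] }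
    have hinj : Function.Injective ext₀ := fun f f' h => funext fun n => by
      simpa [ext₀, Char.extendByZero_coe] using congrFun h (n : G)
    have hsing : ∀ g : G, g ∉ N → ¬ IsPRegular p g := by
      intro g hg hreg
      refine hg ((QuotientGroup.eq_one_iff g).1 (orderOf_eq_one_iff.1 (Nat.eq_one_of_dvd_coprimes
        (Nat.Coprime.pow_left k (hp.coprime_iff_not_dvd.2 hreg)) ?_
        (orderOf_map_dvd (QuotientGroup.mk' N) g))))
      exact hk ▸ orderOf_dvd_natCard _
    have hkey : ∀ (χ : IrrCharacter G) (θ : IrrCharacter N),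
        (∀ n : N, (χ : G → ℂ) n = (θ : N → ℂ) n) →
        ext₀ (pRegularPart p (θ : N → ℂ)) = pRegularPart p (χ : G → ℂ) := by
      intro χ θ h
      funext g
      show extendByZero N (pRegularPart p (θ : N → ℂ)) g = _
      by_cases hg : g ∈ N
      · rw [Char.extendByZero_mem _ _ hg]
        have hiff : IsPRegular p (⟨g, hg⟩ : N) ↔ IsPRegular p g := by
          rw [IsPRegular, IsPRegular, Subgroup.orderOf_mk]
        unfold pRegularPart
        by_cases hr : IsPRegular p g
        · rw [if_pos hr, if_pos (hiff.2 hr), ← h ⟨g, hg⟩]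
        · rw [if_neg hr, if_neg (fun h' => hr (hiff.1 h'))]
      · rw [Char.extendByZero_not_mem _ _ hg]
        simp only [pRegularPart, hsing g hg, if_false]
    rw [blockRank, blockRank, (Submodule.equivMapOfInjective ext₀ hinj _).finrank_eq,
      Submodule.map_span, Set.image_image]
    refine congrArg (fun S => Module.finrank ℂ (Submodule.span ℂ S)) ?_
    ext f
    constructor
    · rintro ⟨χ, hχ, rfl⟩
      obtain ⟨θ, hθ, h⟩ := hres χ hχ
      exact ⟨θ, hθ, hkey χ θ h⟩
    · rintro ⟨θ, hθ, rfl⟩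
      obtain ⟨χ, hχ, h⟩ := hover θ hθ
      exact ⟨χ, hχ, (hkey χ θ h).symm⟩

end Cfsg.Agent.AbelianExt
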