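import Cfsg.Agent.Lib.Blocks.CoverStab
import Cfsg.Agent.Lib.CharApp.FongReynolds
import Mathlib.RingTheory.Artinian.Module

/-!
# Defect groups of covering blocks

* `eq_zero_of_br_eq_zero`: over a stable idempotent `z` of a block of `N ⊴ G` with `br Q z ≠ 0`, a
  fixed idempotent `E = E z` with `br Q E = 0` vanishes (the components along the cosets of `N`
  multiply nilpotently).
* `stable_inter`: if `B` covers the stable block `b` then `D ⊓ N` is a defect group of `b`.
* `fong_reynolds_defect`: corresponding blocks over `b` have the same defect groups and heights.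
-/

set_option autoImplicit false
set_option linter.style.haveILetI false

namespace Cfsg.Agent.CoverDefect

open Cfsg Cfsg.Agent.Blocks Cfsg.Agent.BrauerPairs
open scoped Classical

variable {G : Type*} [Group G] {p : ℕ} {M : Ideal AlgInt}

/-- A bound on the length of nonzero products of nilpotent central elements. -/
theorem exists_nil_bound [Finite G] (hM : IsPModular p M) :
    ∃ n : ℕ, ∀ l : List (MonoidAlgebra (Res M) G),
      (∀ a ∈ l, Fixed ⊤ a ∧ IsNilpotent a) → l.length = n → l.prod = 0 := by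
  have := Fintype.ofFinite G
  have : M.IsMaximal := hM.2.1
  letI : Field (Res M) := Ideal.Quotient.field M
  let C := Subalgebra.center (Res M) (MonoidAlgebra (Res M) G)
  have hA : Module.Finite (Res M) (MonoidAlgebra (Res M) G) :=
    Module.Finite.equiv (MonoidAlgebra.coeffLinearEquiv (Res M)).symm
  have hC : Module.Finite (Res M) C := FiniteDimensional.finiteDimensional_submodule C.toSubmodule
  have : IsArtinianRing C := IsArtinianRing.of_finite (Res M) C
  obtain ⟨n, hn⟩ := IsArtinianRing.isNilpotent_nilradical (R := C)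
  refine ⟨n, fun l hl hlen => ?_⟩
  have key : ∀ l : List (MonoidAlgebra (Res M) G), (∀ a ∈ l, Fixed ⊤ a ∧ IsNilpotent a) →
      ∃ c : C, (c : MonoidAlgebra (Res M) G) = l.prod ∧ c ∈ nilradical C ^ l.length := by
    intro l
    induction l with
    | nil => exact fun _ => ⟨1, rfl, by simp⟩
    | cons a l ih =>
      intro h
      obtain ⟨c, hc, hcm⟩ := ih fun x hx => h x (List.mem_cons_of_mem a hx)
      obtain ⟨hfix, k, hk⟩ := h a List.mem_cons_self
      have hac : a ∈ C := Subalgebra.mem_center_iff.2 fun b =>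
        (hfix.commute (b := b) SuppIn.top).symm
      refine ⟨⟨a, hac⟩ * c, by rw [List.prod_cons, ← hc]; rfl, ?_⟩
      rw [List.length_cons, pow_succ']
      exact Ideal.mul_mem_mul ((mem_nilradical).2 ⟨k, Subtype.ext hk⟩) hcm
  obtain ⟨c, hc, hcm⟩ := key l hl
  rw [hlen, hn, Ideal.zero_eq_bot, Ideal.mem_bot] at hcm
  rw [← hc, hcm]
  rfl

variable (N : Subgroup G) [N.Normal]

/-- The component of `a` on the coset `q`. -/
noncomputable def comp (q : G ⧸ N) (a : MonoidAlgebra (Res M) G) : MonoidAlgebra (Res M) G :=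
  MonoidAlgebra.ofCoeff (a.coeff.filter (fun x : G => (x : G ⧸ N) = q))

theorem coeff_comp (q : G ⧸ N) (a : MonoidAlgebra (Res M) G) (x : G) :
    (comp N q a).coeff x = if (x : G ⧸ N) = q then a.coeff x else 0 := by
  simp [comp, Finsupp.filter_apply]

theorem sum_comp [Fintype (G ⧸ N)] (a : MonoidAlgebra (Res M) G) : ∑ q, comp N q a = a := by
  ext x
  rw [MonoidAlgebra.coeff_sum, Finsupp.finsetSum_apply]
  simp [coeff_comp]

/-- Fixed by `N`, absorbing `z`, killed by `br Q`, supported on one coset. -/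
def Good (Q : Subgroup G) (z : MonoidAlgebra (Res M) G) (q : G ⧸ N)
    (a : MonoidAlgebra (Res M) G) : Prop :=
  Fixed N a ∧ a * z = a ∧ br Q a = 0 ∧ ∀ x : G, (x : G ⧸ N) ≠ q → a.coeff x = 0

variable [Finite G] {N}

omit [Finite G] in
theorem mk_conj {u : G} (hu : u ∈ N) (x : G) : ((u * x * u⁻¹ : G) : G ⧸ N) = (x : G ⧸ N) := by
  rw [QuotientGroup.mk_mul, QuotientGroup.mk_mul, QuotientGroup.mk_inv,
    (QuotientGroup.eq_one_iff u).2 hu, one_mul, inv_one, mul_one]

theorem good_comp {Q : Subgroup G} {z E : MonoidAlgebra (Res M) G} (hzN : SuppIn N z)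
    (hE : Fixed N E) (hEz : E * z = E) (hbr : br Q E = 0) (q : G ⧸ N) :
    Good N Q z q (comp N q E) := by
  have := Fintype.ofFinite G
  refine ⟨fun u hu => ?_, ?_, ?_, fun x hx => by rw [coeff_comp, if_neg hx]⟩
  · ext x
    rw [coeff_cj, coeff_comp, coeff_comp]
    have h1 : u⁻¹ * x * u = u⁻¹ * x * u⁻¹⁻¹ := by rw [inv_inv]
    rw [h1, mk_conj (inv_mem hu) x, coeff_conj_of_fixed hE (inv_mem hu) x]
  · ext x
    rw [coeff_comp]
    conv_rhs => rw [← hEz]
    rw [coeff_mul_eq_sum, coeff_mul_eq_sum]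
    have key : ∀ y : G, (y : G ⧸ N) ≠ (x : G ⧸ N) → z.coeff (y⁻¹ * x) = 0 := fun y hy =>
      hzN _ fun h => hy (QuotientGroup.eq.2 h)
    split_ifs with hx
    · refine Finset.sum_congr rfl fun y _ => ?_
      rw [coeff_comp]
      by_cases hy : (y : G ⧸ N) = q
      · rw [if_pos hy]
      · rw [key y (fun h => hy (h.trans hx)), mul_zero, mul_zero]
    · refine Finset.sum_eq_zero fun y _ => ?_
      rw [coeff_comp]
      by_cases hy : (y : G ⧸ N) = q
      · rw [key y (fun h => hx (h.symm.trans hy)), mul_zero]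
      · rw [if_neg hy, zero_mul]
  · ext x
    have h := congrArg (fun w : MonoidAlgebra (Res M) G => w.coeff x) hbr
    simp only [coeff_br, MonoidAlgebra.coeff_zero, Finsupp.zero_apply] at h
    rw [coeff_br, coeff_comp, MonoidAlgebra.coeff_zero, Finsupp.zero_apply]
    split_ifs with h1 h2
    · rw [if_pos h1] at h
      exact h
    · rfl
    · rfl

theorem good_mul [Fact p.Prime] (hM : IsPModular p M) {Q : Subgroup G} (hQ : IsPGroup p Q)
    (hQN : Q ≤ N) {z a b : MonoidAlgebra (Res M) G} {q r : G ⧸ N}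
    (ha : Good N Q z q a) (hb : Good N Q z r b) : Good N Q z (q * r) (a * b) := by
  have := Fintype.ofFinite G
  have := res_charP hM
  refine ⟨ha.1.mul hb.1, by rw [mul_assoc, hb.2.1], ?_, fun x hx => ?_⟩
  · rw [br_mul (p := p) hQ (ha.1.mono hQN) (hb.1.mono hQN), ha.2.2.1, zero_mul]
  · rw [coeff_mul_eq_sum]
    refine Finset.sum_eq_zero fun y _ => ?_
    by_cases hy : (y : G ⧸ N) = q
    · rw [hb.2.2.2 (y⁻¹ * x) (fun h => hx ?_), mul_zero]
      rw [← hy, ← h, ← QuotientGroup.mk_mul, mul_inv_cancel_left]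
    · rw [ha.2.2.2 y hy, zero_mul]

/-- A fixed idempotent over the stable block `b` is not killed by `br Q` when `b` is not. -/
theorem eq_zero_of_br_eq_zero [Fact p.Prime] (hM : IsPModular p M) {Q : Subgroup G}
    (hQ : IsPGroup p Q) (hQN : Q ≤ N) {b : Set (IrrCharacter N)} (hb : IsPBlock M b)
    (hbQ : br Q (bIdem M N b) ≠ 0) {E : MonoidAlgebra (Res M) G} (hE : Fixed N E)
    (hEE : E * E = E) (hEz : E * bIdem M N b = E) (hbr : br Q E = 0) : E = 0 := by
  have := res_charP hM
  have := Fintype.ofFinite G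
  have := Fintype.ofFinite (G ⧸ N)
  set z := bIdem M N b with hz
  -- components on the trivial coset are nilpotent and central in `N`
  have hnil : ∀ a, Good N Q z 1 a → SuppIn N a ∧ Fixed ⊤ (pull N a) ∧ IsNilpotent (pull N a) := by
    intro a ha
    have hs : SuppIn N a := fun x hx => ha.2.2.2 x fun h => hx ((QuotientGroup.eq_one_iff x).1 h)
    refine ⟨hs, fixed_pull ha.1, isNilpotent_of_lamG hM (fixed_pull ha.1) fun η => ?_⟩
    by_contra hne
    have hη : η ∈ b := by
      by_contra hη
      apply hne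
      have e := lam_mul hM ⟨hs, ha.1⟩ (bIdem_central N b) η
      rw [← hz, ha.2.1, hz, lam_bIdem hM hb, if_neg hη, mul_zero] at e
      exact e
    obtain ⟨w, hw, haw⟩ := exists_inverse hM (⟨hs, ha.1⟩ : IsCentralIn N a) hb hη hne
    apply hbQ
    rw [← hz] at haw
    rw [← haw, br_mul (p := p) hQ (ha.1.mono hQN) (hw.2.mono hQN), ha.2.2.1, zero_mul]
  obtain ⟨n, hn⟩ := exists_nil_bound (G := N) hM
  -- prefixes
  let Suf : G ⧸ N → MonoidAlgebra (Res M) G → Prop :=
    fun w a => (w = 1 ∧ a = 1) ∨ Good N Q z w a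
  have hsuf : ∀ w a r c, Suf w a → Good N Q z r c → Good N Q z (w * r) (a * c) := by
    rintro w a r c (⟨rfl, rfl⟩ | ha) hc
    · rwa [one_mul, one_mul]
    · exact good_mul hM hQ hQN ha hc
  let State : MonoidAlgebra (Res M) G → G ⧸ N → (G ⧸ N → ℕ) → Prop :=
    fun X c f => ∀ v, f v = 0 ∨ ∃ pre : MonoidAlgebra (Res M) G,
      ∃ segs : List (MonoidAlgebra (Res M) G), ∃ suf : MonoidAlgebra (Res M) G,
        X = pre * segs.prod * suf ∧ (∀ s ∈ segs, Good N Q z 1 s) ∧ segs.length + 1 = f v ∧
          Suf (v⁻¹ * c) suf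
  have claim : ∀ d X c f, State X c f →
      (∑ v, f v) + d = Fintype.card (G ⧸ N) * n + 1 → X * E = 0 := by
    intro d
    induction d with
    | zero =>
      intro X c f hst hsum
      obtain ⟨v, hv⟩ : ∃ v, n < f v := by
        by_contra hno
        push Not at hno
        have := Finset.sum_le_sum fun v (_ : v ∈ Finset.univ) => hno v
        rw [Finset.sum_const, Finset.card_univ, smul_eq_mul] at this
        omega
      obtain ⟨pre, segs, suf, rfl, hsegs, hlen, -⟩ :=
        (hst v).resolve_left (fun h => by omega)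
      have hzero : segs.prod = 0 := by
        have hsplit : segs.prod = (segs.take n).prod * (segs.drop n).prod := by
          rw [← List.prod_append, List.take_append_drop]
        rw [hsplit]
        have h1 : ∀ l : List (MonoidAlgebra (Res M) G), (∀ s ∈ l, Good N Q z 1 s) →
            l.prod = emb N (l.map (pull N)).prod := by
          intro l
          induction l with
          | nil => intro _; simp
          | cons a l ih =>
            intro h
            rw [List.prod_cons, List.map_cons, List.prod_cons, map_mul,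
              emb_pull (hnil a (h a List.mem_cons_self)).1,
              ← ih fun s hs => h s (List.mem_cons_of_mem a hs)]
        rw [h1 _ fun s hs => hsegs s (List.mem_of_mem_take hs), hn _ ?_ ?_, map_zero, zero_mul]
        · intro a ha
          obtain ⟨s, hs, rfl⟩ := List.mem_map.1 ha
          exact (hnil s (hsegs s (List.mem_of_mem_take hs))).2
        · rw [List.length_map, List.length_take]
          omega
      rw [hzero, mul_zero, zero_mul, zero_mul]
    | succ d ih =>
      intro X c f hst hsum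
      have hsplit : X * E = ∑ q, (X * comp N q E) * E := by
        rw [← Finset.sum_mul, ← Finset.mul_sum, sum_comp, mul_assoc, hEE]
      rw [hsplit]
      refine Finset.sum_eq_zero fun q _ => ?_
      have hg := good_comp (Q := Q) (suppIn_emb N _) hE hEz hbr q
      refine ih _ (c * q) (Function.update f (c * q) (f (c * q) + 1)) (fun v => ?_) ?_
      · by_cases hv : v = c * q
        · subst hv
          refine Or.inr ?_
          rw [Function.update_self]
          rcases hst (c * q) with h0 | ⟨pre, segs, suf, rfl, hsegs, hlen, hs⟩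
          · refine ⟨X * comp N q E, [], 1, by simp, by simp, by simp [h0], Or.inl ⟨?_, rfl⟩⟩
            exact inv_mul_cancel _
          · refine ⟨pre, segs ++ [suf * comp N q E], 1, ?_, ?_, ?_, Or.inl ⟨inv_mul_cancel _, rfl⟩⟩
            · simp [mul_assoc]
            · intro s hs'
              rcases List.mem_append.1 hs' with h | h
              · exact hsegs s h
              · rw [List.mem_singleton] at h
                subst h
                have hg' := hsuf _ _ _ _ hs hg
                rwa [mul_assoc, inv_mul_cancel] at hg'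
            · simp [← hlen]
        · rw [Function.update_of_ne hv]
          rcases hst v with h0 | ⟨pre, segs, suf, rfl, hsegs, hlen, hs⟩
          · exact Or.inl h0
          · refine Or.inr ⟨pre, segs, suf * comp N q E, by simp [mul_assoc], hsegs, hlen, Or.inr ?_⟩
            have hg' := hsuf _ _ _ _ hs hg
            rwa [mul_assoc] at hg'
      · rw [Finset.sum_update_of_mem (Finset.mem_univ _)]
        have := Finset.sum_eq_add_sum_sdiff_singleton_of_mem (Finset.mem_univ (c * q)) f
        omega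
  have h := claim (Fintype.card (G ⧸ N) * n + 1) 1 1 (fun _ => 0) (fun v => Or.inl rfl) (by simp)
  rwa [one_mul] at h

section cover

variable [Fintype G] [Fintype N] [Fact p.Prime] (hM : IsPModular p M)
include hM

/-- A block covering a stable block lies under its idempotent. -/
theorem blk_mul_bIdem {B : Set (IrrCharacter G)} (hB : IsPBlock M B)
    {b : Set (IrrCharacter N)} (hb : IsPBlock M b) (hfix : Fixed ⊤ (bIdem M N b))
    (hcov : ∃ χ ∈ B, ∃ θ ∈ b, classInner (fun n : N => (χ : G → ℂ) n) (θ : N → ℂ) ≠ 0) :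
    blk M B * bIdem M N b = blk M B := by
  obtain ⟨χ, hχ, θ, hθ, hne⟩ := hcov
  have horb : BlocksNormal.orbitSet N b = b := by
    refine Set.ext fun η => ⟨fun ⟨g, hg⟩ => ?_, fun h => ⟨1, by rwa [BlocksNormal.conjIrr_one]⟩⟩
    have hgN : g⁻¹ ∈ Subgroup.normalizer (N : Set G) := by
      rw [Subgroup.normalizer_eq_top]; trivial
    have h := (forall_conj_mem_iff hM hb hgN).2 (hfix g⁻¹ (Subgroup.mem_top _)) _ hg η
      (fun h h' he => ?_)
    · exact h
    · show (η : N → ℂ) h' = (η : N → ℂ) (MulAut.conjNormal g⁻¹ h)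
      refine congrArg _ (Subtype.ext ?_)
      rw [he]
      simp
  have heq : bIdem M N b = red M (BlocksNormal.orbitFun N b) := by
    ext x
    rw [coeff_bIdem hM, coeff_red, BlocksNormal.orbitFun, horb]
    congr 1
    unfold subgroupBlockCoeff
    split_ifs with hx
    · rw [Char.extendByZero_mem _ _ hx, blockCoeff_eq_ofOmega]
    · rw [Char.extendByZero_not_mem _ _ hx]
  have hlam : lamG M χ (bIdem M N b) = 1 := by
    rw [heq, lamG_red hM (BlocksNormal.isClassFunction_orbitFun N b)
      (BlocksNormal.memR_orbitFun N hM hb), BlocksNormal.omega_orbitFun N b χ hne, horb,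
      blockInd_of_mem hθ, res_one hM]
  rw [(fixed_blk B).commute SuppIn.top]
  rcases mul_blk_cases hM hfix (bIdem_mul_self hM hb) hB hχ with ⟨-, h⟩ | ⟨h0, -⟩
  · exact h
  · rw [hlam] at h0
    have := res_nontrivial hM
    exact absurd h0 one_ne_zero

/-- A defect group of a block covering a stable block meets `N` in a defect group of it. -/
theorem stable_inter {B : Set (IrrCharacter G)} (hB : IsPBlock M B)
    {b : Set (IrrCharacter N)} (hb : IsPBlock M b) (hfix : Fixed ⊤ (bIdem M N b))
    (hcov : ∃ χ ∈ B, ∃ θ ∈ b, classInner (fun n : N => (χ : G → ℂ) n) (θ : N → ℂ) ≠ 0)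
    {D : Subgroup G} (hD : IsDefectGroup p M B D) :
    IsDefectGroup p M b ((D ⊓ N).subgroupOf N) := by
  have := res_charP hM
  have hDp := isPGroup_defectGroup hM hD
  have hEz := blk_mul_bIdem hM hB hb hfix hcov
  have hbr : br (D ⊓ N) (bIdem M N b) ≠ 0 := fun h => by
    have h1 : br (D ⊓ N) (blk M B) = 0 := by
      rw [← hEz, br_mul (p := p) (hDp.to_le inf_le_left) ((fixed_blk B).mono le_top)
        (hfix.mono le_top), h, mul_zero]
    exact br_defectGroup_ne_zero hM hD
      (by rw [← br_br (inf_le_left : D ⊓ N ≤ D), h1, br_zero])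
  obtain ⟨D₀, hD₀, hle⟩ := sub_exists_defectGroup_ge hM hb inf_le_right (hDp.to_le inf_le_left) hbr
  have hbr₀ : br (D₀.map N.subtype) (blk M B) ≠ 0 := fun h0 =>
    blk_ne_zero hM hB (eq_zero_of_br_eq_zero hM ((isPGroup_defectGroup hM hD₀).map _)
      (Subgroup.map_subtype_le D₀) hb (sub_br_defectGroup_ne_zero hM hD₀)
      ((fixed_blk B).mono le_top) (blk_mul_self hM hB) hEz h0)
  obtain ⟨D₁, hD₁, hle₁⟩ := exists_defectGroup_ge hM hB ((isPGroup_defectGroup hM hD₀).map _) hbr₀
  obtain ⟨y, rfl⟩ := isDefectGroup_conj_eq hM hB hD hD₁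
  have hN : conjSub y N = N := conjSub_eq_self_iff.2 (by
    rw [Subgroup.normalizer_eq_top]
    exact Subgroup.mem_top y)
  have h2 : D₀.map N.subtype ≤ conjSub y (D ⊓ N) := by
    refine le_trans (le_inf hle₁ ((Subgroup.map_subtype_le D₀).trans hN.ge)) ?_
    intro w hw
    rw [Subgroup.mem_inf, mem_conjSub, mem_conjSub] at hw
    exact mem_conjSub.2 hw
  have h3 := Subgroup.card_le_of_le h2
  rw [card_conjSub, Subgroup.card_map_of_injective N.subtype_injective,
    ← Nat.card_congr (Subgroup.subgroupOfEquivOfLe (inf_le_right : D ⊓ N ≤ N)).toEquiv] at h3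
  rwa [Subgroup.eq_of_le_of_card_ge hle h3]

variable {T : Subgroup G} [Fintype T] {b : Set (IrrCharacter N)}

/-- Heights and defects correspond under Fong-Reynolds. -/
theorem fong_reynolds_degrees (hb : IsPBlock M b) (hT : FongReynolds.IsBlockStab N T b)
    (hNT : N ≤ T) {B' : Set (IrrCharacter T)} (hB' : IsPBlock M B')
    (hcov : FongReynolds.Covers N T hNT B' b) {B : Set (IrrCharacter G)}
    (hind : IsInducedBlock M T B' B) :
    blockDefect p B = blockDefect p B' ∧ ∀ ψ ∈ B', ∃ χ ∈ B, (χ : G → ℂ) = indFun T (ψ : T → ℂ) ∧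
      blockHeight p B (χ : G → ℂ) = blockHeight p B' (ψ : T → ℂ) := by
  obtain ⟨B₀, hB₀, -, hirr, hmem⟩ := (FongReynolds.fong_reynolds hNT hM hb hT).1 B' hB' hcov
  obtain rfl := SecondMain.induced_unique hM hind hB₀
  have hdeg : ∀ ψ : IrrCharacter T, ∀ χ : IrrCharacter G, (χ : G → ℂ) = indFun T (ψ : T → ℂ) →
      (charDegree (χ : G → ℂ)).factorization p =
        T.index.factorization p + (charDegree (ψ : T → ℂ)).factorization p := by
    intro ψ χ h
    have e : ((charDegree (χ : G → ℂ) : ℕ) : ℂ) = ((T.index * charDegree (ψ : T → ℂ) : ℕ) : ℂ) := by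
      rw [charDegree_cast, h, Char.indFun_one_apply, Nat.cast_mul, charDegree_cast]
    rw [Nat.cast_inj.1 e, Nat.factorization_mul Subgroup.index_ne_zero_of_finite
      (charDegree_pos ψ).ne', Finsupp.add_apply]
  obtain ⟨ψ₀, hψ₀⟩ := isPBlock_nonempty hM hB'
  have himg : (fun χ : IrrCharacter G => (charDegree (χ : G → ℂ)).factorization p) '' B =
      (fun m => T.index.factorization p + m) ''
        ((fun ψ : IrrCharacter T => (charDegree (ψ : T → ℂ)).factorization p) '' B') := by
    ext m
    constructor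
    · rintro ⟨χ, hχ, rfl⟩
      obtain ⟨ψ, hψ, h⟩ := (hmem χ).1 hχ
      exact ⟨_, ⟨ψ, hψ, rfl⟩, (hdeg ψ χ h).symm⟩
    · rintro ⟨-, ⟨ψ, hψ, rfl⟩, rfl⟩
      exact ⟨⟨_, hirr ψ hψ⟩, (hmem _).2 ⟨ψ, hψ, rfl⟩, hdeg ψ ⟨_, hirr ψ hψ⟩ rfl⟩
  set S := (fun ψ : IrrCharacter T => (charDegree (ψ : T → ℂ)).factorization p) '' B' with hS
  have hinf : sInf ((fun χ : IrrCharacter G => (charDegree (χ : G → ℂ)).factorization p) '' B) =
      T.index.factorization p + sInf S := by
    rw [himg]
    have hne : S.Nonempty := ⟨_, ψ₀, hψ₀, rfl⟩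
    refine le_antisymm (Nat.sInf_le ⟨_, Nat.sInf_mem hne, rfl⟩) ?_
    refine le_csInf (hne.image _) ?_
    rintro - ⟨m, hm, rfl⟩
    exact Nat.add_le_add_left (Nat.sInf_le hm) _
  refine ⟨?_, fun ψ hψ => ⟨⟨_, hirr ψ hψ⟩, (hmem _).2 ⟨ψ, hψ, rfl⟩, rfl, ?_⟩⟩
  · rw [blockDefect, blockDefect, hinf, ← T.index_mul_card, Nat.factorization_mul
      Subgroup.index_ne_zero_of_finite Nat.card_pos.ne', Finsupp.add_apply, Nat.add_sub_add_left]
  · rw [blockHeight, blockHeight, hinf]
    have h := hdeg ψ ⟨_, hirr ψ hψ⟩ rfl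
    simp only at h
    rw [h, Nat.add_sub_add_left]

/-- Corresponding blocks over `b` have the same defect groups. -/
theorem fong_reynolds_defect (hb : IsPBlock M b) (hT : FongReynolds.IsBlockStab N T b)
    (hNT : N ≤ T) {B' : Set (IrrCharacter T)} (hB' : IsPBlock M B')
    (hcov : FongReynolds.Covers N T hNT B' b) {B : Set (IrrCharacter G)}
    (hind : IsInducedBlock M T B' B) {D : Subgroup T} (hD : IsDefectGroup p M B' D) :
    IsDefectGroup p M B (D.map T.subtype) := by
  obtain ⟨E, hE, hle⟩ := Blocks.exists_defectGroup_ge_of_induced hM hind hD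
  have hcard : Nat.card E ≤ Nat.card (D.map T.subtype) := by
    rw [Subgroup.card_map_of_injective T.subtype_injective, card_defectGroup hM hind.2.1 hE,
      card_defectGroup hM hB' hD, (fong_reynolds_degrees hM hb hT hNT hB' hcov hind).1]
  exact Subgroup.eq_of_le_of_card_ge hle hcard ▸ hE

/-- A covering block has a defect group meeting `N` in a given defect group of the covered block. -/
theorem exists_inter_eq (hb : IsPBlock M b) {Q : Subgroup G} (hQN : Q ≤ N)
    (hQ : IsDefectGroup p M b (Q.subgroupOf N)) {B : Set (IrrCharacter G)} (hB : IsPBlock M B)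
    (hcov : ∃ χ ∈ B, ∃ θ ∈ b, classInner (fun n : N => (χ : G → ℂ) n) (θ : N → ℂ) ≠ 0) :
    ∃ P : Subgroup G, IsDefectGroup p M B P ∧ P ⊓ N = Q := by
  have := res_charP hM
  set z := bIdem M N b with hz
  let S := fixedSub z
  have hnorm : ∀ g : G, g ∈ Subgroup.normalizer (N : Set G) := fun g => by
    rw [Subgroup.normalizer_eq_top]; trivial
  have hS : FongReynolds.IsBlockStab N S b := by
    intro g
    rw [← inv_mem_iff (H := S), mem_fixedSub, hz, ← forall_conj_mem_iff hM hb (hnorm g⁻¹)]
    refine forall₂_congr fun θ _ => forall_congr' fun θ' => ?_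
    refine imp_congr ⟨fun h n => ?_, fun h n n' hn => ?_⟩ Iff.rfl
    · exact h _ n (by simp [mul_assoc])
    · rw [h n']
      refine congrArg _ (Subtype.ext ?_)
      show g * (n' : G) * g⁻¹ = n
      rw [hn]
      group
  have hNS : N ≤ S := fixed_iff_le_fixedSub.1 (bIdem_central N b).2
  have : Fintype S := Fintype.ofFinite S
  obtain ⟨B', hB', hcov', hind⟩ := (FongReynolds.fong_reynolds hNS hM hb hS).2.2 B hB hcov
  obtain ⟨c, hc, hcz⟩ := exists_sub_block hM hNS hb
  have hn : (N.subgroupOf S).Normal := Subgroup.Normal.subgroupOf ‹N.Normal› S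
  have : Fintype (N.subgroupOf S) := Fintype.ofFinite _
  let e : N.subgroupOf S ≃* N := Subgroup.subgroupOfEquivOfLe hNS
  have hfix : Fixed ⊤ (bIdem M (N.subgroupOf S) c) := by
    intro u _
    refine emb_injective S ?_
    rw [emb_cj, hcz]
    exact u.2
  have hcb : c = pullIrr e '' b := by
    refine bIdem_injective hM hc (isPBlock_image e hb) (emb_injective S ?_)
    rw [hcz]
    ext x
    by_cases hx : x ∈ S
    · rw [show x = ((⟨x, hx⟩ : S) : G) from rfl, coeff_emb_coe, coeff_bIdem hM, coeff_bIdem hM]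
      congr 1
      simp only [subgroupBlockCoeff]
      by_cases hxN : x ∈ N
      · rw [dif_pos (show (⟨x, hx⟩ : S) ∈ N.subgroupOf S from hxN), dif_pos hxN, blockCoeff_image]
        rfl
      · rw [dif_neg (show (⟨x, hx⟩ : S) ∉ N.subgroupOf S from hxN), dif_neg hxN]
    · rw [suppIn_emb S _ x hx, coeff_bIdem hM, subgroupBlockCoeff, dif_neg fun h => hx (hNS h),
        res_zero hM]
  have hcovc : ∃ ψ ∈ B', ∃ θ ∈ c,
      classInner (fun n : N.subgroupOf S => (ψ : S → ℂ) n) (θ : N.subgroupOf S → ℂ) ≠ 0 := by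
    obtain ⟨ψ, hψ, θ, hθ, hne⟩ := hcov'
    refine ⟨ψ, hψ, pullIrr e θ, hcb ▸ ⟨θ, hθ, rfl⟩, fun h0 => hne ?_⟩
    rw [← h0]
    simp only [classInner, Nat.card_congr e.toEquiv]
    congr 1
    refine (Fintype.sum_equiv e.toEquiv _ _ fun n => ?_).symm
    rfl
  obtain ⟨D, hD⟩ := Blocks.exists_isDefectGroup (p := p) hM hB'
  have hinter := stable_inter hM hB' hc hfix hcovc hD
  set R₀ := (D ⊓ N.subgroupOf S).subgroupOf (N.subgroupOf S)
  set P₀ := D.map S.subtype with hP₀
  set R := P₀ ⊓ N with hR
  have hP₀d := fong_reynolds_defect hM hb hS hNS hB' hcov' hind hD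
  have hRp : IsPGroup p R := (isPGroup_defectGroup hM hP₀d).to_le inf_le_left
  have hmap : (D ⊓ N.subgroupOf S).map S.subtype = R := by
    rw [hR, hP₀]
    ext x
    simp only [Subgroup.mem_map, Subgroup.mem_inf, Subgroup.mem_subgroupOf, Subgroup.coe_subtype]
    constructor
    · rintro ⟨s, ⟨h1, h2⟩, rfl⟩
      exact ⟨⟨s, h1, rfl⟩, h2⟩
    · rintro ⟨⟨s, h1, rfl⟩, h2⟩
      exact ⟨s, ⟨h1, h2⟩, rfl⟩
  have hbrR : br R z ≠ 0 := by
    intro h0
    refine sub_br_defectGroup_ne_zero hM hinter ?_
    rw [Subgroup.map_subgroupOf_eq_of_le inf_le_right]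
    refine emb_injective S ?_
    rw [BrauerPairs.emb_br, hcz, hmap, h0, map_zero]
  obtain ⟨D₂, hD₂, hle⟩ := sub_exists_defectGroup_ge hM hb inf_le_right hRp hbrR
  obtain ⟨m, hm⟩ := isDefectGroup_conj_eq hM hb hQ hD₂
  have hQp : IsPGroup p Q :=
    (isPGroup_defectGroup hM hQ).of_equiv (Subgroup.subgroupOfEquivOfLe hQN)
  have hQS : Q ≤ S := hQN.trans hNS
  have hQR : Nat.card Q ≤ Nat.card R := by
    have hne : br (Q.subgroupOf S) (bIdem M (N.subgroupOf S) c) ≠ 0 := by
      intro h0
      refine sub_br_defectGroup_ne_zero hM hQ ?_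
      rw [Subgroup.map_subgroupOf_eq_of_le hQN]
      have := congrArg (emb S) h0
      rwa [BrauerPairs.emb_br, hcz, Subgroup.map_subgroupOf_eq_of_le hQS, map_zero] at this
    have := sub_card_le_of_br_ne_zero hM hc (R := Q.subgroupOf S)
      (fun x hx => hQN hx) (hQp.of_equiv (Subgroup.subgroupOfEquivOfLe hQS).symm) hne hinter
    rwa [Nat.card_congr (Subgroup.subgroupOfEquivOfLe hQS).toEquiv,
      Nat.card_congr (Subgroup.subgroupOfEquivOfLe (inf_le_right : D ⊓ N.subgroupOf S ≤ _)).toEquiv,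
      ← Subgroup.card_map_of_injective (K := D ⊓ N.subgroupOf S) S.subtype_injective, hmap] at this
  have hQeq : R = conjSub (m : G) Q := by
    have h1 : D₂.map N.subtype = conjSub (m : G) Q := by
      rw [← hm, conjSub, conjSub, Subgroup.map_map]
      conv_rhs => rw [← Subgroup.map_subgroupOf_eq_of_le hQN, Subgroup.map_map]
      rfl
    have h2 : R ≤ conjSub (m : G) Q := by
      rw [← h1]
      exact (Subgroup.map_subgroupOf_eq_of_le (inf_le_right : R ≤ N)).ge.trans (Subgroup.map_mono hle)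
    exact Subgroup.eq_of_le_of_card_ge h2 (by rwa [card_conjSub])
  refine ⟨conjSub (m : G)⁻¹ P₀, isDefectGroup_conjSub hM hP₀d _, ?_⟩
  have hN : conjSub (m : G)⁻¹ N = N := conjSub_eq_self_iff.2 (hnorm _)
  calc conjSub (m : G)⁻¹ P₀ ⊓ N = conjSub (m : G)⁻¹ P₀ ⊓ conjSub (m : G)⁻¹ N := by rw [hN]
    _ = conjSub (m : G)⁻¹ (P₀ ⊓ N) :=
      (Subgroup.map_inf _ _ _ (MulAut.conj (m : G)⁻¹).injective).symm
    _ = Q := by rw [← hR, hQeq, conjSub_mul, inv_mul_cancel, conjSub_one]

end cover

end Cfsg.Agent.CoverDefect
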