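import Cfsg.Agent.Lib.Blocks.KernelPairs
import Cfsg.Agent.Lib.BrauerPairs.StableBlock
import Cfsg.Agent.Lib.BrauerPairs.LocalDefect

/-!
# Stabilisers of blocks as fixers of idempotents

* `forall_conj_mem_iff`: stabilising a block of a normalised subgroup is fixing its idempotent.
* `exists_sub_block`: a block of `H ≤ T` as a block of `H.subgroupOf T`.
* `defect_local_iff`: for `b` a block of `P C(P)` with defect group `P`, the induced block has defect
  group `P` iff `p` does not divide `|T : P C(P)|`.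
-/

set_option autoImplicit false

namespace Cfsg.Agent.CoverDefect

open Cfsg Cfsg.Agent.Blocks Cfsg.Agent.BrauerPairs

variable {G : Type*} [Group G] {p : ℕ} {M : Ideal AlgInt}

/-- The elements fixing an element of the group algebra. -/
def fixedSub (a : MonoidAlgebra (Res M) G) : Subgroup G where
  carrier := {u | cj u a = a}
  one_mem' := cj_one a
  mul_mem' {u v} (hu : cj u a = a) (hv : cj v a = a) := by
    show cj (u * v) a = a
    rw [cj_mul, hv, hu]
  inv_mem' {u} (hu : cj u a = a) := by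
    show cj u⁻¹ a = a
    conv_lhs => rw [← hu]
    exact cj_inv_cj u a

theorem fixed_iff_le_fixedSub {S : Subgroup G} {a : MonoidAlgebra (Res M) G} :
    Fixed S a ↔ S ≤ fixedSub a := Iff.rfl

theorem mem_fixedSub {u : G} {a : MonoidAlgebra (Res M) G} : u ∈ fixedSub a ↔ cj u a = a := Iff.rfl

variable [Finite G]

theorem forall_conj_mem_iff (hM : IsPModular p M) {K : Subgroup G} {b : Set (IrrCharacter K)}
    (hb : IsPBlock M b) {g : G} (hg : g ∈ Subgroup.normalizer (K : Set G)) :
    (∀ θ ∈ b, ∀ θ' : IrrCharacter K, (∀ h h' : K, (h' : G) = g * h * g⁻¹ →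
        (θ' : K → ℂ) h' = (θ : K → ℂ) h) → θ' ∈ b) ↔
      cj g (bIdem M K b) = bIdem M K b := by
  rw [← stabilizesBlock_iff hM hb hg]
  constructor
  · intro h
    refine (conjImg_subset_iff_stabilizes hg b).2 ?_
    rintro _ ⟨θ, hθ, rfl⟩
    refine h θ hθ _ fun k k' hk => ?_
    rw [pullIrr_apply]
    refine congrArg (θ : K → ℂ) (Subtype.ext ?_)
    show g⁻¹ * (k' : G) * g = (k : G)
    rw [hk]
    group
  · intro h θ hθ θ' hθ'
    obtain ⟨θ'', hθ'', hc⟩ := h.2 θ hθ
    have : θ' = θ'' := by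
      apply Subtype.ext
      funext k'
      have hk : g⁻¹ * (k' : G) * g ∈ K := by
        have := Subgroup.mem_normalizer_iff.1 (inv_mem hg) (k' : G)
        rw [inv_inv] at this
        exact this.1 k'.2
      have e : (k' : G) = g * ((⟨_, hk⟩ : K) : G) * g⁻¹ := by group
      rw [hθ' ⟨_, hk⟩ k' e, hc ⟨_, hk⟩ k' e]
    exact this ▸ hθ''

/-- A block of `H ≤ T` as a block of `H.subgroupOf T`. -/
theorem exists_sub_block (hM : IsPModular p M) {H T : Subgroup G} (hHT : H ≤ T)
    {b : Set (IrrCharacter H)} (hb : IsPBlock M b) :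
    ∃ c : Set (IrrCharacter (H.subgroupOf T)), IsPBlock M c ∧
      emb T (bIdem M (H.subgroupOf T) c) = bIdem M H b := by
  refine ⟨pullIrr (Subgroup.subgroupOfEquivOfLe hHT) '' b, isPBlock_image _ hb, ?_⟩
  ext x
  by_cases hx : x ∈ T
  · rw [show x = ((⟨x, hx⟩ : T) : G) from rfl, coeff_emb_coe, coeff_bIdem hM, coeff_bIdem hM]
    congr 1
    simp only [subgroupBlockCoeff]
    by_cases hxH : x ∈ H
    · rw [dif_pos (show (⟨x, hx⟩ : T) ∈ H.subgroupOf T from hxH), dif_pos hxH, blockCoeff_image]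
      rfl
    · rw [dif_neg (show (⟨x, hx⟩ : T) ∉ H.subgroupOf T from hxH), dif_neg hxH]
  · rw [suppIn_emb T _ x hx, coeff_bIdem hM, subgroupBlockCoeff, dif_neg fun h => hx (hHT h),
      res_zero hM]

theorem defect_local_iff [Fact p.Prime] (hM : IsPModular p M) {P H T : Subgroup G}
    (hP : IsPGroup p P) (hH : H = P ⊔ Subgroup.centralizer (P : Set G))
    {b : Set (IrrCharacter H)} (hb : IsPBlock M b) (hbP : IsDefectGroup p M b (P.subgroupOf H))
    {B : Set (IrrCharacter G)} (hind : IsInducedBlock M H b B)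
    (hT : ∀ g : G, g ∈ T ↔ g ∈ Subgroup.normalizer (P : Set G) ∧
      ∀ θ ∈ b, ∀ θ' : IrrCharacter H, (∀ h h' : H, (h' : G) = g * h * g⁻¹ →
        (θ' : H → ℂ) h' = (θ : H → ℂ) h) → θ' ∈ b) :
    IsDefectGroup p M B P ↔ ¬ p ∣ H.relIndex T := by
  classical
  have := Fintype.ofFinite G
  have := res_charP hM
  have hPH : P ≤ H := hH ▸ le_sup_left
  have hCH : Subgroup.centralizer (P : Set G) ≤ H := hH ▸ le_sup_right
  have hHN : H ≤ Subgroup.normalizer (P : Set G) :=
    hH ▸ sup_le Subgroup.le_normalizer (centralizer_le_normalizer hM P)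
  -- the idempotent of `b`
  obtain ⟨e, hPe, hbe⟩ := KernelPairs.exists_pair hM hb hP hPH hCH (by
    rw [eq_br_of_normal hM hP hPH hHN (bIdem_central H b) (bIdem_mul_self hM hb)]
    exact bIdem_ne_zero hM hb)
  rw [eq_br_of_normal hM hP hPH hHN (bIdem_central H b) (bIdem_mul_self hM hb)] at hbe
  have hfixH : Fixed H (cb M P e) := by
    rw [fixed_iff_le_fixedSub, hH]
    exact sup_le (fun u hu => cj_eq_self_of_suppIn (bIdem_central _ e).1 hu)
      (fixed_iff_le_fixedSub.1 (bIdem_central _ e).2)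
  obtain ⟨F, hF, hFe, -⟩ := exists_block_of_stable hM hP hPH hHN hCH hPe.2 hfixH
  have hFb : F = b := by
    by_contra hne
    rw [← hFe, bIdem_mul_of_ne hM hb hF (Ne.symm hne)] at hbe
    exact bIdem_ne_zero hM hF hbe.symm
  subst hFb
  have hbr : br P (bIdem M H F) * cb M P e = cb M P e := by
    rw [hFe, br_eq_self (bIdem_central _ e).1, bIdem_mul_self hM hPe.2]
  have hBe : IsBrauerPairOf p M B P e :=
    KernelPairs.isBrauerPairOf_of_induced hM hind hPe hPH hCH hbr
  have hB : IsPBlock M B := hind.2.1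
  -- the stabiliser
  have hT' : ∀ g, g ∈ T ↔ g ∈ Subgroup.normalizer (P : Set G) ∧ cj g (cb M P e) = cb M P e := by
    intro g
    rw [hT]
    refine and_congr_right fun hg => ?_
    have hgH : g ∈ Subgroup.normalizer (H : Set G) := by
      rw [hH, Subgroup.mem_normalizer_iff_map_conj_eq, Subgroup.map_sup]
      congr 1
      · exact Subgroup.mem_normalizer_iff_map_conj_eq.1 hg
      · exact Subgroup.mem_normalizer_iff_map_conj_eq.1 (mem_normalizer_centralizer hg)
    rw [forall_conj_mem_iff hM hb hgH, hFe]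
  have hTN : T ≤ Subgroup.normalizer (P : Set G) := fun g hg => ((hT' g).1 hg).1
  have hfixT : Fixed T (cb M P e) := fun g hg => ((hT' g).1 hg).2
  have hHT : H ≤ T := fun g hg => (hT' g).2 ⟨hHN hg, hfixH g hg⟩
  have hn : (H.subgroupOf T).Normal := Subgroup.normal_subgroupOf_of_le_normalizer (by
    intro g hg
    rw [hH, Subgroup.mem_normalizer_iff_map_conj_eq, Subgroup.map_sup]
    congr 1
    · exact Subgroup.mem_normalizer_iff_map_conj_eq.1 (hTN hg)
    · exact Subgroup.mem_normalizer_iff_map_conj_eq.1 (mem_normalizer_centralizer (hTN hg)))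
  constructor
  · -- defect group `P` forces index prime to `p`
    intro hBP
    obtain ⟨F', hF', hF'e, -⟩ := exists_block_of_stable hM hP (hPH.trans hHT) hTN (hCH.trans hHT)
      hPe.2 hfixT
    obtain ⟨c, hc, hce⟩ := exists_sub_block hM hHT hb
    have heq : bIdem M (H.subgroupOf T) c = blk M F' :=
      emb_injective T (by rw [hce, hFe, ← hF'e]; rfl)
    obtain ⟨D, hD⟩ := Blocks.exists_isDefectGroup (p := p) hM hF'
    have hdvd := not_dvd_index_sup_defect hM hF' hc heq hD
    set D' := D.map T.subtype with hD'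
    have hD'T : D' ≤ T := Subgroup.map_subtype_le D
    have hD'p : IsPGroup p D' := (isPGroup_defectGroup hM hD).map _
    have hbrD : br D' (cb M P e) ≠ 0 := hF'e ▸ sub_br_defectGroup_ne_zero hM hD
    have hPD : P ≤ D' := by
      have : (P.subgroupOf T).Normal := Subgroup.normal_subgroupOf_of_le_normalizer hTN
      rw [← Subgroup.map_subgroupOf_eq_of_le (hPH.trans hHT)]
      exact Subgroup.map_mono (Blocks.normal_le_defectGroup hM
        (hP.of_equiv (Subgroup.subgroupOfEquivOfLe (hPH.trans hHT)).symm) hF' hD)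
    have hCD : Subgroup.centralizer (D' : Set G) ≤ T :=
      ((Subgroup.centralizer_le hPD).trans hCH).trans hHT
    obtain ⟨g, hDg, hg⟩ := KernelPairs.exists_pair hM hF' hD'p hD'T hCD (hF'e ▸ hbrD)
    rw [hF'e] at hg
    have hsub : NormalSubpairRel p M (⟨P, e⟩ : BrauerPairIdx G) ⟨D', g⟩ :=
      (isNormalSubpair_iff hM).2 ⟨hPe, hDg, hPD, hD'T.trans hTN, hfixT.mono hD'T, hg⟩
    have hBg : IsBrauerPairOf p M B D' g := (isBrauerPairOf_iff_of_normal hM hB hsub).2 hBe
    have hne : br D' (blk M B) ≠ 0 := fun h0 => bIdem_ne_zero hM hDg.2 (by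
      obtain ⟨-, -, hh⟩ := (isBrauerPairOf_iff hM).1 hBg
      rw [h0, zero_mul] at hh
      exact hh.symm)
    have hDP : P = D' :=
      Subgroup.eq_of_le_of_card_ge hPD (card_le_of_br_ne_zero hM hB hD'p hne hBP)
    have hDH : D ≤ H.subgroupOf T := fun d hd => hPH (hDP ▸ ⟨d, hd, rfl⟩ : (d : G) ∈ P)
    rwa [sup_eq_right.2 hDH] at hdvd
  · -- index prime to `p` forces maximality
    intro hidx
    obtain ⟨Q, g, hmax, hle⟩ := exists_maximal_ge hM hBe
    have hPQ : P ≤ Q :=
      subgroup_le_of_subpairLE (a := (⟨P, e⟩ : BrauerPairIdx G)) (b := ⟨Q, g⟩) hle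
    rcases eq_or_lt_of_le hPQ with h | hlt
    · exact h ▸ maximal_isDefectGroup hM hmax
    exfalso
    set R := Q ⊓ Subgroup.normalizer (P : Set G) with hR
    have hPR := lt_inf_normalizer hmax.1.1.1 hlt
    have hQg : IsBrauerPair p M Q g := hmax.1.1
    obtain ⟨g', hg', hRQ⟩ := exists_subpair hM hQg (inf_le_left : R ≤ Q)
    obtain ⟨f, hf, hfR⟩ := exists_subpair hM
      (⟨hQg.1.to_le inf_le_left, hg'⟩ : IsBrauerPair p M R g') hPR.le
    have hfe : f = e := subpair_unique hM hQg (hfR.trans hRQ) hle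
    subst hfe
    have hn' : IsNormalSubpair p M P f R g' :=
      normalSubpair_of_le hM ⟨hQg.1.to_le inf_le_left, hg'⟩ hfR inf_le_right
    obtain ⟨-, -, -, -, hfix, hbrR⟩ := (isNormalSubpair_iff hM).1 hn'
    have hRT : R ≤ T := fun r hr => (hT' r).2 ⟨hr.2, hfix r hr⟩
    have hRp : IsPGroup p R := hQg.1.to_le inf_le_left
    have hRH : R ≤ H := by
      intro r hr
      set H' := H.subgroupOf T
      have hcop : ¬ p ∣ Nat.card (T ⧸ H') := hidx
      obtain ⟨k, hk⟩ := hRp ⟨r, hr⟩
      have hpow : r ^ p ^ k = 1 := congrArg Subtype.val hk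
      have h1 : orderOf (QuotientGroup.mk (⟨r, hRT hr⟩ : T) : T ⧸ H') ∣ p ^ k :=
        orderOf_dvd_of_pow_eq_one (by
          rw [← QuotientGroup.mk_pow, show (⟨r, hRT hr⟩ : T) ^ p ^ k = 1 from Subtype.ext hpow,
            QuotientGroup.mk_one])
      have h2 := orderOf_dvd_natCard (QuotientGroup.mk (⟨r, hRT hr⟩ : T) : T ⧸ H')
      have h3 : orderOf (QuotientGroup.mk (⟨r, hRT hr⟩ : T) : T ⧸ H') = 1 :=
        Nat.eq_one_of_dvd_coprimes
          (Nat.Coprime.pow_left k (hM.1.coprime_iff_not_dvd.2 hcop)) h1 h2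
      have h4 := orderOf_eq_one_iff.1 h3
      exact ((QuotientGroup.eq_one_iff (N := H') _).1 h4 : (⟨r, hRT hr⟩ : T) ∈ H')
    have hne : br R (bIdem M H F) ≠ 0 := fun h0 => bIdem_ne_zero hM hg' (by
      rw [← hFe, h0, zero_mul] at hbrR
      exact hbrR.symm)
    have := sub_card_le_of_br_ne_zero hM hb hRH hRp hne hbP
    rw [Nat.card_congr (Subgroup.subgroupOfEquivOfLe hPH).toEquiv] at this
    exact (hPR.ne (Subgroup.eq_of_le_of_card_ge hPR.le this)).elim

end Cfsg.Agent.CoverDefect
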