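import Cfsg.Agent.Lib.BrauerPairs.Maximal
import Cfsg.Agent.Lib.BrauerPairs.Transport
import Cfsg.Agent.Lib.OddOrder.Transitivity
import Cfsg.Agent.Lib.Char.Eigen
import Cfsg.Agent.Lib.SecondMain.Columns
import Cfsg.Agent.Lib.Blocks.Induced

/-!
# Normal `p'`-subgroups in kernels of blocks, along Brauer pairs

`InKer X b K`: the part of `K` in `X` lies in the kernel of `b`.  For a normal `p'`-subgroup `K` this
is the idempotent equation `epsR K * bIdem X b = bIdem X b` (`inKer_iff`), so it passes to the pairs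
below `b` (`inKer_iff_pair`).  `GoodPair σ Q e`: the `σ`-core of `C(Q)` lies in the kernel of `e`;
it descends along inclusions (`goodPair_down`) and, if the core is a Hall subgroup, ascends.
`isBrauerPairOf_of_induced`: pairs of a block are pairs of the block it induces.
-/

set_option autoImplicit false

namespace Cfsg.Agent.KernelPairs

open Cfsg Cfsg.Agent.Blocks Cfsg.Agent.BrauerPairs
open scoped Classical

variable {G : Type*} [Group G] [Finite G] {p : ℕ} {M : Ideal AlgInt}

/-- The elements of `X` that lie in `K` act trivially in every member of `b`. -/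
def InKer (X : Subgroup G) (b : Set (IrrCharacter X)) (K : Subgroup G) : Prop :=
  ∀ ξ ∈ b, ∀ h : X, (h : G) ∈ K → (ξ : X → ℂ) h = (ξ : X → ℂ) 1

/-- The averaging idempotent of a subgroup, as a function. -/
noncomputable def epsFun (K : Subgroup G) (g : G) : ℂ :=
  if g ∈ K then (Nat.card K : ℂ)⁻¹ else 0

/-- Its reduction. -/
noncomputable def epsR (M : Ideal AlgInt) (K : Subgroup G) : MonoidAlgebra (Res M) G :=
  red M (epsFun K)

omit [Finite G] in
theorem sum_indicator [Fintype G] (K : Subgroup G) :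
    (∑ g : G, if g ∈ K then (1 : ℂ) else 0) = Nat.card K := by
  rw [Finset.sum_boole, Nat.card_eq_fintype_card, Fintype.card_subtype]

omit [Finite G] in
theorem sum_epsFun_mul [Fintype G] (K : Subgroup G) (f : G → ℂ) :
    ∑ g, epsFun K g * f g = (Nat.card K : ℂ)⁻¹ * ∑ k : K, f k := by
  rw [Finset.mul_sum, ← Finset.sum_subtype (Finset.univ.filter (fun g => g ∈ K))
    (by simp) (fun g => (Nat.card K : ℂ)⁻¹ * f g), Finset.sum_filter]
  refine Finset.sum_congr rfl fun g _ => ?_
  unfold epsFun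
  split_ifs <;> simp

theorem conv_epsFun (K : Subgroup G) : conv (epsFun K) (epsFun K) = epsFun K := by
  have := Fintype.ofFinite G
  funext g
  rw [conv_eq_sum, sum_epsFun_mul]
  have hn : (Nat.card K : ℂ) ≠ 0 := Nat.cast_ne_zero.mpr Nat.card_pos.ne'
  have hiff : ∀ k : K, ((k : G)⁻¹ * g ∈ K ↔ g ∈ K) := fun k =>
    K.mul_mem_cancel_left (K.inv_mem k.2)
  simp only [epsFun, hiff]
  split_ifs with hg
  · rw [Finset.sum_const, Finset.card_univ, ← Nat.card_eq_fintype_card, nsmul_eq_mul]
    field_simp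
  · simp

omit [Finite G] in
theorem epsFun_conj {K : Subgroup G} {u : G} (hu : u ∈ Subgroup.normalizer (K : Set G)) (g : G) :
    epsFun K (u * g * u⁻¹) = epsFun K g := by
  simp only [epsFun, ← Subgroup.mem_normalizer_iff.1 hu g]

omit [Finite G] in
theorem memR_epsFun (hM : IsPModular p M) {K : Subgroup G} (hK : ¬ p ∣ Nat.card K) (g : G) :
    MemLocalRing M (epsFun K g) := by
  unfold epsFun
  split_ifs
  · exact memR_natCast_inv hM hK
  · exact memR_zero hM

theorem epsR_mul_self (hM : IsPModular p M) {K : Subgroup G} (hK : ¬ p ∣ Nat.card K) :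
    epsR M K * epsR M K = epsR M K := by
  rw [epsR, ← red_conv hM (memR_epsFun hM hK) (memR_epsFun hM hK), conv_epsFun]

theorem fixed_epsR {K S : Subgroup G} (hS : S ≤ Subgroup.normalizer (K : Set G)) :
    Fixed S (epsR M K) := by
  intro u hu
  ext x
  rw [coeff_cj, epsR, coeff_red, coeff_red]
  congr 1
  simpa using epsFun_conj (inv_mem (hS hu)) x

theorem isCentralIn_epsR (hM : IsPModular p M) {K X : Subgroup G} (hKX : K ≤ X)
    (hX : X ≤ Subgroup.normalizer (K : Set G)) : IsCentralIn X (epsR M K) := by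
  refine ⟨fun x hx => ?_, fixed_epsR hX⟩
  rw [epsR, coeff_red, epsFun, if_neg fun h => hx (hKX h), res_zero hM]

/-- The Brauer image of an averaging idempotent. -/
theorem br_epsR (hM : IsPModular p M) {P K : Subgroup G} (hP : IsPGroup p P)
    (hPK : P ≤ Subgroup.normalizer (K : Set G)) (hK : ¬ p ∣ Nat.card K) :
    br P (epsR M K) = epsR M (K ⊓ Subgroup.centralizer (P : Set G)) := by
  have := Fintype.ofFinite G
  set L := K ⊓ Subgroup.centralizer (P : Set G) with hLdef
  have hL : ¬ p ∣ Nat.card L := fun h =>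
    hK (h.trans (Subgroup.card_dvd_of_le inf_le_left))
  have hKne : (Nat.card K : ℂ) ≠ 0 := Nat.cast_ne_zero.mpr Nat.card_pos.ne'
  have hLne : (Nat.card L : ℂ) ≠ 0 := Nat.cast_ne_zero.mpr Nat.card_pos.ne'
  have h1 : MemLocalIdeal M ((Nat.card K : ℂ) - Nat.card L) := by
    have h := sum_sub_sum_centralizer hM hP (fun g => if g ∈ K then (1 : ℂ) else 0)
      (fun u hu g => by simp only [← Subgroup.mem_normalizer_iff.1 (hPK hu) g])
      (fun g => by by_cases hg : g ∈ K <;> simp only [hg, if_true, if_false] <;> first | exact memR_one hM | exact memR_zero hM)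
    rw [sum_indicator, Finset.sum_filter] at h
    convert h using 2
    rw [← sum_indicator L]
    refine Finset.sum_congr rfl fun g _ => ?_
    simp only [hLdef, Subgroup.mem_inf]
    split_ifs <;> simp_all
  have h2 : res M (Nat.card K : ℂ)⁻¹ = res M (Nat.card L : ℂ)⁻¹ := by
    rw [res_eq_iff hM (memR_natCast_inv hM hK) (memR_natCast_inv hM hL),
      show (Nat.card K : ℂ)⁻¹ - (Nat.card L : ℂ)⁻¹ =
        (-((Nat.card K : ℂ)⁻¹ * (Nat.card L : ℂ)⁻¹)) * ((Nat.card K : ℂ) - Nat.card L) by
          field_simp; ring]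
    exact memI_mul_left hM
      (memR_neg (memR_mul hM (memR_natCast_inv hM hK) (memR_natCast_inv hM hL))) h1
  ext x
  simp only [coeff_br, epsR, coeff_red, epsFun]
  have hiff : x ∈ L ↔ x ∈ K ∧ x ∈ Subgroup.centralizer (P : Set G) := Subgroup.mem_inf
  by_cases hx : x ∈ Subgroup.centralizer (P : Set G)
  · by_cases hxK : x ∈ K
    · rw [if_pos hx, if_pos hxK, if_pos (hiff.2 ⟨hxK, hx⟩), h2]
    · rw [if_pos hx, if_neg hxK, if_neg fun h => hxK (hiff.1 h).1]
  · rw [if_neg hx, if_neg fun h => hx (hiff.1 h).2, res_zero hM]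

theorem sum_eq_imp (ξ : IrrCharacter G) (K : Subgroup G) [Fintype K]
    (h : ∑ k : K, (ξ : G → ℂ) k = (Nat.card K : ℂ) * (ξ : G → ℂ) 1) {g : G} (hg : g ∈ K) :
    (ξ : G → ℂ) g = (ξ : G → ℂ) 1 := by
  have hch : IsCharacter G (ξ : G → ℂ) := Char.IsIrrCharacter.isCharacter ξ.2
  have him : ((ξ : G → ℂ) 1).im = 0 := by
    have := Char.IsCharacter.conj_apply_one hch
    exact Complex.conj_eq_iff_im.mp this
  have hre : ∀ k ∈ (Finset.univ : Finset K),
      ((ξ : G → ℂ) k).re = ((ξ : G → ℂ) 1).re := by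
    refine (Finset.sum_eq_sum_iff_of_le fun k _ =>
      (Complex.re_le_norm _).trans (Char.IsCharacter.norm_le hch _)).1 ?_
    rw [← Complex.re_sum, h, Finset.sum_const, Finset.card_univ, nsmul_eq_mul,
      Nat.card_eq_fintype_card]
    simp
  have h1 := hre ⟨g, hg⟩ (Finset.mem_univ _)
  refine Complex.ext h1 ?_
  rw [him]
  have h2 := Char.IsCharacter.norm_le hch g
  have h3 := Complex.sq_norm ((ξ : G → ℂ) g)
  rw [Complex.normSq_apply] at h3
  have h4 := norm_nonneg ((ξ : G → ℂ) g)
  simp only at h1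
  rw [h1] at h3
  nlinarith [sq_nonneg ((ξ : G → ℂ) g).im]

theorem pull_red (X : Subgroup G) (f : G → ℂ) :
    pull X (red M f) = red M (fun x : X => f x) := by
  ext x
  rw [coeff_pull, coeff_red, coeff_red]

/-- The kernel condition as an idempotent equation. -/
theorem inKer_iff (hM : IsPModular p M) {X K : Subgroup G} {b : Set (IrrCharacter X)}
    (hb : IsPBlock M b) (hKX : K ≤ X) (hX : X ≤ Subgroup.normalizer (K : Set G))
    (hK : ¬ p ∣ Nat.card K) :
    InKer X b K ↔ epsR M K * bIdem M X b = bIdem M X b := by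
  have := Fintype.ofFinite X
  set K' : Subgroup X := K.subgroupOf X with hK'def
  have := Fintype.ofFinite K'
  have hcard : Nat.card K' = Nat.card K := Nat.card_congr (Subgroup.subgroupOfEquivOfLe hKX).toEquiv
  have hfun : (fun x : X => epsFun K (x : G)) = epsFun K' := by
    funext x
    rw [epsFun, epsFun, hcard]
    exact if_congr Subgroup.mem_subgroupOf.symm rfl rfl
  have hnorm : ∀ u : X, u ∈ Subgroup.normalizer (K' : Set X) := fun u => by
    rw [Subgroup.mem_normalizer_iff]
    intro x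
    simp only [hK'def, Subgroup.mem_subgroupOf, Subgroup.coe_mul, Subgroup.coe_inv]
    exact Subgroup.mem_normalizer_iff.1 (hX u.2) (x : G)
  have hcl : IsClassFunction X (epsFun K') := fun x u => epsFun_conj (hnorm u) x
  have hR : ∀ x : X, MemLocalRing M (epsFun K' x) := memR_epsFun hM (hcard ▸ hK)
  have hn : (Nat.card K' : ℂ) ≠ 0 := Nat.cast_ne_zero.mpr Nat.card_pos.ne'
  have hlam : ∀ ξ : IrrCharacter X,
      lam M X ξ (epsR M K) = res M (omega (ξ : X → ℂ) (epsFun K')) := fun ξ => by
    rw [lam, epsR, pull_red, hfun, lamG_red hM hcl hR]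
  have homega : ∀ ξ : IrrCharacter X, omega (ξ : X → ℂ) (epsFun K') =
      ((Nat.card K' : ℂ)⁻¹ * ∑ k : K', (ξ : X → ℂ) k) / (ξ : X → ℂ) 1 := fun ξ => by
    rw [omega_eq_sum, sum_epsFun_mul]
    congr!
  constructor
  · intro h
    obtain ⟨ξ, hξ⟩ := isPBlock_nonempty hM hb
    rw [mul_bIdem_eq_iff hM (isCentralIn_epsR hM hKX hX) (epsR_mul_self hM hK) hb hξ, hlam, homega,
      Finset.sum_congr rfl fun (k : K') _ => h ξ hξ (k : X) (Subgroup.mem_subgroupOf.1 k.2),
      Finset.sum_const, Finset.card_univ, nsmul_eq_mul, ← Nat.card_eq_fintype_card,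
      ← mul_assoc, inv_mul_cancel₀ hn, one_mul, div_self (irr_one_ne_zero ξ), res_one hM]
  · intro h ξ hξ x hx
    rw [mul_bIdem_eq_iff hM (isCentralIn_epsR hM hKX hX) (epsR_mul_self hM hK) hb hξ, hlam] at h
    have e := omega_conv hcl hcl ξ
    rw [conv_epsFun] at e
    have e' : omega (ξ : X → ℂ) (epsFun K') * (omega (ξ : X → ℂ) (epsFun K') - 1) = 0 := by
      linear_combination -e
    rcases mul_eq_zero.1 e' with h0 | h1
    · rw [h0, res_zero hM] at h
      have := res_nontrivial hM
      exact absurd h zero_ne_one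
    · rw [sub_eq_zero, homega, div_eq_one_iff_eq (irr_one_ne_zero ξ),
        inv_mul_eq_iff_eq_mul₀ hn] at h1
      exact sum_eq_imp ξ K' h1 (Subgroup.mem_subgroupOf.2 hx)

/-- A normal `p'`-subgroup is in the kernel of a block iff its centralised part is in the kernel of
a Brauer pair below the block. -/
theorem inKer_iff_pair [Fact p.Prime] (hM : IsPModular p M) {X K P : Subgroup G}
    {b : Set (IrrCharacter X)} {e : Set (IrrCharacter (Subgroup.centralizer (P : Set G)))}
    (hb : IsPBlock M b) (hPe : IsBrauerPair p M P e)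
    (hfix : Fixed P (bIdem M X b)) (hCX : Subgroup.centralizer (P : Set G) ≤ X)
    (hle : br P (bIdem M X b) * cb M P e = cb M P e)
    (hKX : K ≤ X) (hX : X ≤ Subgroup.normalizer (K : Set G))
    (hPK : P ≤ Subgroup.normalizer (K : Set G)) (hK : ¬ p ∣ Nat.card K) :
    InKer X b K ↔
      InKer (Subgroup.centralizer (P : Set G)) e (K ⊓ Subgroup.centralizer (P : Set G)) := by
  have := res_charP hM
  have := Fintype.ofFinite G
  have hC : Subgroup.centralizer (P : Set G) ≤
      Subgroup.normalizer ((K ⊓ Subgroup.centralizer (P : Set G) : Subgroup G) : Set G) := by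
    intro c hc
    rw [Subgroup.mem_normalizer_iff]
    intro x
    simp only [Subgroup.mem_inf]
    exact and_congr (Subgroup.mem_normalizer_iff.1 (hX (hCX hc)) x)
      (Subgroup.mem_normalizer_iff.1 (Subgroup.le_normalizer hc) x)
  have hL : ¬ p ∣ Nat.card (K ⊓ Subgroup.centralizer (P : Set G) : Subgroup G) := fun h =>
    hK (h.trans (Subgroup.card_dvd_of_le inf_le_left))
  rw [inKer_iff hM hb hKX hX hK, inKer_iff hM hPe.2 inf_le_right hC hL,
    ← br_epsR hM hPe.1 hPK hK]
  rcases mul_bIdem_cases hM (isCentralIn_epsR hM hKX hX) (epsR_mul_self hM hK) hb with h | h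
  · refine iff_of_true h ?_
    have h' := congrArg (fun a => br P a * cb M P e) h
    simp only [br_mul (p := p) hPe.1 (fixed_epsR hPK) hfix, mul_assoc, hle] at h'
    exact h'
  · refine iff_of_false (fun h1 => bIdem_ne_zero hM hb (h1.symm.trans h)) fun h2 => ?_
    have h' := congrArg (fun a => br P a * cb M P e) h
    simp only [br_mul (p := p) hPe.1 (fixed_epsR hPK) hfix, mul_assoc, hle, br_zero,
      zero_mul] at h'
    exact bIdem_ne_zero hM hPe.2 (h2.symm.trans h')

/-- A block occurs in a nonzero Brauer image. -/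
theorem exists_pair [Fact p.Prime] (hM : IsPModular p M) {X P : Subgroup G}
    {b : Set (IrrCharacter X)} (hb : IsPBlock M b) (hP : IsPGroup p P) (hPX : P ≤ X)
    (hCX : Subgroup.centralizer (P : Set G) ≤ X) (h0 : br P (bIdem M X b) ≠ 0) :
    ∃ e, IsBrauerPair p M P e ∧ br P (bIdem M X b) * cb M P e = cb M P e := by
  obtain ⟨e, he, h⟩ := exists_block_le hM (br_bIdem_central hM hCX b)
    (br_bIdem_mul_self hM hP hb ((bIdem_central X b).2.mono hPX)) h0
  exact ⟨e, ⟨hP, he⟩, h⟩

/-- Pairs of a block are pairs of the block it induces. -/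
theorem isBrauerPairOf_of_induced [Fact p.Prime] (hM : IsPModular p M) {H R : Subgroup G}
    {b : Set (IrrCharacter H)} {B : Set (IrrCharacter G)} (hind : IsInducedBlock M H b B)
    {e : Set (IrrCharacter (Subgroup.centralizer (R : Set G)))} (hRe : IsBrauerPair p M R e)
    (hRH : R ≤ H) (hCH : Subgroup.centralizer (R : Set G) ≤ H)
    (hle : br R (bIdem M H b) * cb M R e = cb M R e) : IsBrauerPairOf p M B R e := by
  have := res_charP hM
  have := Fintype.ofFinite G
  have hB : IsPBlock M B := hind.2.1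
  refine (isBrauerPairOf_iff hM).2 ⟨hRe, hB, ?_⟩
  let f : G → ℂ := fun g => if g ∈ H then blockCoeff B g else 0
  let t : MonoidAlgebra (Res M) G := red M f
  have htc : ∀ u ∈ H, ∀ g, f (u * g * u⁻¹) = f g := fun u hu g => by
    simp only [f, Subgroup.mem_normalizer_iff.1 (Subgroup.le_normalizer hu) g |>.symm,
      Blocks.isClassFunction_blockCoeff B g u]
  have ht : IsCentralIn H t := by
    refine ⟨fun g hg => ?_, fun u hu => ?_⟩
    · simp only [t, coeff_red, f, if_neg hg, res_zero hM]
    · ext g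
      simp only [t, coeff_cj, coeff_red]
      congr 1
      simpa using htc u⁻¹ (inv_mem hu) g
  obtain ⟨ξ, hξ⟩ := isPBlock_nonempty hM hind.1
  obtain ⟨χ, hχ⟩ := isPBlock_nonempty hM hB
  have hlam : lam M H ξ t = 1 := by
    have hc : IsClassFunction H (fun k : H => blockCoeff B (k : G)) :=
      fun x u => Blocks.isClassFunction_blockCoeff B (x : G) (u : G)
    have hR : ∀ k : H, MemLocalRing M (blockCoeff B (k : G)) :=
      fun k => Blocks.memR_blockCoeff hM hB _
    rw [lam, show t = red M f from rfl, pull_red]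
    simp only [f, SetLike.coe_mem, if_true]
    rw [lamG_red hM hc hR, res_eq_one_iff hM (Blocks.memR_omega hM hc hR ξ)]
    have h := SecondMain.omega_restrict_congr hM hind hξ hχ
      (Blocks.isClassFunction_blockCoeff B) (Blocks.memR_blockCoeff hM hB)
    rwa [blockCoeff_eq_ofOmega, omega_ofOmega, blockInd_of_mem hχ, ← blockCoeff_eq_ofOmega] at h
  obtain ⟨w, hw, htw⟩ := exists_inverse hM ht hind.1 hξ (by
    rw [hlam]
    have := res_nontrivial hM
    exact one_ne_zero)
  have hbrt : br R t = br R (blk M B) := by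
    ext x
    simp only [coeff_br, t, blk, coeff_red, f]
    split_ifs with h1 h2
    · rfl
    · exact absurd (hCH h1) h2
    · rfl
  have h3 : br R (blk M B) * (br R w * cb M R e) = cb M R e := by
    rw [← mul_assoc, ← hbrt, ← br_mul (p := p) hRe.1 (ht.2.mono hRH) (hw.2.mono hRH), htw, hle]
  rcases cb_mul_eq_zero_or hM (br_blk_central hM R B) (br_blk_mul_self hM hRe.1 hB) hRe.2 with h | h
  · exact h
  · exfalso
    have hcomm : br R w * cb M R e = cb M R e * br R w :=
      ((bIdem_central _ e).2.commute (suppIn_br R w)).symm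
    rw [hcomm, ← mul_assoc, h, zero_mul] at h3
    exact bIdem_ne_zero hM hRe.2 h3.symm

/-! ### Cores -/

variable {σ : Set ℕ}

/-- The `σ`-core of the centralizer of `Q`. -/
abbrev coreC (σ : Set ℕ) (Q : Subgroup G) : Subgroup G :=
  piCoreOf σ (Subgroup.centralizer (Q : Set G))

/-- The `σ`-core of the centralizer lies in the kernel of the block of the pair. -/
def GoodPair (σ : Set ℕ) (Q : Subgroup G)
    (e : Set (IrrCharacter (Subgroup.centralizer (Q : Set G)))) : Prop :=
  InKer (Subgroup.centralizer (Q : Set G)) e (coreC σ Q)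

/-- The core of the centralizer contains all its `σ`-elements. -/
def HallAt (σ : Set ℕ) (Q : Subgroup G) : Prop :=
  ∀ x ∈ Subgroup.centralizer (Q : Set G),
    (∀ q : ℕ, q.Prime → q ∣ orderOf x → q ∈ σ) → x ∈ coreC σ Q

theorem not_dvd_core (hp : p.Prime) (hpσ : p ∉ σ) (X : Subgroup G) :
    ¬ p ∣ Nat.card (piCoreOf σ X) := fun h => hpσ (OddTrans.piCoreOf_pi σ X p hp h)

omit [Finite G] in
theorem inf_core_le_coreC {K P : Subgroup G} (hK : OddTrans.IsPi σ K)
    (hC : Subgroup.centralizer (P : Set G) ≤ Subgroup.normalizer (K : Set G)) :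
    K ⊓ Subgroup.centralizer (P : Set G) ≤ coreC σ P := by
  refine OddTrans.le_piCoreOf inf_le_right ?_ fun q hq hd =>
    hK q hq (hd.trans (Subgroup.card_dvd_of_le inf_le_left))
  intro c hc
  rw [Subgroup.mem_normalizer_iff]
  intro x
  simp only [Subgroup.mem_inf]
  exact and_congr (Subgroup.mem_normalizer_iff.1 (hC hc) x)
    (Subgroup.mem_normalizer_iff.1 (Subgroup.le_normalizer hc) x)

theorem normalizer_le_normalizer_coreC (Q : Subgroup G) :
    Subgroup.normalizer (Q : Set G) ≤ Subgroup.normalizer (coreC σ Q : Set G) := fun _ hx =>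
  OddTrans.mem_normalizer_piCoreOf (mem_normalizer_centralizer hx)

omit [Finite G] in
theorem InKer.mono {X : Subgroup G} {b : Set (IrrCharacter X)} {K L : Subgroup G}
    (h : InKer X b K) (hLK : L ≤ K) : InKer X b L := fun ξ hξ x hx => h ξ hξ x (hLK hx)

variable [Fact p.Prime]

theorem normal_step (hM : IsPModular p M) (hpσ : p ∉ σ) {Q P : Subgroup G}
    {f : Set (IrrCharacter (Subgroup.centralizer (Q : Set G)))}
    {e : Set (IrrCharacter (Subgroup.centralizer (P : Set G)))}
    (h : IsNormalSubpair p M Q f P e) :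
    GoodPair σ Q f ↔
      InKer (Subgroup.centralizer (P : Set G)) e
        (coreC σ Q ⊓ Subgroup.centralizer (P : Set G)) := by
  obtain ⟨hQf, hPe, hQP, hPN, hfix, hle⟩ := (isNormalSubpair_iff hM).1 h
  exact inKer_iff_pair hM hQf.2 hPe hfix (Subgroup.centralizer_le hQP) hle
    (OddTrans.piCoreOf_le _ _) (OddTrans.le_normalizer_piCoreOf _ _)
    (hPN.trans (normalizer_le_normalizer_coreC Q)) (not_dvd_core hM.1 hpσ _)

theorem goodPair_down (hM : IsPModular p M) (hpσ : p ∉ σ) {Q P : Subgroup G}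
    {f : Set (IrrCharacter (Subgroup.centralizer (Q : Set G)))}
    {e : Set (IrrCharacter (Subgroup.centralizer (P : Set G)))}
    (h : SubpairLE p M Q f P e) (hg : GoodPair σ P e) : GoodPair σ Q f := by
  have key : ∀ a b : BrauerPairIdx G, Relation.ReflTransGen (NormalSubpairRel p M) a b →
      GoodPair σ b.1 b.2 → GoodPair σ a.1 a.2 := by
    intro a b hab
    induction hab using Relation.ReflTransGen.head_induction_on with
    | refl => exact id
    | @head a c hst _ ih =>
      intro hb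
      refine (normal_step hM hpσ hst).2 ((ih hb).mono ?_)
      exact inf_core_le_coreC (OddTrans.piCoreOf_pi _ _)
        ((Subgroup.centralizer_le hst.2.2.1).trans (OddTrans.le_normalizer_piCoreOf _ _))
  exact key _ _ h hg

theorem goodPair_up (hM : IsPModular p M) (hpσ : p ∉ σ) {Q P : Subgroup G}
    {f : Set (IrrCharacter (Subgroup.centralizer (Q : Set G)))}
    {e : Set (IrrCharacter (Subgroup.centralizer (P : Set G)))}
    (h : SubpairLE p M Q f P e) (hH : HallAt σ Q) (hg : GoodPair σ Q f) :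
    HallAt σ P ∧ GoodPair σ P e := by
  have key : ∀ a b : BrauerPairIdx G, Relation.ReflTransGen (NormalSubpairRel p M) a b →
      HallAt σ a.1 ∧ GoodPair σ a.1 a.2 → HallAt σ b.1 ∧ GoodPair σ b.1 b.2 := by
    intro a b hab
    induction hab with
    | refl => exact id
    | @tail c d _ hst ih =>
      intro ha
      obtain ⟨hH, hg⟩ := ih ha
      have hCC : Subgroup.centralizer (d.1 : Set G) ≤ Subgroup.centralizer (c.1 : Set G) :=
        Subgroup.centralizer_le hst.2.2.1
      have hle : coreC σ c.1 ⊓ Subgroup.centralizer (d.1 : Set G) ≤ coreC σ d.1 :=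
        inf_core_le_coreC (OddTrans.piCoreOf_pi _ _)
          (hCC.trans (OddTrans.le_normalizer_piCoreOf _ _))
      refine ⟨fun x hx hxσ => hle ⟨hH x (hCC hx) hxσ, hx⟩, ?_⟩
      refine ((normal_step hM hpσ hst).1 hg).mono fun x hx => ?_
      have hxC := OddTrans.piCoreOf_le _ _ hx
      exact ⟨hH x (hCC hxC) fun q hq hd => OddTrans.piCoreOf_pi σ _ q hq
        (hd.trans (Subgroup.orderOf_dvd_natCard _ hx)), hxC⟩
  exact key _ _ h ⟨hH, hg⟩

theorem goodPair_of_conj {Q : Subgroup G} (x : G)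
    {f : Set (IrrCharacter (Subgroup.centralizer (Q : Set G)))}
    (h : GoodPair σ (conjSub x Q) (conjBlock Q x f)) : GoodPair σ Q f := by
  intro ξ hξ c hc
  let E := conjEquiv _ _ x (mem_centralizer_map_conj Q x)
  let ξ' := pullIrr E.symm ξ
  have hξ' : ξ' ∈ conjBlock Q x f := by
    rw [conjBlock_eq_conjImg]
    exact ⟨ξ, hξ, rfl⟩
  have hle : conjSub x (coreC σ Q) ≤ coreC σ (conjSub x Q) := by
    refine OddTrans.le_piCoreOf ?_ ?_ fun q hq hd =>
      OddTrans.piCoreOf_pi σ (Subgroup.centralizer (Q : Set G)) q hq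
        (by rwa [card_conjSub] at hd)
    · intro y hy
      rw [mem_conjSub] at hy
      have := (mem_centralizer_map_conj Q x _).1 (OddTrans.piCoreOf_le _ _ hy)
      simpa [mul_assoc] using this
    · intro m hm
      rw [Subgroup.mem_normalizer_iff]
      intro y
      simp only [mem_conjSub]
      have hm' : x⁻¹ * m * x ∈ Subgroup.centralizer (Q : Set G) :=
        (mem_centralizer_map_conj Q x _).2 (by simpa [mul_assoc] using hm)
      rw [Subgroup.mem_normalizer_iff.1
        (OddTrans.le_normalizer_piCoreOf σ (Subgroup.centralizer (Q : Set G)) hm') (x⁻¹ * y * x),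
        show x⁻¹ * m * x * (x⁻¹ * y * x) * (x⁻¹ * m * x)⁻¹ = x⁻¹ * (m * y * m⁻¹) * x by group]
  have h1 := h ξ' hξ' (E c) (hle (by
    rw [mem_conjSub, coe_conjEquiv]
    simpa [mul_assoc] using hc))
  simp only [ξ'] at h1
  rwa [pullIrr_apply, pullIrr_apply, MulEquiv.symm_apply_apply, map_one] at h1

/-! ### The correspondent -/

variable {B : Set (IrrCharacter G)} {D : Subgroup G}
  {B₁ : Set (IrrCharacter ↥(Subgroup.normalizer (D : Set G)))}

omit [Finite G] [Fact p.Prime] in
theorem defect_isPGroup (hBD : IsDefectGroup p M B D) : IsPGroup p D := by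
  obtain ⟨g, -, P, rfl⟩ := hBD
  exact P.2.map _

/-- A pair of the correspondent at the defect group is a maximal pair of `B`. -/
theorem exists_top_pair (hM : IsPModular p M) (hBD : IsDefectGroup p M B D)
    (hB₁ : IsInducedBlock M (Subgroup.normalizer (D : Set G)) B₁ B)
    (hB₁D : IsDefectGroup p M B₁ (D.subgroupOf (Subgroup.normalizer (D : Set G)))) :
    ∃ e, IsMaximalBrauerPair p M B D e ∧
      br D (bIdem M (Subgroup.normalizer (D : Set G)) B₁) * cb M D e = cb M D e := by
  have hDN : D ≤ Subgroup.normalizer (D : Set G) := Subgroup.le_normalizer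
  have hCN : Subgroup.centralizer (D : Set G) ≤ Subgroup.normalizer (D : Set G) :=
    centralizer_le_normalizer hM D
  have hne : br D (bIdem M (Subgroup.normalizer (D : Set G)) B₁) ≠ 0 := by
    have := sub_br_defectGroup_ne_zero hM hB₁D
    rwa [Subgroup.map_subgroupOf_eq_of_le hDN] at this
  obtain ⟨e, hDe, hle⟩ := exists_pair hM hB₁.1 (defect_isPGroup hBD) hDN hCN hne
  have hBe := isBrauerPairOf_of_induced hM hB₁ hDe hDN hCN hle
  obtain ⟨P, g, hmax, hPle⟩ := exists_maximal_ge hM hBe
  obtain ⟨x, hx⟩ := isDefectGroup_conj_eq hM hB₁.2.1 hBD (maximal_isDefectGroup hM hmax)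
  have hPD : D = P := Subgroup.eq_of_le_of_card_ge
    (subgroup_le_of_subpairLE (a := (⟨D, e⟩ : BrauerPairIdx G)) (b := ⟨P, g⟩) hPle)
    (by rw [← hx, card_conjSub])
  subst hPD
  have := subpair_unique hM hmax.1.1 hPle Relation.ReflTransGen.refl
  subst this
  exact ⟨e, hmax, hle⟩

/-- The kernel condition on the correspondent, read at its pair. -/
theorem inKer_correspondent_iff (hM : IsPModular p M) (hpσ : p ∉ σ)
    (hB₁ : IsInducedBlock M (Subgroup.normalizer (D : Set G)) B₁ B)
    {e : Set (IrrCharacter (Subgroup.centralizer (D : Set G)))} (hDe : IsBrauerPair p M D e)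
    (hle : br D (bIdem M (Subgroup.normalizer (D : Set G)) B₁) * cb M D e = cb M D e) :
    (∀ n : ↥(Subgroup.normalizer (D : Set G)),
        n ∈ piCore σ ↥(Subgroup.normalizer (D : Set G)) → n ∈ blockKer B₁) ↔
      GoodPair σ D e := by
  let N := Subgroup.normalizer (D : Set G)
  have hDN : D ≤ N := Subgroup.le_normalizer
  have hCN : Subgroup.centralizer (D : Set G) ≤ N := centralizer_le_normalizer hM D
  have hiff : (∀ n : N, n ∈ piCore σ N → n ∈ blockKer B₁) ↔ InKer N B₁ (piCoreOf σ N) := by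
    constructor
    · intro h ξ hξ n hn
      obtain ⟨m, hm, hmn⟩ := hn
      obtain rfl : m = n := Subtype.ext hmn
      exact h m hm ξ hξ
    · exact fun h n hn ξ hξ => h ξ hξ n ⟨n, hn, rfl⟩
  refine hiff.trans ?_
  rw [inKer_iff_pair hM hB₁.1 hDe ((bIdem_central N B₁).2.mono hDN) hCN hle
    (OddTrans.piCoreOf_le _ _) (OddTrans.le_normalizer_piCoreOf _ _)
    (hDN.trans (OddTrans.le_normalizer_piCoreOf _ _)) (not_dvd_core hM.1 hpσ _)]
  have h1 : piCoreOf σ N ⊓ Subgroup.centralizer (D : Set G) = coreC σ D := by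
    refine le_antisymm (inf_core_le_coreC (OddTrans.piCoreOf_pi _ _)
      (hCN.trans (OddTrans.le_normalizer_piCoreOf _ _))) (le_inf ?_ (OddTrans.piCoreOf_le _ _))
    exact OddTrans.le_piCoreOf ((OddTrans.piCoreOf_le _ _).trans hCN)
      (normalizer_le_normalizer_coreC D) (OddTrans.piCoreOf_pi _ _)
  rw [h1, GoodPair]

theorem goodPair_of_correspondent (hM : IsPModular p M) (hpσ : p ∉ σ)
    (hBD : IsDefectGroup p M B D)
    (hB₁ : IsInducedBlock M (Subgroup.normalizer (D : Set G)) B₁ B)
    (hB₁D : IsDefectGroup p M B₁ (D.subgroupOf (Subgroup.normalizer (D : Set G))))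
    (hker : ∀ n : ↥(Subgroup.normalizer (D : Set G)),
        n ∈ piCore σ ↥(Subgroup.normalizer (D : Set G)) → n ∈ blockKer B₁)
    {Q : Subgroup G} {f : Set (IrrCharacter (Subgroup.centralizer (Q : Set G)))}
    (hQf : IsBrauerPairOf p M B Q f) : GoodPair σ Q f := by
  obtain ⟨e, hmax, hle⟩ := exists_top_pair hM hBD hB₁ hB₁D
  have htop := (inKer_correspondent_iff hM hpσ hB₁ hmax.1.1 hle).1 hker
  obtain ⟨x, hx⟩ := exists_conj_le_maximal hM hmax hQf
  exact goodPair_of_conj x (goodPair_down hM hpσ hx htop)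

/-- The kernel condition descends to the local blocks inducing `B`. -/
theorem core_le_blockKer_local (hM : IsPModular p M) (hpσ : p ∉ σ)
    (hBD : IsDefectGroup p M B D)
    (hB₁ : IsInducedBlock M (Subgroup.normalizer (D : Set G)) B₁ B)
    (hB₁D : IsDefectGroup p M B₁ (D.subgroupOf (Subgroup.normalizer (D : Set G))))
    (hker : ∀ n : ↥(Subgroup.normalizer (D : Set G)),
        n ∈ piCore σ ↥(Subgroup.normalizer (D : Set G)) → n ∈ blockKer B₁)
    {G₀ : Subgroup G} {B₀ : Set (IrrCharacter G₀)} (hB₀ : IsInducedBlock M G₀ B₀ B)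
    {D₀ : Subgroup G₀} (hD₀ : IsDefectGroup p M B₀ D₀)
    (hC : Subgroup.centralizer ((D₀.map G₀.subtype : Subgroup G) : Set G) ≤ G₀) :
    InKer G₀ B₀ (piCoreOf σ G₀) := by
  have hP : IsPGroup p (D₀.map G₀.subtype : Subgroup G) := (defect_isPGroup hD₀).map _
  have hle : D₀.map G₀.subtype ≤ G₀ := Subgroup.map_subtype_le _
  obtain ⟨e, hPe, hbr⟩ := exists_pair hM hB₀.1 hP hle hC (sub_br_defectGroup_ne_zero hM hD₀)
  have hgood := goodPair_of_correspondent hM hpσ hBD hB₁ hB₁D hker
    (isBrauerPairOf_of_induced hM hB₀ hPe hle hC hbr)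
  rw [inKer_iff_pair hM hB₀.1 hPe ((bIdem_central G₀ B₀).2.mono hle) hC hbr
    (OddTrans.piCoreOf_le _ _) (OddTrans.le_normalizer_piCoreOf _ _)
    (hle.trans (OddTrans.le_normalizer_piCoreOf _ _)) (not_dvd_core hM.1 hpσ _)]
  exact hgood.mono (inf_core_le_coreC (OddTrans.piCoreOf_pi _ _)
    (hC.trans (OddTrans.le_normalizer_piCoreOf _ _)))

/-- A local kernel condition with a normal Hall core forces the one on the correspondent. -/
theorem core_le_blockKer_correspondent (hM : IsPModular p M) (hpσ : p ∉ σ)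
    (hBD : IsDefectGroup p M B D)
    (hB₁ : IsInducedBlock M (Subgroup.normalizer (D : Set G)) B₁ B)
    (hB₁D : IsDefectGroup p M B₁ (D.subgroupOf (Subgroup.normalizer (D : Set G))))
    {D₀ H₀ : Subgroup G} (hD₀ : IsPGroup p D₀)
    (hH₀ : H₀ = D₀ ⊔ Subgroup.centralizer (D₀ : Set G)) {b : Set (IrrCharacter H₀)}
    (hb : IsInducedBlock M H₀ b B) (hH : HallAt σ D₀)
    (hker : InKer H₀ b (coreC σ D₀)) :
    ∀ n : ↥(Subgroup.normalizer (D : Set G)),
        n ∈ piCore σ ↥(Subgroup.normalizer (D : Set G)) → n ∈ blockKer B₁ := by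
  have hD₀H : D₀ ≤ H₀ := hH₀ ▸ le_sup_left
  have hCH : Subgroup.centralizer (D₀ : Set G) ≤ H₀ := hH₀ ▸ le_sup_right
  have hHN : H₀ ≤ Subgroup.normalizer (D₀ : Set G) :=
    hH₀ ▸ sup_le Subgroup.le_normalizer (centralizer_le_normalizer hM D₀)
  have hne : br D₀ (bIdem M H₀ b) ≠ 0 := by
    obtain ⟨D', hD'⟩ := exists_isDefectGroup hM hb.1
    have : (D₀.subgroupOf H₀).Normal := Subgroup.normal_subgroupOf_of_le_normalizer hHN
    have hle : D₀ ≤ D'.map H₀.subtype := by
      rw [← Subgroup.map_subgroupOf_eq_of_le hD₀H]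
      exact Subgroup.map_mono (normal_le_defectGroup hM
        (hD₀.of_equiv (Subgroup.subgroupOfEquivOfLe hD₀H).symm) hb.1 hD')
    intro h0
    refine sub_br_defectGroup_ne_zero hM hD' ?_
    rw [← br_br hle, h0, br_zero]
  obtain ⟨e, hPe, hbr⟩ := exists_pair hM hb.1 hD₀ hD₀H hCH hne
  have hgood : GoodPair σ D₀ e := by
    have h := (inKer_iff_pair hM hb.1 hPe ((bIdem_central H₀ b).2.mono hD₀H) hCH hbr
      ((OddTrans.piCoreOf_le _ _).trans hCH) (hHN.trans (normalizer_le_normalizer_coreC D₀))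
      (Subgroup.le_normalizer.trans (normalizer_le_normalizer_coreC D₀))
      (not_dvd_core hM.1 hpσ _)).1 hker
    rwa [inf_eq_left.2 (OddTrans.piCoreOf_le σ (Subgroup.centralizer (D₀ : Set G)))] at h
  obtain ⟨P, g, hP, hle⟩ := exists_maximal_ge hM (isBrauerPairOf_of_induced hM hb hPe hD₀H hCH hbr)
  obtain ⟨-, hgP⟩ := goodPair_up hM hpσ hle hH hgood
  obtain ⟨e1, hmax, hle1⟩ := exists_top_pair hM hBD hB₁ hB₁D
  obtain ⟨x, hx⟩ := exists_conj_le_maximal hM hP hmax.1
  exact (inKer_correspondent_iff hM hpσ hB₁ hmax.1.1 hle1).2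
    (goodPair_of_conj x (goodPair_down hM hpσ hx hgP))

end Cfsg.Agent.KernelPairs
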