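import Cfsg.Agent.Lib.Blocks.KleinDefect
import Cfsg.Agent.Lib.Blocks.LocalBlocks
import Cfsg.Agent.Lib.SecondMain.Support

/-!
# Perfect isometries between blocks with Klein four defect groups

* `Signed`: four characters with signs and the scalar products on the regular elements;
* `exists_signed`: a 2-block of defect two and rank one or three is signed;
* `exists_local`: the column of a local block is given by signs adding up to zero modulo four;
* `isPerfectFun_kernel`: signed blocks of equal rank give a perfect kernel;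
* `main`: a block with Klein four defect group and its correspondent are perfectly isometric.
-/

set_option autoImplicit false

open scoped ComplexConjugate

namespace Cfsg.Agent.KleinIsometry

open Cfsg Cfsg.Agent.Blocks Cfsg.Agent.BrauerPairs

/-- The diagonal coefficient of the scalar products on the regular elements. -/
noncomputable def regA (l : ℕ) : ℂ := if l = 1 then 0 else 1

/-- The coefficient of the products of signs. -/
noncomputable def regB (l : ℕ) : ℂ := if l = 1 then 4⁻¹ else -4⁻¹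

variable {G : Type*} [Group G] [Fintype G] {M : Ideal AlgInt}

/-- The members of a block with their signs. -/
structure Signed (B : Set (IrrCharacter G)) (l : ℕ) where
  e : Fin 4 ≃ B
  ε : Fin 4 → ℤ
  sq : ∀ i, ε i * ε i = 1
  reg : ∀ i j, SecondMain.regInner 2 ((e i : IrrCharacter G) : G → ℂ)
    ((e j : IrrCharacter G) : G → ℂ) = regA l * (if i = j then 1 else 0) + regB l * ((ε i * ε j : ℤ) : ℂ)

theorem exists_signed (hM : IsPModular 2 M) {B : Set (IrrCharacter G)} (hB : IsPBlock M B)
    (hd : blockDefect 2 B = 2) {l : ℕ} (hl : blockRank 2 B = l) (h13 : l = 1 ∨ l = 3) :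
    Nonempty (Signed B l) := by
  classical
  have := Fintype.ofFinite B
  have := Fintype.ofFinite (IrrCharacter G)
  obtain ⟨c, hc, hsym, hsq, hpar⟩ := RegPart.exists_contribution hM hB
  obtain ⟨χ₀, hχ₀, h0⟩ := SecondMain.exists_height_zero hM hB (p := 2)
  have hall : ∀ χ : B, blockHeight 2 B ((χ : IrrCharacter G) : G → ℂ) = 0 :=
    (KleinDefect.row_of_height_zero hd hsq hpar (χ := ⟨χ₀, hχ₀⟩) h0).2.2.2
  have hrows := fun χ => KleinDefect.row_of_height_zero hd hsq hpar (hall χ)
  have hk : Nat.card B = 4 := (hrows ⟨χ₀, hχ₀⟩).2.2.1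
  let e : Fin 4 ≃ B := (Finite.equivFinOfCardEq hk).symm
  have hreg : ∀ χ ψ : B, SecondMain.regInner 2 ((χ : IrrCharacter G) : G → ℂ)
      ((ψ : IrrCharacter G) : G → ℂ) = (c χ ψ : ℂ) / 4 := by
    intro χ ψ
    rw [← hc χ ψ, hd]
    push_cast
    rw [SecondMain.regInner]
    ring
  set m : Fin 4 → Fin 4 → ℤ := fun i j => c (e i) (e j) with hm
  -- trace
  have htr : ∑ i, m i i = 4 * (l : ℤ) := by
    have h1 := BrauerPairs.card_mul_blockRank hM hB (p := 2)
    rw [hl, finsum_mem_eq_toFinset_sum, Finset.sum_subtype B.toFinset (p := (· ∈ B))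
      (fun x => Set.mem_toFinset) (fun χ => classInner (pRegularPart 2 (χ : G → ℂ)) (χ : G → ℂ)),
      ← Equiv.sum_comp e] at h1
    have h2 : ((∑ i, m i i : ℤ) : ℂ) = ((4 * (l : ℤ) : ℤ) : ℂ) := by
      push_cast
      rw [h1, Finset.mul_sum]
      refine Finset.sum_congr rfl fun i _ => ?_
      rw [show classInner (pRegularPart 2 ((e i : IrrCharacter G) : G → ℂ))
        ((e i : IrrCharacter G) : G → ℂ) = (c (e i) (e i) : ℂ) / 4 from hreg (e i) (e i)]
      simp only [hm]
      ring
    exact_mod_cast h2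
  -- idempotent
  have hidem : ∀ i j, ∑ k, m i k * m k j = 4 * m i j := by
    intro i j
    have h1 := SecondMain.regInner_idem hM hB (e i).2 ((e j : IrrCharacter G) : G → ℂ)
    rw [finsum_mem_eq_toFinset_sum, Finset.sum_subtype B.toFinset (p := (· ∈ B))
      (fun x => Set.mem_toFinset) (fun φ => SecondMain.regInner 2 ((e i : IrrCharacter G) : G → ℂ)
        (φ : G → ℂ) * SecondMain.regInner 2 (φ : G → ℂ) ((e j : IrrCharacter G) : G → ℂ)),
      ← Equiv.sum_comp e] at h1
    simp only [hreg] at h1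
    have h2 : ((∑ k, m i k * m k j : ℤ) : ℂ) = ((4 * m i j : ℤ) : ℂ) := by
      push_cast
      simp only [hm]
      calc _ = 16 * ∑ k, (c (e i) (e k) : ℂ) / 4 * ((c (e k) (e j) : ℂ) / 4) := by
            rw [Finset.mul_sum]
            exact Finset.sum_congr rfl fun k _ => by ring
        _ = _ := by rw [h1]; ring
    exact_mod_cast h2
  have hdiag : ∀ i, m i i = 1 ∨ m i i = 3 := fun i => (hrows (e i)).1
  have hoff : ∀ i j, i ≠ j → m i j = 1 ∨ m i j = -1 := fun i j h =>
    (hrows (e i)).2.1 (e j) fun he => h (e.injective he).symm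
  have hmsym : ∀ i j, m i j = m j i := fun i j => hsym _ _
  rw [Fin.sum_univ_four] at htr
  have hdl : ∀ i, m i i = (l : ℤ) := by
    intro i
    have a0 := hdiag 0; have a1 := hdiag 1; have a2 := hdiag 2; have a3 := hdiag 3
    match i with
    | 0 => omega
    | 1 => omega
    | 2 => omega
    | 3 => omega
  -- the matrix of sign products
  let D : Fin 4 → Fin 4 → ℤ := fun i j =>
    if l = 1 then m i j else 4 * (if i = j then 1 else 0) - m i j
  have hD1 : ∀ i, D i i = 1 := by
    intro i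
    simp only [D, hdl i]
    rcases h13 with h | h <;> simp [h]
  have hDoff : ∀ i j, i ≠ j → D i j = 1 ∨ D i j = -1 := by
    intro i j h
    simp only [D, if_neg h]
    rcases hoff i j h with h' | h' <;> rw [h'] <;> split_ifs <;> simp
  have hDsym : ∀ i j, D i j = D j i := fun i j => by simp only [D, hmsym i j, eq_comm]
  have hDD : ∀ i j, ∑ k, D i k * D k j = 4 * D i j := by
    intro i j
    simp only [D]
    rcases h13 with hl1 | hl1
    · simp only [if_pos hl1]; exact hidem i j
    · simp only [if_neg (show ¬ l = 1 by omega), mul_sub, sub_mul, Finset.sum_sub_distrib]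
      rw [hidem]
      simp only [mul_ite, ite_mul, mul_zero, zero_mul, mul_one, Finset.sum_ite_eq,
        Finset.sum_ite_eq', Finset.mem_univ, if_true]
      split_ifs <;> ring
  let ε : Fin 4 → ℤ := fun i => D 0 i
  have hpm' : ∀ i j, D i j = 1 ∨ D i j = -1 := fun i j => by
    by_cases h : i = j
    · exact Or.inl (h ▸ hD1 i)
    · exact hDoff i j h
  have hpm : ∀ i, ε i = 1 ∨ ε i = -1 := hpm' 0
  have hprod : ∀ i j, D i j = ε i * ε j := by
    intro i j
    have hle : ∀ k ∈ Finset.univ, D i k * D k j * D i j ≤ 1 := fun k _ => by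
      rcases hpm' i k with a | a <;> rcases hpm' k j with b | b <;> rcases hpm' i j with c | c <;>
        rw [a, b, c] <;> norm_num
    have hsum : ∑ k, D i k * D k j * D i j = ∑ _k : Fin 4, (1 : ℤ) := by
      rw [← Finset.sum_mul, hDD]
      rcases hpm' i j with c | c <;> rw [c] <;> norm_num
    have h1 := (Finset.sum_eq_sum_iff_of_le hle).mp hsum 0 (Finset.mem_univ 0)
    simp only [ε]
    rw [hDsym 0 i]
    rcases hpm' i 0 with a | a <;> rcases hpm' 0 j with b | b <;> rcases hpm' i j with c | c <;>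
      simp only [a, b, c] at h1 ⊢ <;> omega
  refine ⟨⟨e, ε, fun i => by rcases hpm i with h | h <;> rw [h] <;> norm_num, fun i j => ?_⟩⟩
  rw [hreg, ← hprod]
  simp only [regA, regB, D]
  rcases h13 with h | h <;> subst h
  · simp only [if_true]
    simp only [hm]
    push_cast
    ring
  · simp only [show ¬ (3 : ℕ) = 1 by decide, if_false]
    by_cases hij : i = j
    · simp only [if_pos hij, hm]; push_cast; ring
    · simp only [if_neg hij, hm]; push_cast; ring

/-! ### Divisibility -/

/-- A local combination of irreducible characters vanishing on the singular elements is divisible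
by the orders of centralisers at the regular elements. -/
theorem div_centralizer_of_regular (hM : IsPModular 2 M) {ι : Type*} (s : Finset ι)
    (χ : ι → IrrCharacter G) (a : ι → ℂ) (ha : ∀ i ∈ s, MemLocalRing M (a i))
    (h0 : ∀ g, 2 ∣ orderOf g → ∑ i ∈ s, a i * (χ i : G → ℂ) g = 0) {x : G}
    (hx : ¬ 2 ∣ orderOf x) :
    MemLocalRing M ((∑ i ∈ s, a i * (χ i : G → ℂ) x) /
      (Nat.card (Subgroup.centralizer ({x} : Set G)) : ℂ)) := by
  classical
  have : Fact (Nat.Prime 2) := ⟨Nat.prime_two⟩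
  obtain ⟨S⟩ : Nonempty (Sylow 2 (Subgroup.centralizer ({x} : Set G))) := inferInstance
  set C := Subgroup.centralizer ({x} : Set G)
  set Q := (S : Subgroup C).map C.subtype with hQ
  have := Fintype.ofFinite Q
  have hxQ : x ∈ Subgroup.centralizer (Q : Set G) := by
    rw [Subgroup.mem_centralizer_iff]
    rintro q ⟨q', -, rfl⟩
    exact Subgroup.mem_centralizer_singleton_iff.mp q'.2
  have hQp : IsPGroup 2 Q := S.2.map _
  have hsing : ∀ q : Q, q ≠ 1 → 2 ∣ orderOf (x * (q : G)) := by
    intro q hq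
    obtain ⟨k, hk⟩ := IsPGroup.iff_orderOf.mp hQp q
    rw [← Subgroup.orderOf_coe] at hk
    have hcomm : Commute x (q : G) := (Subgroup.mem_centralizer_iff.mp hxQ q q.2).symm
    rw [hcomm.orderOf_mul_eq_mul_orderOf_of_coprime]
    · rw [hk]
      refine dvd_mul_of_dvd_right (dvd_pow_self 2 fun h => hq ?_) _
      rw [h, pow_zero, orderOf_eq_one_iff] at hk
      exact Subtype.ext hk
    · rw [hk]
      exact ((Nat.prime_two.coprime_iff_not_dvd.mpr hx).pow_left k).symm
  have hsum : ∑ i ∈ s, a i * (χ i : G → ℂ) x =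
      ∑ i ∈ s, a i * ∑ q : Q, (χ i : G → ℂ) (x * (q : G)) := by
    simp only [Finset.mul_sum]
    rw [Finset.sum_comm, Finset.sum_eq_single_of_mem (s := Finset.univ) (1 : Q) (Finset.mem_univ _)]
    · simp
    · exact fun q _ hq => h0 _ (hsing q hq)
  have hR : MemLocalRing M ((∑ i ∈ s, a i * (χ i : G → ℂ) x) / (Nat.card Q : ℂ)) := by
    rw [hsum, Finset.sum_div]
    refine memR_sum hM _ fun i hi => ?_
    rw [mul_div_assoc, div_eq_inv_mul]
    exact memR_mul hM (ha i hi) (memR_of_isIntegral hM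
      (isIntegral_avg (Char.IsIrrCharacter.isCharacter (χ i).2) Q hxQ))
  have hcard : Nat.card C = Nat.card Q * (S : Subgroup C).index := by
    rw [hQ, Subgroup.card_map_of_injective C.subtype_injective, Subgroup.card_mul_index]
  rw [hcard, Nat.cast_mul, ← div_div, div_eq_mul_inv]
  exact memR_mul hM hR (memR_natCast_inv hM S.not_dvd_index)

namespace Signed

variable {B : Set (IrrCharacter G)} {l : ℕ} (S : Signed B l)

/-- The `i`-th character. -/
noncomputable abbrev chr (i : Fin 4) : G → ℂ := ((S.e i : IrrCharacter G) : G → ℂ)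

theorem sq_cast (i : Fin 4) : (S.ε i : ℂ) * (S.ε i : ℂ) = 1 := by
  exact_mod_cast S.sq i

theorem expansion (hM : IsPModular 2 M) (hB : IsPBlock M B) (i : Fin 4) (g : G) :
    pRegularPart 2 (S.chr i) g = ∑ j, SecondMain.regInner 2 (S.chr i) (S.chr j) * S.chr j g := by
  classical
  have := Fintype.ofFinite (IrrCharacter G)
  have h := congrFun (BrauerPairs.pRegularPart_eq_sum hM hB (S.e i).2) g
  rw [Finset.sum_apply, Finset.sum_subtype _ (p := (· ∈ B)) (fun x => Set.mem_toFinset),
    ← Equiv.sum_comp S.e] at h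
  exact h

/-- The transport of the scalar products between two signed blocks of the same rank. -/
theorem reg_transfer {H : Type*} [Group H] [Fintype H] {c : Set (IrrCharacter H)}
    (R : Signed c l) (i j : Fin 4) :
    SecondMain.regInner 2 (S.chr i) (S.chr j) * ((S.ε i : ℂ) * (R.ε i : ℂ)) =
      SecondMain.regInner 2 (R.chr i) (R.chr j) * ((S.ε j : ℂ) * (R.ε j : ℂ)) := by
  simp only [chr, S.reg, R.reg]
  push_cast
  by_cases h : i = j
  · subst h
    have h1 := S.sq_cast i
    have h2 := R.sq_cast i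
    simp only [if_true]
    linear_combination regB l * (S.ε i : ℂ) * (R.ε i : ℂ) * h1 -
      regB l * (S.ε i : ℂ) * (R.ε i : ℂ) * h2
  · have h1 := S.sq_cast i
    have h2 := R.sq_cast j
    simp only [if_neg h]
    linear_combination regB l * (S.ε j : ℂ) * (R.ε i : ℂ) * h1 -
      regB l * (S.ε j : ℂ) * (R.ε i : ℂ) * h2

end Signed

variable {H : Type*} [Group H] [Fintype H] {B : Set (IrrCharacter G)} {c : Set (IrrCharacter H)}
  {l : ℕ}

/-- The kernel of the bijection with signs. -/
noncomputable def kernel (S : Signed B l) (R : Signed c l) (x : G) (y : H) : ℂ :=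
  ∑ i, ((S.ε i : ℂ) * (R.ε i : ℂ)) * S.chr i x * R.chr i y

theorem kernel_comm (S : Signed B l) (R : Signed c l) (x : G) (y : H) :
    kernel S R x y = kernel R S y x :=
  Finset.sum_congr rfl fun i _ => by ring

theorem kernel_eq_zero (hM : IsPModular 2 M) (hB : IsPBlock M B) (hc : IsPBlock M c)
    (S : Signed B l) (R : Signed c l) {x : G} {y : H} (hx : ¬ 2 ∣ orderOf x)
    (hy : 2 ∣ orderOf y) : kernel S R x y = 0 := by
  have h1 : ∀ i, S.chr i x = ∑ j, SecondMain.regInner 2 (S.chr i) (S.chr j) * S.chr j x := fun i => by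
    rw [← S.expansion hM hB, SecondMain.pRegularPart_of_regular hx]
  have hswap : ∀ i j, SecondMain.regInner 2 (R.chr i) (R.chr j) =
      SecondMain.regInner 2 (R.chr j) (R.chr i) := fun i j => by
    simp only [Signed.chr, R.reg, eq_comm (a := i), mul_comm (R.ε i)]
  calc kernel S R x y = ∑ i, ∑ j, (SecondMain.regInner 2 (S.chr i) (S.chr j) *
        ((S.ε i : ℂ) * (R.ε i : ℂ))) * (S.chr j x * R.chr i y) := by
        refine Finset.sum_congr rfl fun i _ => ?_
        rw [h1 i, Finset.mul_sum, Finset.sum_mul]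
        exact Finset.sum_congr rfl fun j _ => by ring
    _ = ∑ i, ∑ j, (SecondMain.regInner 2 (R.chr j) (R.chr i) *
        ((S.ε j : ℂ) * (R.ε j : ℂ))) * (S.chr j x * R.chr i y) := by
        refine Finset.sum_congr rfl fun i _ => Finset.sum_congr rfl fun j _ => ?_
        rw [S.reg_transfer R, hswap i j]
    _ = ∑ j, ((S.ε j : ℂ) * (R.ε j : ℂ)) * S.chr j x * pRegularPart 2 (R.chr j) y := by
        rw [Finset.sum_comm]
        refine Finset.sum_congr rfl fun j _ => ?_
        rw [R.expansion hM hc, Finset.mul_sum]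
        exact Finset.sum_congr rfl fun i _ => by ring
    _ = 0 := by simp [SecondMain.pRegularPart_of_singular hy]

/-! ### The local columns -/

theorem exists_local (hM : IsPModular 2 M) (hB : IsPBlock M B) (S : Signed B l)
    (hd : blockDefect 2 B = 2) {u : G} (hu : orderOf u = 2)
    {K : Subgroup G} [Fintype K] (hK : ∀ g, g ∈ K ↔ Commute u g) {b : Set (IrrCharacter K)}
    (hb : IsInducedBlock M K b B) (hbl : blockRank 2 b = 1) (hbd : blockDefect 2 b = 2) :
    ∃ (d : Fin 4 → ℤ) (φ : K → ℂ), (∀ i, d i = 1 ∨ d i = -1) ∧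
      (4 : ℤ) ∣ ∑ i, S.ε i * d i ∧ (∀ s, MemLocalRing M (φ s)) ∧
      (∀ s : K, ¬ 2 ∣ orderOf s →
        MemLocalRing M (4 * φ s / (Nat.card (Subgroup.centralizer ({s} : Set K)) : ℂ))) ∧
      ∀ i (s : K), ¬ 2 ∣ orderOf s →
        blockPart b (fun g : K => S.chr i (u * (g : G))) s = (d i : ℂ) * φ s := by
  classical
  have := Fintype.ofFinite (IrrCharacter K)
  have := Fintype.ofFinite (IrrCharacter G)
  have hu' : ∃ k, orderOf u = 2 ^ k := ⟨1, by rw [hu, pow_one]⟩
  obtain ⟨R⟩ := exists_signed hM hb.1 hbd hbl (Or.inl rfl)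
  let z : K := ⟨u, (hK u).mpr (Commute.refl u)⟩
  have hz2 : orderOf z = 2 := by rw [← Subgroup.orderOf_coe]; exact hu
  have hzc : z ∈ Subgroup.center K := Subgroup.mem_center_iff.mpr fun g =>
    Subtype.ext ((hK g).mp g.2).eq.symm
  -- proportional on the regular elements
  let φ : K → ℂ := fun s => (R.ε 0 : ℂ) * R.chr 0 s
  have hφ : ∀ j (s : K), ¬ 2 ∣ orderOf s → R.chr j s = (R.ε j : ℂ) * φ s := by
    intro j s hs
    have e1 : ∀ j, R.chr j s = (R.ε j : ℂ) * (4⁻¹ * ∑ m, (R.ε m : ℂ) * R.chr m s) := by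
      intro j
      conv_lhs => rw [← SecondMain.pRegularPart_of_regular (f := R.chr j) hs, R.expansion hM hb.1]
      simp only [Signed.chr, R.reg, regA, regB, if_true, zero_mul, zero_add, Finset.mul_sum]
      push_cast
      exact Finset.sum_congr rfl fun m _ => by ring
    show _ = (R.ε j : ℂ) * ((R.ε 0 : ℂ) * R.chr 0 s)
    rw [e1 0, ← mul_assoc (R.ε 0 : ℂ), R.sq_cast, one_mul, e1 j]
  have hφ1 : φ 1 ≠ 0 := by
    refine mul_ne_zero (Int.cast_ne_zero.mpr fun h => ?_) (irr_one_ne_zero _)
    have := R.sq 0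
    rw [h] at this
    exact absurd this (by norm_num)
  have h1reg : ¬ 2 ∣ orderOf (1 : K) := by simp
  -- the multiplicities
  have hint : ∀ (χ : IrrCharacter G) (η : IrrCharacter K), ∃ n : ℤ,
      classInner (fun g : K => (χ : G → ℂ) (u * (g : G))) (η : K → ℂ) = (n : ℂ) := by
    intro χ η
    obtain ⟨a, ha1, ha⟩ := SecondMain.exists_central_scalar hzc η
    obtain ⟨n, hn⟩ := Char.IsCharacter.classInner_nat
      (Char.IsCharacter.restrict (Char.IsIrrCharacter.isCharacter χ.2) K)
      (Char.IsIrrCharacter.isCharacter η.2)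
    rw [hz2, sq, mul_self_eq_one_iff] at ha1
    have h1 : classInner (fun g : K => (χ : G → ℂ) (u * (g : G))) (η : K → ℂ)
        = a * classInner (fun k : K => (χ : G → ℂ) (k : G)) (η : K → ℂ) := by
      simp only [classInner, Finset.mul_sum]
      refine Fintype.sum_equiv (Equiv.mulLeft z) _ _ fun k => ?_
      rw [Equiv.coe_mulLeft, ha, Subgroup.coe_mul, map_mul]
      rcases ha1 with h | h <;> simp only [h, map_one, map_neg] <;> ring
    rcases ha1 with h | h
    · exact ⟨n, by rw [h1, h, one_mul, Int.cast_natCast]; exact hn⟩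
    · exact ⟨-n, by rw [h1, h, neg_one_mul, Int.cast_neg, Int.cast_natCast]; exact congrArg Neg.neg hn⟩
  choose n hn using hint
  let d : Fin 4 → ℤ := fun i => ∑ j, R.ε j * n (S.e i) (R.e j)
  have hval : ∀ i (s : K), ¬ 2 ∣ orderOf s →
      blockPart b (fun g : K => S.chr i (u * (g : G))) s = (d i : ℂ) * φ s := by
    intro i s hs
    have := Fintype.ofFinite b
    rw [SecondMain.blockPart_apply, finsum_mem_eq_toFinset_sum,
      Finset.sum_subtype b.toFinset (p := (· ∈ b)) (fun x => Set.mem_toFinset), ← Equiv.sum_comp R.e]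
    simp only [d, Int.cast_sum, Int.cast_mul, Finset.sum_mul]
    refine Finset.sum_congr rfl fun j _ => ?_
    rw [show ((R.e j : IrrCharacter K) : K → ℂ) s = (R.ε j : ℂ) * φ s from hφ j s hs]
    rw [show classInner (fun g : K => S.chr i (u * (g : G))) ((R.e j : IrrCharacter K) : K → ℂ) =
      (n (S.e i) (R.e j) : ℂ) from hn _ _]
    ring
  -- nonvanishing
  have hht : ∀ i, blockHeight 2 B (S.chr i) = 0 := by
    intro i
    have := Fintype.ofFinite B
    obtain ⟨c, -, -, hsq, hpar⟩ := RegPart.exists_contribution hM hB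
    obtain ⟨χ₀, hχ₀, h0⟩ := SecondMain.exists_height_zero hM hB (p := 2)
    exact (KleinDefect.row_of_height_zero hd hsq hpar (χ := ⟨χ₀, hχ₀⟩) h0).2.2.2 (S.e i)
  have hne : ∀ i, d i ≠ 0 := by
    intro i h
    obtain ⟨y, hy, hy0⟩ := exists_blockPart_shift_ne_zero hM hu' hK hb (S.e i).2 (hht i)
    exact hy0 ((hval i y hy).trans (by rw [h, Int.cast_zero, zero_mul]))
  -- the squares
  set F := Finset.univ.filter fun s : K => ¬ 2 ∣ orderOf s with hF
  have hnorm : ∑ s ∈ F, φ s * conj (φ s) = (Nat.card K : ℂ) / 4 := by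
    have h1 : SecondMain.regInner 2 (R.chr 0) (R.chr 0) = 4⁻¹ := by
      simp only [Signed.chr, R.reg, regA, regB, if_true, R.sq]
      push_cast
      ring
    rw [SecondMain.regInner_eq_sum] at h1
    have h2 : ∑ s ∈ F, φ s * conj (φ s) = ∑ s ∈ F, R.chr 0 s * conj (R.chr 0 s) :=
      Finset.sum_congr rfl fun s _ => by
        simp only [φ, map_mul, map_intCast]
        linear_combination R.chr 0 s * conj (R.chr 0 s) * R.sq_cast 0
    rw [h2, div_eq_mul_inv, ← h1, ← mul_assoc, mul_inv_cancel₀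
      (Nat.cast_ne_zero.mpr Nat.card_pos.ne'), one_mul, hF]
  have hsq : ∑ i, d i * d i = 4 := by
    have := Fintype.ofFinite B
    have h := SecondMain.sum_blockPart_sq hM hu' hK hB hb
    rw [hbl, Nat.cast_one, mul_one, finsum_mem_eq_toFinset_sum,
      Finset.sum_subtype B.toFinset (p := (· ∈ B)) (fun x => Set.mem_toFinset),
      ← Equiv.sum_comp S.e] at h
    have h3 : ((∑ i, d i * d i : ℤ) : ℂ) * ((Nat.card K : ℂ) / 4) = (Nat.card K : ℂ) := by
      rw [Int.cast_sum, Finset.sum_mul]
      refine Eq.trans (Finset.sum_congr rfl fun i _ => ?_) h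
      rw [← hnorm, Finset.mul_sum]
      refine Finset.sum_congr rfl fun s hs => ?_
      have hv : blockPart b (fun g : K => ((S.e i : IrrCharacter G) : G → ℂ) (u * (g : G))) s =
          (d i : ℂ) * φ s := hval i s (Finset.mem_filter.mp hs).2
      rw [hv]
      simp only [map_mul, map_intCast, Int.cast_mul]
      ring
    have h4 : ((∑ i, d i * d i : ℤ) : ℂ) = ((4 : ℤ) : ℂ) := by
      have h0 : (Nat.card K : ℂ) ≠ 0 := Nat.cast_ne_zero.mpr Nat.card_pos.ne'
      push_cast
      push_cast at h3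
      field_simp at h3
      simp only [pow_two] at h3
      exact h3
    exact_mod_cast h4
  have hone : ∀ i, d i = 1 ∨ d i = -1 := by
    intro i
    have hg : ∀ j, 1 ≤ d j * d j := fun j => mul_self_pos.mpr (hne j)
    simp only [Fin.sum_univ_four] at hsq
    have h1 : d i * d i = 1 := by
      have g0 := hg 0; have g1 := hg 1; have g2 := hg 2; have g3 := hg 3
      fin_cases i <;> simp <;> linarith
    exact mul_self_eq_one_iff.mp h1
  -- orthogonality to the regular elements
  have hker : ∀ j, ∑ i, (d i : ℂ) * SecondMain.regInner 2 (S.chr i) (S.chr j) = 0 := by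
    intro j
    have hsym : ∀ i, SecondMain.regInner 2 (S.chr i) (S.chr j) =
        SecondMain.regInner 2 (S.chr j) (S.chr i) := fun i => by
      simp only [Signed.chr, S.reg, eq_comm (a := i), mul_comm (S.ε i)]
    have h0 : blockPart b (∑ i, SecondMain.regInner 2 (S.chr j) (S.chr i) •
        fun g : K => S.chr i (u * (g : G))) 1 = 0 := by
      rw [SecondMain.blockPart_congr_regular hM hb.1 (θ' := 0) (fun m hm => ?_) h1reg,
        SecondMain.blockPart_zero]
      have hs : 2 ∣ orderOf (u * (m : G)) := by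
        rw [((hK m).mp m.2).orderOf_mul_eq_mul_orderOf_of_coprime, hu]
        · exact dvd_mul_right _ _
        · rw [hu, Subgroup.orderOf_coe]
          exact Nat.prime_two.coprime_iff_not_dvd.mpr hm
      rw [Finset.sum_apply, Pi.zero_apply, ← SecondMain.pRegularPart_of_singular (f := S.chr j) hs,
        S.expansion hM hB]
      rfl
    rw [SecondMain.blockPart_sum_smul] at h0
    simp only [hval _ 1 h1reg, ← mul_assoc, ← Finset.sum_mul] at h0
    refine Eq.trans (Finset.sum_congr rfl fun i _ => ?_) ((mul_eq_zero.mp h0).resolve_right hφ1)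
    rw [hsym, mul_comm]
  have hfour : (4 : ℤ) ∣ ∑ i, S.ε i * d i := by
    have h := hker 0
    simp only [Signed.chr, S.reg, regA, regB] at h
    by_cases hl1 : l = 1
    · subst hl1
      simp only [if_true, zero_mul, zero_add] at h
      push_cast at h
      have h5 : ((∑ i, S.ε i * d i : ℤ) : ℂ) = 0 := by
        have e0 : (S.ε 0 : ℂ) * 4⁻¹ ≠ 0 := mul_ne_zero (Int.cast_ne_zero.mpr fun h => by
          have := S.sq 0; rw [h] at this; exact absurd this (by norm_num)) (by norm_num)
        have hz : (S.ε 0 : ℂ) * 4⁻¹ * ((∑ i, S.ε i * d i : ℤ) : ℂ) = 0 := by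
          rw [← h, Int.cast_sum, Finset.mul_sum]
          exact Finset.sum_congr rfl fun i _ => by push_cast; ring
        exact (mul_eq_zero.mp hz).resolve_left e0
      rw [show (∑ i, S.ε i * d i) = 0 by exact_mod_cast h5]
      exact dvd_zero _
    · simp only [if_neg hl1, one_mul, mul_add, mul_ite, mul_one, mul_zero, Finset.sum_add_distrib,
        Finset.sum_ite_eq', Finset.mem_univ, if_true] at h
      have h5 : ((∑ i, S.ε i * d i : ℤ) : ℂ) = ((4 * (S.ε 0 * d 0) : ℤ) : ℂ) := by
        push_cast at h ⊢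
        have h6 : ∑ i, (d i : ℂ) * (-4⁻¹ * ((S.ε i : ℂ) * (S.ε 0 : ℂ))) =
            -4⁻¹ * (S.ε 0 : ℂ) * ∑ i, (S.ε i : ℂ) * (d i : ℂ) := by
          rw [Finset.mul_sum]
          exact Finset.sum_congr rfl fun i _ => by ring
        rw [h6] at h
        linear_combination -4 * (S.ε 0 : ℂ) * h - (∑ i, (S.ε i : ℂ) * (d i : ℂ)) * S.sq_cast 0
      exact ⟨S.ε 0 * d 0, by exact_mod_cast h5⟩
  refine ⟨d, φ, hone, hfour, fun s => memR_mul hM (memR_intCast hM _)
    (memR_of_isIntegral hM (isIntegral_irr _ _)), fun s hs => ?_, hval⟩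
  have hF4 : 4 * φ s = ∑ j ∈ Finset.univ, (R.ε j : ℂ) * R.chr j s := by
    rw [Finset.sum_congr rfl fun j _ => by rw [hφ j s hs, ← mul_assoc, R.sq_cast, one_mul],
      Finset.sum_const, Finset.card_univ, Fintype.card_fin, nsmul_eq_mul]
    norm_num
  rw [hF4]
  refine div_centralizer_of_regular hM _ (fun j => (R.e j : IrrCharacter K)) _
    (fun j _ => memR_intCast hM _) (fun g hg => ?_) hs
  have := Fintype.ofFinite b
  have h := weak_orth hM (blockInd_mem_intRing hM hb.1) h1reg hg
  rw [finsum_mem_eq_toFinset_sum, Finset.sum_subtype b.toFinset (p := (· ∈ b))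
    (fun x => Set.mem_toFinset), ← Equiv.sum_comp R.e] at h
  have h' := congrArg conj h
  rw [map_zero, map_sum] at h'
  have hconj : conj (φ 1) ≠ 0 := (map_ne_zero _).mpr hφ1
  have hz : conj (φ 1) * ∑ j, (R.ε j : ℂ) * R.chr j g = 0 := by
    rw [← h', Finset.mul_sum]
    refine Finset.sum_congr rfl fun j _ => ?_
    rw [show ((R.e j : IrrCharacter K) : K → ℂ) 1 = (R.ε j : ℂ) * φ 1 from hφ j 1 h1reg]
    simp only [map_mul, map_intCast, Complex.conj_conj, Signed.chr]
    ring
  exact (mul_eq_zero.mp hz).resolve_left hconj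

/-- A block with Klein four defect group, signed. -/
structure Klein (M : Ideal AlgInt) (B : Set (IrrCharacter G)) (l : ℕ) where
  P : Subgroup G
  pair : Set (IrrCharacter (Subgroup.centralizer (P : Set G)))
  max : IsMaximalBrauerPair 2 M B P pair
  card : Nat.card P = 4
  exp : ∀ x ∈ P, x * x = 1
  S : Signed B l

open scoped Classical in
theorem singular_values (hM : IsPModular 2 M) (D : Klein M B l) {x : G} (hx : 2 ∣ orderOf x) :
    ∃ (m : ℕ) (φ : Fin m → ℂ) (d : Fin m → Fin 4 → ℤ),
      (∀ r, (∀ i, d r i = 1 ∨ d r i = -1) ∧ (4 : ℤ) ∣ ∑ i, D.S.ε i * d r i ∧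
        MemLocalRing M (φ r) ∧
        MemLocalRing M (4 * φ r / (Nat.card (Subgroup.centralizer ({x} : Set G)) : ℂ))) ∧
      ∀ i, D.S.chr i x = ∑ r, (d r i : ℂ) * φ r := by
  have : Fact (Nat.Prime 2) := ⟨Nat.prime_two⟩
  have hB : IsPBlock M B := D.max.1.2.1
  obtain ⟨u, t, rfl, hum, htm, huk, htc⟩ := Transfer.exists_pPart_mul (p := 2) x
  have ht : ¬ 2 ∣ orderOf t := (Nat.prime_two.coprime_iff_not_dvd).mp htc.symm
  have hcomm : Commute u t := by
    obtain ⟨i, hi⟩ := Subgroup.mem_zpowers_iff.mp hum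
    obtain ⟨j, hj⟩ := Subgroup.mem_zpowers_iff.mp htm
    have h1 := (Commute.refl (u * t)).zpow_zpow i j
    rwa [hi, hj] at h1
  have hu1 : u ≠ 1 := fun h => ht (by rwa [h, one_mul] at hx)
  let K := Subgroup.centralizer (Subgroup.zpowers u : Set G)
  have hK : ∀ g, g ∈ K ↔ Commute u g := fun _ => SecondMain.mem_centralizer_zpowers_iff
  have := Fintype.ofFinite K
  let s : K := ⟨t, (hK t).mpr hcomm⟩
  have hs : ¬ 2 ∣ orderOf s := by rwa [← Subgroup.orderOf_coe]
  have hfin : (SecondMain.inducedSet M K B).Finite := Set.toFinite _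
  let eI : Fin hfin.toFinset.card ≃ hfin.toFinset := hfin.toFinset.equivFin.symm
  have hloc : ∀ r, ∃ (d : Fin 4 → ℤ) (φ : K → ℂ), (∀ i, d i = 1 ∨ d i = -1) ∧
      (4 : ℤ) ∣ ∑ i, D.S.ε i * d i ∧ (∀ s, MemLocalRing M (φ s)) ∧
      (∀ s : K, ¬ 2 ∣ orderOf s →
        MemLocalRing M (4 * φ s / (Nat.card (Subgroup.centralizer ({s} : Set K)) : ℂ))) ∧
      ∀ i (s : K), ¬ 2 ∣ orderOf s →
        blockPart (eI r : Set (IrrCharacter K)) (fun g : K => D.S.chr i (u * (g : G))) s =
          (d i : ℂ) * φ s := by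
    intro r
    have hb : IsInducedBlock M K (eI r : Set (IrrCharacter K)) B :=
      (Set.Finite.mem_toFinset hfin).mp (eI r).2
    have hpair : (eI r : Set (IrrCharacter K)) ∈
        {b | IsBrauerPairOf 2 M B (Subgroup.zpowers u) b} :=
      KleinDefect.inducedSet_eq hM (B := B) huk ▸ hb
    obtain ⟨h2, hl1, hbd⟩ := KleinDefect.rank_pair hM D.max D.card D.exp hu1 hpair
    exact exists_local hM hB D.S (KleinDefect.defect_eq_two hM D.max D.card) h2 hK hb hl1 hbd
  choose d φ hd hfour hφR hdiv hval using hloc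
  refine ⟨_, fun r => φ r s, d, fun r => ⟨hd r, hfour r, hφR r s, ?_⟩, fun i => ?_⟩
  · rw [show t = (s : G) from rfl, SecondMain.card_centralizer_mul_eq huk hK hs]
    exact hdiv r s hs
  · show (D.S.chr i) (u * (s : G)) = _
    rw [Signed.chr, ← SecondMain.sum_induced_shift_of_mem hM huk hK hB (D.S.e i).2 hs,
      finsum_mem_eq_finite_toFinset_sum _ hfin, ← Finset.sum_coe_sort, ← Equiv.sum_comp eI]
    exact Finset.sum_congr rfl fun r _ => hval r i s hs

theorem four_dvd {a b : Fin 4 → ℤ} (ha : ∀ i, a i = 1 ∨ a i = -1) (hb : ∀ i, b i = 1 ∨ b i = -1)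
    (ha4 : (4 : ℤ) ∣ ∑ i, a i) (hb4 : (4 : ℤ) ∣ ∑ i, b i) : (4 : ℤ) ∣ ∑ i, a i * b i := by
  simp only [Fin.sum_univ_four] at ha4 hb4 ⊢
  rcases ha 0 with h0 | h0 <;> rcases ha 1 with h1 | h1 <;> rcases ha 2 with h2 | h2 <;>
    rcases ha 3 with h3 | h3 <;> rw [h0, h1, h2, h3] at ha4 ⊢ <;>
    rcases hb 0 with g0 | g0 <;> rcases hb 1 with g1 | g1 <;> rcases hb 2 with g2 | g2 <;>
    rcases hb 3 with g3 | g3 <;> rw [g0, g1, g2, g3] at hb4 ⊢ <;> omega

/-- Divisibility by the order of the centraliser of the first argument. -/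
theorem kernel_div (hM : IsPModular 2 M) (D : Klein M B l) (E : Klein M c l) (x : G) (y : H) :
    MemLocalRing M (kernel D.S E.S x y / (Nat.card (Subgroup.centralizer ({x} : Set G)) : ℂ)) := by
  classical
  have hB := D.max.1.2.1
  have hc := E.max.1.2.1
  by_cases hx : 2 ∣ orderOf x
  · by_cases hy : 2 ∣ orderOf y
    · obtain ⟨m, φ, d, hd, hv⟩ := singular_values hM D hx
      obtain ⟨m', ψ, d', hd', hv'⟩ := singular_values hM E hy
      have hsum : kernel D.S E.S x y = ∑ r, ∑ r', φ r * ψ r' *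
          ((∑ i, D.S.ε i * d r i * (E.S.ε i * d' r' i) : ℤ) : ℂ) := by
        rw [kernel, Finset.sum_congr rfl fun i _ => by rw [hv i, hv' i]]
        simp only [Finset.mul_sum, Finset.sum_mul, Int.cast_sum, Int.cast_mul]
        rw [Finset.sum_comm]
        rw [Finset.sum_congr rfl fun r' _ => Finset.sum_comm]
        rw [Finset.sum_comm]
        exact Finset.sum_congr rfl fun r _ => Finset.sum_congr rfl fun r' _ =>
          Finset.sum_congr rfl fun i _ => by ring
      rw [hsum, Finset.sum_div]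
      refine memR_sum hM _ fun r _ => ?_
      rw [Finset.sum_div]
      refine memR_sum hM _ fun r' _ => ?_
      obtain ⟨k, hk⟩ := four_dvd (a := fun i => D.S.ε i * d r i) (b := fun i => E.S.ε i * d' r' i)
        (fun i => Int.isUnit_iff.mp ((IsUnit.of_mul_eq_one _ (D.S.sq i)).mul
          (Int.isUnit_iff.mpr ((hd r).1 i))))
        (fun i => Int.isUnit_iff.mp ((IsUnit.of_mul_eq_one _ (E.S.sq i)).mul
          (Int.isUnit_iff.mpr ((hd' r').1 i))))
        (hd r).2.1 (hd' r').2.1
      rw [hk, Int.cast_mul, Int.cast_ofNat]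
      have e : φ r * ψ r' * (4 * (k : ℂ)) / (Nat.card (Subgroup.centralizer ({x} : Set G)) : ℂ) =
          (4 * φ r / (Nat.card (Subgroup.centralizer ({x} : Set G)) : ℂ)) * (ψ r' * (k : ℂ)) := by
        ring
      rw [e]
      exact memR_mul hM (hd r).2.2.2 (memR_mul hM (hd' r').2.2.1 (memR_intCast hM k))
    · rw [kernel_comm, kernel_eq_zero hM hc hB E.S D.S hy hx, zero_div]
      exact memR_zero hM
  · by_cases hy : 2 ∣ orderOf y
    · rw [kernel_eq_zero hM hB hc D.S E.S hx hy, zero_div]
      exact memR_zero hM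
    · have e : ∀ g : G, kernel D.S E.S g y = ∑ i ∈ Finset.univ,
          ((D.S.ε i : ℂ) * (E.S.ε i : ℂ) * E.S.chr i y) * ((D.S.e i : IrrCharacter G) : G → ℂ) g :=
        fun g => Finset.sum_congr rfl fun i _ => by simp only [Signed.chr]; ring
      rw [e]
      refine div_centralizer_of_regular hM _ (fun i => (D.S.e i : IrrCharacter G)) _
        (fun i _ => memR_mul hM (memR_mul hM (memR_intCast hM _) (memR_intCast hM _))
          (memR_of_isIntegral hM (isIntegral_irr _ _))) (fun g hg => ?_) hx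
      rw [← e g, kernel_comm]
      exact kernel_eq_zero hM hc hB E.S D.S hy hg

theorem isPerfectFun_kernel (hM : IsPModular 2 M) (D : Klein M B l) (E : Klein M c l) :
    IsPerfectFun 2 M (kernel D.S E.S) := by
  intro x y
  refine ⟨kernel_div hM D E x y, ?_, ?_⟩
  · rw [kernel_comm]
    exact kernel_div hM E D y x
  · by_cases hx : 2 ∣ orderOf x <;> by_cases hy : 2 ∣ orderOf y
    · exact Or.inl (iff_of_false (fun h => h hx) fun h => h hy)
    · exact Or.inr (by rw [kernel_comm]; exact kernel_eq_zero hM E.max.1.2.1 D.max.1.2.1 E.S D.S hy hx)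
    · exact Or.inr (kernel_eq_zero hM D.max.1.2.1 E.max.1.2.1 D.S E.S hx hy)
    · exact Or.inl (iff_of_true hx hy)

theorem exists_isometry (hM : IsPModular 2 M) (D : Klein M B l) (E : Klein M c l) :
    ∃ (I : IrrCharacter H → IrrCharacter G) (ε : IrrCharacter H → ℤ),
      IsPerfectIsometry 2 M c B I ε := by
  classical
  let I : IrrCharacter H → IrrCharacter G := fun η =>
    if h : η ∈ c then D.S.e (E.S.e.symm ⟨η, h⟩) else D.S.e 0
  let ε : IrrCharacter H → ℤ := fun η =>
    if h : η ∈ c then D.S.ε (E.S.e.symm ⟨η, h⟩) * E.S.ε (E.S.e.symm ⟨η, h⟩) else 1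
  have hI : ∀ i, I (E.S.e i : IrrCharacter H) = (D.S.e i : IrrCharacter G) := fun i => by
    simp only [I, dif_pos (E.S.e i).2, Subtype.coe_eta, Equiv.symm_apply_apply]
  have hε : ∀ i, ε (E.S.e i : IrrCharacter H) = D.S.ε i * E.S.ε i := fun i => by
    simp only [ε, dif_pos (E.S.e i).2, Subtype.coe_eta, Equiv.symm_apply_apply]
  refine ⟨I, ε, ⟨fun η hη => ?_, fun η hη η' hη' h => ?_, fun χ hχ => ?_⟩, fun η hη => ?_, ?_⟩
  · obtain ⟨i, hi⟩ := E.S.e.surjective ⟨η, hη⟩
    rw [show η = (E.S.e i : IrrCharacter H) by rw [hi], hI]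
    exact (D.S.e i).2
  · obtain ⟨i, hi⟩ := E.S.e.surjective ⟨η, hη⟩
    obtain ⟨j, hj⟩ := E.S.e.surjective ⟨η', hη'⟩
    obtain rfl : η = (E.S.e i : IrrCharacter H) := by rw [hi]
    obtain rfl : η' = (E.S.e j : IrrCharacter H) := by rw [hj]
    rw [hI, hI] at h
    rw [D.S.e.injective (Subtype.ext h)]
  · obtain ⟨i, hi⟩ := D.S.e.surjective ⟨χ, hχ⟩
    exact ⟨(E.S.e i : IrrCharacter H), (E.S.e i).2, by rw [hI, hi]⟩
  · obtain ⟨i, hi⟩ := E.S.e.surjective ⟨η, hη⟩
    obtain rfl : η = (E.S.e i : IrrCharacter H) := by rw [hi]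
    rw [hε]
    exact Int.isUnit_iff.mp ((IsUnit.of_mul_eq_one _ (D.S.sq i)).mul
      (IsUnit.of_mul_eq_one _ (E.S.sq i)))
  · have h : signedBijectionKernel c I ε = kernel D.S E.S := by
      funext x y
      have := Fintype.ofFinite c
      rw [signedBijectionKernel, finsum_mem_eq_toFinset_sum,
        Finset.sum_subtype c.toFinset (p := (· ∈ c)) (fun x => Set.mem_toFinset),
        ← Equiv.sum_comp E.S.e, kernel]
      refine Finset.sum_congr rfl fun i _ => ?_
      rw [hI, hε, Int.cast_mul]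
    rw [h]
    exact isPerfectFun_kernel hM D E

omit [Fintype H] in
theorem main {G : Type*} [Group G] [Finite G] (hM : IsPModular 2 M) {B : Set (IrrCharacter G)}
    {P : Subgroup G} (hPD : IsDefectGroup 2 M B P) (hP : Nat.card P = 4)
    (hexp : ∀ x ∈ P, x * x = 1) {N : Subgroup G} (hN : N = Subgroup.normalizer (P : Set G))
    {c : Set (IrrCharacter N)} (hcD : IsDefectGroup 2 M c (P.subgroupOf N))
    (hc : IsInducedBlock M N c B) :
    ∃ (I : IrrCharacter N → IrrCharacter G) (ε : IrrCharacter N → ℤ),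
      IsPerfectIsometry 2 M c B I ε := by
  classical
  have := Fintype.ofFinite G
  have : Fact (Nat.Prime 2) := ⟨Nat.prime_two⟩
  have := Fintype.ofFinite N
  have hPN : P ≤ N := by rw [hN]; exact Subgroup.le_normalizer
  have hPp : IsPGroup 2 P := IsPGroup.of_card (n := 2) hP
  have hCN : Subgroup.centralizer (P : Set G) ≤ N := by rw [hN]; exact centralizer_le_normalizer hM P
  obtain ⟨e₀, he₀, hbr⟩ := KernelPairs.exists_pair hM hc.1 hPp hPN hCN (by
    have := sub_br_defectGroup_ne_zero hM hcD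
    rwa [Subgroup.map_subgroupOf_eq_of_le hPN] at this)
  have hmax := isMaximal_of_isDefectGroup hM
    (KernelPairs.isBrauerPairOf_of_induced hM hc he₀ hPN hCN hbr) hPD
  obtain ⟨P', hmap, hP'⟩ := KleinDefect.exists_down hPN
  rw [← hP'] at hcD
  subst hmap
  have hC : Subgroup.centralizer ((P'.map N.subtype : Subgroup G) : Set G) ≤ N := hCN
  obtain ⟨e', he', hup⟩ := exists_upBlock hM P' hC he₀.2
  subst hup
  have hmax' := isMaximal_of_isDefectGroup hM
    ((isBrauerPairOf_sub_iff hM P' hC hc.1 he').2 ⟨he₀.1, hbr⟩) hcD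
  have hP'card : Nat.card P' = 4 := by rwa [← Subgroup.card_map_of_injective N.subtype_injective]
  have hP'exp : ∀ x ∈ P', x * x = 1 := fun x hx => Subtype.ext (hexp (x : G) ⟨x, hx, rfl⟩)
  have hstab : pairStab M P' e' =
      (pairStab M (P'.map N.subtype) (upBlock P' e')).subgroupOf N := by
    ext x
    rw [Subgroup.mem_subgroupOf, mem_pairStab, mem_pairStab, mem_normalizer_sub_iff hM P' x,
      ← emb_cb hM P' hC, ← emb_cj, (emb_injective N).eq_iff]
  have hcent : Subgroup.centralizer (P' : Set N) =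
      (Subgroup.centralizer ((P'.map N.subtype : Subgroup G) : Set G)).subgroupOf N :=
    Subgroup.ext fun x => (mem_centralizer_sub_iff P' x).trans Subgroup.mem_subgroupOf.symm
  have hTN : pairStab M (P'.map N.subtype) (upBlock P' e') ≤ N :=
    (pairStab_le_normalizer _ _).trans hN.ge
  obtain ⟨h13, -, hlB⟩ := KleinDefect.main hM hmax hP hexp rfl
  obtain ⟨-, -, hlc⟩ := KleinDefect.main hM hmax' hP'card hP'exp rfl
  rw [hstab, hcent, Subgroup.relIndex_subgroupOf hTN] at hlc
  obtain ⟨SB⟩ := exists_signed hM hmax.1.2.1 (KleinDefect.defect_eq_two hM hmax hP) hlB h13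
  obtain ⟨Sc⟩ := exists_signed hM hc.1 (KleinDefect.defect_eq_two hM hmax' hP'card) hlc h13
  exact exists_isometry hM ⟨_, _, hmax, hP, hexp, SB⟩ ⟨_, _, hmax', hP'card, hP'exp, Sc⟩

end Cfsg.Agent.KleinIsometry
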