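import Cfsg.Agent.Lib.Blocks.KleinDefect
import Cfsg.Agent.Lib.BrauerPairs.Saturation
import Cfsg.Agent.Lib.BrauerPairs.Transport

/-!
# Local ranks below a maximal Brauer pair with abelian subgroup

* `blockRank_pullIrr`: the rank is invariant under isomorphisms;
* `lrank p M P e Q`: the rank of the block at `Q` below `(P, e)`;
  `lrank_eq`, `lrank_one`, `lrank_congr`;
* `exists_retraction`: the projection of an abelian `P` onto the points fixed by the stabiliser;
* `isFocTrivial`: linear characters invariant under the stabiliser are trivial on the focal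
  subgroup.
-/

set_option autoImplicit false

namespace Cfsg.Agent.LocalRank

open Cfsg Cfsg.Agent.Blocks Cfsg.Agent.BrauerPairs

section iso

variable {G H : Type*} [Group G] [Group H]

theorem pullIrr_injective [Finite G] [Finite H] (φ : H ≃* G) :
    Function.Injective (pullIrr φ) := fun χ ψ h => Subtype.ext (funext fun g => by
  have h' := congrArg (fun ξ : IrrCharacter H => (ξ : H → ℂ) (φ.symm g)) h
  simpa [pullIrr_apply] using h')

theorem card_pullIrr [Finite G] [Finite H] (φ : H ≃* G) (b : Set (IrrCharacter G)) :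
    Nat.card (pullIrr φ '' b : Set (IrrCharacter H)) = Nat.card b :=
  Nat.card_image_of_injective (pullIrr_injective φ) b

theorem blockRank_pullIrr [Finite G] [Finite H] (p : ℕ) (φ : H ≃* G)
    (b : Set (IrrCharacter G)) : blockRank p (pullIrr φ '' b) = blockRank p b := by
  rw [blockRank, blockRank]
  let L : (G → ℂ) ≃ₗ[ℂ] (H → ℂ) := LinearEquiv.funCongrLeft ℂ ℂ φ.toEquiv
  have h : (fun χ : IrrCharacter H => pRegularPart p (χ : H → ℂ)) '' (pullIrr φ '' b) =
      L '' ((fun χ : IrrCharacter G => pRegularPart p (χ : G → ℂ)) '' b) := by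
    rw [Set.image_image, Set.image_image]
    refine congrArg (fun f => f '' b) (funext fun χ => funext fun y => ?_)
    show pRegularPart p _ y = pRegularPart p _ (φ y)
    simp only [pRegularPart, IsPRegular, MulEquiv.orderOf_eq]
    by_cases h : p ∣ orderOf y <;> simp [h, pullIrr_apply]
  rw [h, show Submodule.span ℂ (L '' ((fun χ : IrrCharacter G => pRegularPart p (χ : G → ℂ)) '' b)) =
    (Submodule.span ℂ ((fun χ : IrrCharacter G => pRegularPart p (χ : G → ℂ)) '' b)).map
      (L : (G → ℂ) →ₗ[ℂ] (H → ℂ)) from (Submodule.span_image _)]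
  exact (L.submoduleMap _).finrank_eq.symm

end iso

variable {G : Type*} [Group G] [Finite G] {p : ℕ} [Fact p.Prime] {M : Ideal AlgInt}
  {B : Set (IrrCharacter G)} {P : Subgroup G}
  {e : Set (IrrCharacter (Subgroup.centralizer (P : Set G)))}

open scoped Classical in
/-- The rank of the block at `Q` below `(P, e)`. -/
noncomputable def lrank (p : ℕ) (M : Ideal AlgInt) (P : Subgroup G)
    (e : Set (IrrCharacter (Subgroup.centralizer (P : Set G)))) (Q : Subgroup G) : ℕ :=
  if h : ∃ f : Set (IrrCharacter (Subgroup.centralizer (Q : Set G))), SubpairLE p M Q f P e then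
    blockRank p h.choose else 0

theorem lrank_eq (hM : IsPModular p M) (hPe : IsBrauerPair p M P e) {Q : Subgroup G}
    {f : Set (IrrCharacter (Subgroup.centralizer (Q : Set G)))} (h : SubpairLE p M Q f P e) :
    lrank p M P e Q = blockRank p f := by
  have hex : ∃ f : Set (IrrCharacter (Subgroup.centralizer (Q : Set G))), SubpairLE p M Q f P e :=
    ⟨f, h⟩
  rw [lrank, dif_pos hex, subpair_unique hM hPe hex.choose_spec h]

omit [Fact p.Prime] in
theorem blockRank_congr {H K : Subgroup G} (hHK : H = K)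
    {b : Set (IrrCharacter H)} {b' : Set (IrrCharacter K)} (hM : IsPModular p M)
    (hb : IsPBlock M b) (hb' : IsPBlock M b') (h : bIdem M H b = bIdem M K b') :
    blockRank p b = blockRank p b' := by
  subst hHK
  rw [bIdem_injective hM hb hb' h]

omit [Finite G] in
theorem le_centralizer (hab : ∀ x ∈ P, ∀ y ∈ P, x * y = y * x) {Q : Subgroup G} (hQ : Q ≤ P) :
    P ≤ Subgroup.centralizer (Q : Set G) := fun u hu =>
  Subgroup.mem_centralizer_iff.2 fun q hq => hab q (hQ hq) u hu

/-- Pairs below `(P, e)` on subgroups with the same centraliser have the same rank. -/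
theorem lrank_congr (hM : IsPModular p M) (hPe : IsBrauerPair p M P e)
    (hab : ∀ x ∈ P, ∀ y ∈ P, x * y = y * x) {Q R : Subgroup G} (hQR : Q ≤ R) (hRP : R ≤ P)
    (hC : Subgroup.centralizer (Q : Set G) = Subgroup.centralizer (R : Set G)) :
    lrank p M P e Q = lrank p M P e R := by
  obtain ⟨f, hf, hle⟩ := exists_subpair hM hPe (hQR.trans hRP)
  obtain ⟨g, hg, hfg, hgle⟩ := subpair_between hM hPe hle hQR hRP
  rw [lrank_eq hM hPe hle, lrank_eq hM hPe hgle]
  have hn := normalSubpair_of_le hM ⟨hPe.1.to_le hRP, hg⟩ hfg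
    ((hRP.trans (le_centralizer hab (hQR.trans hRP))).trans (centralizer_le_normalizer hM Q))
  obtain ⟨-, -, -, -, -, hbr⟩ := (isNormalSubpair_iff hM).1 hn
  have hsupp : br R (cb M Q f) = cb M Q f := by
    refine br_eq_self fun x hx => (bIdem_central _ f).1 x ?_
    rwa [hC]
  rw [hsupp] at hbr
  refine blockRank_congr hC hM hf hg ?_
  -- blocks of the same subgroup with a non-zero product are equal
  by_contra hne
  have key : ∀ {H K : Subgroup G} (b : Set (IrrCharacter H)) (b' : Set (IrrCharacter K)), H = K →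
      IsPBlock M b → IsPBlock M b' → bIdem M H b ≠ bIdem M K b' →
      bIdem M H b * bIdem M K b' = 0 := by
    intro H K b b' hHK hb hb' hne
    subst hHK
    exact bIdem_mul_of_ne hM hb hb' fun h => hne (by rw [h])
  have h0 := key f g hC hf hg hne
  exact bIdem_ne_zero hM hg (hbr.symm.trans h0)

/-- At the trivial element the local rank is the rank of the block. -/
theorem lrank_one (hM : IsPModular p M) (hmax : IsMaximalBrauerPair p M B P e) :
    lrank p M P e (Subgroup.zpowers (1 : G)) = blockRank p B := by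
  classical
  have hPe := hmax.1.1
  obtain ⟨f, hf, hle⟩ := exists_subpair hM hPe (Q := Subgroup.zpowers (1 : G))
    (Subgroup.zpowers_le.2 (one_mem P))
  rw [lrank_eq hM hPe hle, ← KleinDefect.sum_rank_one hM hmax.1.2.1,
    KleinDefect.finsum_rank_congr (H := Subgroup.centralizer ({(1 : G)} : Set G))
      (K := Subgroup.centralizer (Subgroup.zpowers (1 : G) : Set G)) ?_,
    KleinDefect.inducedSet_eq hM ⟨0, by rw [orderOf_one, pow_zero]⟩]
  · have hset : {b | IsBrauerPairOf p M B (Subgroup.zpowers (1 : G)) b} = {f} := by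
      refine Set.eq_singleton_iff_unique_mem.2
        ⟨(isBrauerPairOf_iff_of_le hM hmax.1.2.1 hle).1 hmax.1, fun b hb => ?_⟩
      obtain ⟨x, hx⟩ := exists_conj_le_maximal hM hmax hb
      obtain ⟨b', hb'⟩ := KleinDefect.exists_idx_of_fst
        (a := conjIdx x (⟨Subgroup.zpowers (1 : G), b⟩ : BrauerPairIdx G))
        (show conjSub x (Subgroup.zpowers (1 : G)) = Subgroup.zpowers (1 : G) by
          rw [KleinDefect.conjSub_zpowers, mul_one, mul_inv_cancel])
      have hle' : SubpairLE p M (Subgroup.zpowers (1 : G)) b' P e := by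
        unfold SubpairLE at hx ⊢
        rw [hb']
        exact hx
      rw [subpair_unique hM hPe hle' hle] at hb'
      have hcj := cj_cb hM (Subgroup.zpowers (1 : G)) x b
      have hi : cb M (conjIdx x (⟨Subgroup.zpowers (1 : G), b⟩ : BrauerPairIdx G)).1
          (conjIdx x (⟨Subgroup.zpowers (1 : G), b⟩ : BrauerPairIdx G)).2 =
            cb M (Subgroup.zpowers (1 : G)) f := by rw [← hb']
      have hxC : x ∈ Subgroup.centralizer (Subgroup.zpowers (1 : G) : Set G) :=
        SecondMain.mem_centralizer_zpowers_iff.2 (Commute.one_left x)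
      refine bIdem_injective hM hb.1.2 hf ?_
      show cb M _ b = cb M _ f
      rw [← hi]
      exact ((bIdem_central _ b).2 x hxC).symm.trans hcj
    rw [hset, finsum_mem_singleton]
  · ext g
    rw [SecondMain.mem_centralizer_zpowers_iff, SecondMain.commute_iff_mem_centralizer_singleton]

/-- The projection of `P` onto the elements fixed by the stabiliser. -/
theorem exists_retraction (hM : IsPModular p M) (hmax : IsMaximalBrauerPair p M B P e)
    (hab : ∀ x ∈ P, ∀ y ∈ P, x * y = y * x) :
    ∃ ν : P →* P, (∀ t ∈ pairStab M P e, ∀ x y : P, (y : G) = t * x * t⁻¹ → ν y = ν x) ∧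
      (∀ x : P, (∀ t ∈ pairStab M P e, t * (x : G) * t⁻¹ = x) → ν x = x) ∧
      ∀ x : P, ∀ t ∈ pairStab M P e, t * (ν x : G) * t⁻¹ = ν x := by
  classical
  let _ : CommGroup P :=
    { (inferInstance : Group P) with mul_comm := fun a b => Subtype.ext (hab a a.2 b b.2) }
  set T := pairStab M P e with hT
  let act : T →* MulAut P :=
    { toFun := fun t => conjEquiv P P t (mem_normalizer_iff_conj t.2.1)
      map_one' := by ext u; simp [coe_conjEquiv]
      map_mul' := fun a b => by ext u; simp [coe_conjEquiv, mul_assoc] }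
  have hact : ∀ (t : T) (x : P), ((act t x : P) : G) = t * x * (t : G)⁻¹ :=
    fun t x => by simp [act, coe_conjEquiv]
  let A := act.range
  have := Fintype.ofFinite A
  have hker : act.ker = (Subgroup.centralizer (P : Set G)).subgroupOf T := by
    ext t
    rw [MonoidHom.mem_ker, Subgroup.mem_subgroupOf, Subgroup.mem_centralizer_iff]
    constructor
    · intro h y hy
      have h1 := congrArg (fun a : MulAut P => ((a ⟨y, hy⟩ : P) : G)) h
      simp only [hact, MulAut.one_apply] at h1
      conv_lhs => rw [← h1]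
      group
    · intro h
      refine MulEquiv.ext fun x => Subtype.ext ?_
      rw [hact, MulAut.one_apply, ← h x x.2, mul_inv_cancel_right]
  have hA : Nat.card A = (Subgroup.centralizer (P : Set G)).relIndex T := by
    rw [Subgroup.relIndex, ← hker, Subgroup.index_ker]
  obtain ⟨k, hk⟩ := IsPGroup.iff_card.1 hmax.1.1.1
  have hco : (Nat.card A).Coprime (Nat.card P) := by
    rw [hk, hA]
    exact (((Fact.out : p.Prime).coprime_iff_not_dvd.2
      (KleinDefect.stab_relIndex hM hmax hab)).symm).pow_right k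
  let ν₀ : P →* P := ∏ a : A, ((a : MulAut P) : P ≃* P).toMonoidHom
  have hν₀ : ∀ x, ν₀ x = ∏ a : A, (a : MulAut P) x := fun x => by
    simp only [ν₀, MonoidHom.finsetProd_apply]
    rfl
  obtain ⟨m, hm⟩ : ∃ m, ∀ x : P, (x ^ Nat.card A) ^ m = x := by
    have : NeZero (Nat.card P) := ⟨Nat.card_pos.ne'⟩
    refine ⟨((Nat.card A : ZMod (Nat.card P))⁻¹).val, fun x => ?_⟩
    rw [← pow_mul]
    conv_rhs => rw [← pow_one x]
    refine pow_eq_pow_iff_modEq.2 (Nat.ModEq.of_dvd (orderOf_dvd_natCard x) ?_)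
    rw [← ZMod.natCast_eq_natCast_iff, Nat.cast_mul, ZMod.natCast_zmod_val, Nat.cast_one]
    exact ZMod.coe_mul_inv_eq_one _ hco
  refine ⟨(powMonoidHom m).comp ν₀, fun t ht x y hy => ?_, fun x hx => ?_, fun x t ht => ?_⟩
  · have hyx : y = act ⟨t, ht⟩ x := Subtype.ext (hy.trans (hact ⟨t, ht⟩ x).symm)
    subst hyx
    simp only [MonoidHom.comp_apply, powMonoidHom_apply, hν₀]
    congr 1
    exact Fintype.prod_equiv (Equiv.mulRight (⟨act ⟨t, ht⟩, ⟨t, ht⟩, rfl⟩ : A)) _ _ fun a => rfl
  · simp only [MonoidHom.comp_apply, powMonoidHom_apply, hν₀]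
    rw [Finset.prod_congr rfl (g := fun _ => x) fun a _ => ?_, Finset.prod_const, Finset.card_univ,
      ← Nat.card_eq_fintype_card]
    · exact hm x
    · obtain ⟨_, s, rfl⟩ := a
      exact Subtype.ext ((hact s x).trans (hx s s.2))
  · rw [← hact ⟨t, ht⟩]
    congr 1
    simp only [MonoidHom.comp_apply, powMonoidHom_apply, hν₀, map_pow, map_prod]
    exact Fintype.prod_equiv (Equiv.mulLeft (⟨act ⟨t, ht⟩, ⟨t, ht⟩, rfl⟩ : A)) _ _ fun a => rfl

/-- A linear character invariant under the stabiliser is trivial on the focal subgroup. -/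
theorem focal_le_ker (hM : IsPModular p M) {F : FusionSystem P}
    (hF : IsBlockFusionSystemOn p M B P e F) (hab : ∀ x ∈ P, ∀ y ∈ P, x * y = y * x)
    {A : Type*} [Group A] (l : P →* A)
    (hinv : ∀ t ∈ pairStab M P e, ∀ x y : P, (y : G) = t * x * t⁻¹ → l y = l x)
    {x : P} (hx : (x : G) ∈ F.focalSubgroup) : l x = 1 := by
  have hmax := hF.1
  suffices h : F.focalSubgroup ≤ l.ker.map P.subtype by
    obtain ⟨y, hy, hyx⟩ := h hx
    rw [← Subtype.ext (show (y : G) = x from hyx)]
    exact hy
  refine (Subgroup.closure_le _).2 ?_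
  rintro _ ⟨Q, φ, u, hφ, rfl⟩
  obtain ⟨hQ, g, hg, hgQ, f, hle, hle'⟩ := (hF.2 Q φ).1 hφ
  obtain ⟨c, hc, hct⟩ := KleinDefect.fusion_of_abelian hM hmax hab hle
    (isBrauerPair_of_subpairLE
      (a := (⟨_, conjBlock Q g f⟩ : BrauerPairIdx G)) (b := ⟨P, e⟩) hle' hmax.1.1).2
    hle' (z := g) rfl
  have hu : (u : G) ∈ P := hQ u.2
  have hgu : g * (u : G) * g⁻¹ ∈ conjSub g Q := mem_conjSub.2 (by simp [mul_assoc, u.2])
  have hφu : φ u ∈ P := by rw [hg]; exact hgQ hgu
  refine ⟨⟨u, hu⟩⁻¹ * ⟨φ u, hφu⟩, ?_, rfl⟩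
  have h := hinv _ hct ⟨u, hu⟩ ⟨φ u, hφu⟩ (by
    show φ u = c * g * (u : G) * (c * g)⁻¹
    have h1 := Subgroup.mem_centralizer_iff.1 hc _ hgu
    rw [hg, show c * g * (u : G) * (c * g)⁻¹ = c * (g * (u : G) * g⁻¹) * c⁻¹ by group, ← h1,
      mul_inv_cancel_right])
  show l (⟨u, hu⟩⁻¹ * ⟨φ u, hφu⟩) = 1
  rw [map_mul, map_inv, h, inv_mul_cancel]

end Cfsg.Agent.LocalRank
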