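import Cfsg.Agent.Lib.Blocks.HeightZero
import Cfsg.Agent.Lib.Blocks.OrbitSum
import Cfsg.Agent.Lib.CentralChar.Congr
import Cfsg.Agent.Lib.BrauerPairs.Principal

/-!
# The sum of the p-regular elements and Külshammer's formula

`memI_pow_sub_sum_pow`: for a central element `ofOmega c` with integral coefficients and `q` a power
of `p` fixing `g`, its `q`-th power at `g` is congruent to the `q`-th power of the sum of its values
at `k * g`, `k ^ q = 1`.  `principal_blockCoeff_formula`: Külshammer's formula.
-/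

set_option autoImplicit false

open scoped ComplexConjugate

namespace Cfsg.Agent.Blocks

open Cfsg Equiv.Perm

variable {G : Type*} [Group G]

open scoped Classical in
/-- The sum over the `m`-tuples with product `h` of the products of the values of `x`. -/
noncomputable def tupleSum [Fintype G] (x : G → ℂ) (m : ℕ) (h : G) : ℂ :=
  ∑ v : List.Vector G m, if v.toList.prod = h then (v.toList.map x).prod else 0

theorem tupleSum_succ [Fintype G] (x : G → ℂ) (m : ℕ) (h : G) :
    tupleSum x (m + 1) h = ∑ k, x k * tupleSum x m (k⁻¹ * h) := by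
  classical
  rw [tupleSum, ← Equiv.sum_comp (⟨fun kv : G × List.Vector G m => kv.1 ::ᵥ kv.2,
    fun v => (v.head, v.tail), fun kv => by simp, fun v => v.cons_head_tail⟩ :
      G × List.Vector G m ≃ List.Vector G (m + 1)), Fintype.sum_prod_type]
  refine Finset.sum_congr rfl fun k _ => ?_
  rw [tupleSum, Finset.mul_sum]
  refine Finset.sum_congr rfl fun v _ => ?_
  simp only [Equiv.coe_fn_mk, List.Vector.toList_cons, List.prod_cons, List.map_cons,
    eq_inv_mul_iff_mul_eq, mul_ite, mul_zero]

variable [Finite G]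

theorem tupleSum_shift [Fintype G] (c : IrrCharacter G → ℂ) (g : G) (m : ℕ) (h : G) :
    tupleSum (fun k => ofOmega c (k * g)) m h = ofOmega (c ^ m) (h * g ^ m) := by
  classical
  induction m generalizing h with
  | zero =>
    rw [tupleSum, pow_zero, pow_zero, mul_one, ofOmega_one]
    rw [Finset.sum_eq_single (List.Vector.nil : List.Vector G 0)]
    · simp [eq_comm]
    · exact fun v _ hv => absurd v.eq_nil hv
    · simp
  | succ m ih =>
    rw [tupleSum_succ, pow_succ' c, ofOmega_mul, conv_eq_sum]
    refine Fintype.sum_equiv (Equiv.mulRight g) _ _ fun k => ?_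
    rw [ih, Equiv.coe_mulRight]
    refine congrArg (ofOmega c (k * g) * ·) ?_
    rw [mul_assoc k⁻¹, isClassFunction_comm (isClassFunction_ofOmega (c ^ m)) k⁻¹,
      isClassFunction_comm (isClassFunction_ofOmega (c ^ m)) (k * g)⁻¹, pow_succ, mul_inv_rev]
    congr 1
    simp only [mul_assoc, mul_inv_cancel_left]

variable {p : ℕ} {M : Ideal AlgInt}

open scoped Classical in
theorem memI_pow_sub_sum_pow [Fintype G] (hM : IsPModular p M) (c : IrrCharacter G → ℂ)
    (hc : ∀ x, IsIntegral ℤ (ofOmega c x)) {g : G} {n : ℕ} (hg : g ^ p ^ n = g) :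
    MemLocalIdeal M (ofOmega (c ^ p ^ n) g -
      (∑ k ∈ Finset.univ.filter (fun k : G => k ^ p ^ n = 1), ofOmega c (k * g)) ^ p ^ n) := by
  have : Fact p.Prime := ⟨hM.1⟩
  set q := p ^ n with hq
  have hq0 : 0 < q := pow_pos hM.1.pos n
  let x : G → ℂ := fun k => ofOmega c (k * g)
  let X := vectorsProdEqOne G q
  have h0 : ofOmega (c ^ q) g = ∑ v : X, ((v : List.Vector G q).toList.map x).prod := by
    have h := tupleSum_shift c g q 1
    rw [one_mul, hg] at h
    rw [← h, tupleSum, ← Finset.sum_filter,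
      Finset.sum_subtype (p := fun v : List.Vector G q => v ∈ X) _ fun v => by
        simp [X, VectorsProdEqOne.mem_iff]]
  let σ : Equiv.Perm X :=
    ⟨fun v => VectorsProdEqOne.rotate v 1, fun v => VectorsProdEqOne.rotate v (q - 1),
      fun v => by
        show VectorsProdEqOne.rotate (VectorsProdEqOne.rotate v 1) (q - 1) = v
        rw [VectorsProdEqOne.rotate_rotate, show 1 + (q - 1) = q by omega,
          VectorsProdEqOne.rotate_length],
      fun v => by
        show VectorsProdEqOne.rotate (VectorsProdEqOne.rotate v (q - 1)) 1 = v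
        rw [VectorsProdEqOne.rotate_rotate, show q - 1 + 1 = q by omega,
          VectorsProdEqOne.rotate_length]⟩
  have hσpow : ∀ i, ∀ v : X, (σ ^ i) v = VectorsProdEqOne.rotate v i := by
    intro i
    induction i with
    | zero => intro v; rw [pow_zero, Equiv.Perm.one_apply, VectorsProdEqOne.rotate_zero]
    | succ i ih =>
      intro v
      rw [pow_succ', Equiv.Perm.mul_apply, ih]
      exact VectorsProdEqOne.rotate_rotate v i 1
  have hσq : σ ^ q = 1 := Equiv.ext fun v => by
    rw [hσpow, VectorsProdEqOne.rotate_length, Equiv.Perm.one_apply]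
  have hP : IsPGroup p (Subgroup.zpowers σ) := by
    obtain ⟨j, -, hj⟩ := (Nat.dvd_prime_pow hM.1).1 (orderOf_dvd_of_pow_eq_one hσq)
    exact IsPGroup.of_card (n := j) (by rw [Nat.card_zpowers, hj])
  let f : X → ℂ := fun v => ((v : List.Vector G q).toList.map x).prod
  have hfσ : ∀ i v, f ((σ ^ i) v) = f v := fun i v => by
    rw [hσpow]
    exact ((List.rotate_perm _ i).map x).prod_eq
  have hf : ∀ (u : Subgroup.zpowers σ) (v : X), f (u • v) = f v := by
    rintro ⟨u, hu⟩ v
    obtain ⟨i, rfl⟩ := (IsOfFinOrder.mem_powers_iff_mem_zpowers (isOfFinOrder_of_finite σ)).2 hu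
    exact hfσ i v
  let S : AddSubmonoid ℂ :=
    { carrier := {z | MemLocalIdeal M z}
      add_mem' := memI_add hM
      zero_mem' := memI_zero hM }
  have hfint : ∀ v : X, IsIntegral ℤ (f v) := fun v =>
    list_prod_mem (S := integralClosure ℤ ℂ) fun z hz => by
      obtain ⟨k, -, rfl⟩ := List.mem_map.1 hz
      exact hc _
  have h1 : MemLocalIdeal M
      (∑ v ∈ Finset.univ.filter (fun v => v ∉ MulAction.fixedPoints (Subgroup.zpowers σ) X), f v) :=
    sum_not_fixed_mem hP f hf S fun v => by
      show MemLocalIdeal M (p • f v)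
      rw [nsmul_eq_mul]
      exact memI_mul_right hM (memI_p hM) (memR_of_isIntegral hM (hfint v))
  have h2 : ∑ v ∈ Finset.univ.filter (fun v => v ∈ MulAction.fixedPoints (Subgroup.zpowers σ) X), f v
      = ∑ k ∈ Finset.univ.filter (fun k : G => k ^ q = 1), x k ^ q := by
    refine (Finset.sum_bij' (fun k hk => (⟨(⟨List.replicate q k, List.length_replicate⟩ : List.Vector G q), ?_⟩ : X))
      (fun v _ => (v : List.Vector G q).toList.headD 1) ?_ ?_ ?_ ?_ ?_).symm
    · show (List.replicate q k).prod = 1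
      rw [List.prod_replicate]
      exact (Finset.mem_filter.1 hk).2
    · intro k hk
      refine Finset.mem_filter.2 ⟨Finset.mem_univ _, MulAction.mem_fixedPoints.2 ?_⟩
      rintro ⟨u, hu⟩
      obtain ⟨i, rfl⟩ := (IsOfFinOrder.mem_powers_iff_mem_zpowers (isOfFinOrder_of_finite σ)).2 hu
      exact (hσpow i _).trans (Subtype.ext (Subtype.ext (List.rotate_replicate _ _ _)))
    · intro v hv
      obtain ⟨a, ha⟩ : ∃ a, (v : List.Vector G q).toList = List.replicate q a := by
        have hfix := MulAction.mem_fixedPoints.1 (Finset.mem_filter.1 hv).2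
          ⟨σ, Subgroup.mem_zpowers σ⟩
        obtain ⟨a, ha⟩ := List.rotate_one_eq_self_iff_eq_replicate.1
          (congrArg (fun w : X => (w : List.Vector G q).toList) hfix)
        exact ⟨a, ha.trans (congrArg (List.replicate · a) v.1.2)⟩
      refine Finset.mem_filter.2 ⟨Finset.mem_univ _, ?_⟩
      have hprod := v.2
      rw [VectorsProdEqOne.mem_iff, ha, List.prod_replicate] at hprod
      rw [ha, List.headD_eq_head?_getD, List.head?_replicate, if_neg hq0.ne']
      exact hprod
    · intro k _
      show (List.replicate q k).headD 1 = k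
      rw [List.headD_eq_head?_getD, List.head?_replicate, if_neg hq0.ne']
      rfl
    · intro v hv
      have hfix := MulAction.mem_fixedPoints.1 (Finset.mem_filter.1 hv).2
        ⟨σ, Subgroup.mem_zpowers σ⟩
      obtain ⟨a, ha⟩ := List.rotate_one_eq_self_iff_eq_replicate.1
        (congrArg (fun w : X => (w : List.Vector G q).toList) hfix)
      replace ha := ha.trans (congrArg (List.replicate · a) v.1.2)
      refine Subtype.ext (Subtype.ext ?_)
      show List.replicate q ((v : List.Vector G q).toList.headD 1) = (v : List.Vector G q).toList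
      rw [show (v : List.Vector G q).toList = List.replicate q a from ha, List.headD_eq_head?_getD, List.head?_replicate, if_neg hq0.ne']
      rfl
    · intro k _
      show x k ^ q = ((List.replicate q k).map x).prod
      rw [List.map_replicate, List.prod_replicate]
  obtain ⟨r, hr, h3⟩ := CentralChar.sum_pow_prime_pow hM.1 n
    (Finset.univ.filter (fun k : G => k ^ q = 1)) (f := x) fun k _ => hc _
  rw [h0, ← Finset.sum_filter_add_sum_filter_not Finset.univ
    (fun v => v ∈ MulAction.fixedPoints (Subgroup.zpowers σ) X), h2]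
  rw [show ∑ k ∈ Finset.univ.filter (fun k : G => k ^ q = 1), x k ^ q
      = (∑ k ∈ Finset.univ.filter (fun k : G => k ^ q = 1), x k) ^ q - (p : ℂ) * r by
    linear_combination -h3]
  set A := (∑ k ∈ Finset.univ.filter (fun k : G => k ^ q = 1), x k) ^ q
  rw [show ∀ y : ℂ, A - (p : ℂ) * r + y - A = y - (p : ℂ) * r from fun y => by ring]
  exact memI_sub hM h1 (memI_mul_right hM (memI_p hM) (memR_of_isIntegral hM hr))

theorem memI_natCast_pow_sub (hM : IsPModular p M) (N n : ℕ) :
    MemLocalIdeal M ((N : ℂ) ^ p ^ n - N) := by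
  have : Fact p.Prime := ⟨hM.1⟩
  have h : (p : ℤ) ∣ ((N : ℤ) ^ p ^ n - N) := by
    rw [← ZMod.intCast_zmod_eq_zero_iff_dvd]
    push_cast
    rw [ZMod.pow_card_pow, sub_self]
  have h' := memI_intCast hM h
  push_cast at h'
  exact h'

/-- **Külshammer's formula** for the idempotent of the principal block at `p`-regular elements. -/
theorem principal_blockCoeff_formula (hM : IsPModular p M) {g : G} (hg : ¬ p ∣ orderOf g) :
    MemLocalIdeal M (blockCoeff (principalBlock M G) g -
      (Nat.card {xy : G × G // (∃ k : ℕ, orderOf xy.1 = p ^ k) ∧ ¬ p ∣ orderOf xy.2 ∧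
        xy.1 * xy.2 = g} : ℂ) / (Nat.card {y : G // ¬ p ∣ orderOf y} : ℂ)) := by
  classical
  have : Fact p.Prime := ⟨hM.1⟩
  have := Fintype.ofFinite G
  set one := BrauerPairs.oneIrr G
  set B := principalBlock M G
  have hB : IsPBlock M B := BrauerPairs.isPBlock_principal
  have h1B : one ∈ B := BrauerPairs.oneIrr_mem_principal hM
  set s := regConj p (one : G → ℂ) with hsdef
  have hsval : ∀ x, s x = if ¬ p ∣ orderOf x then 1 else 0 := fun x => by
    simp only [hsdef, regConj, pRegularPart, IsPRegular]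
    by_cases hd : p ∣ orderOf x <;> simp [one, BrauerPairs.oneIrr, hd]
  have hs : IsClassFunction G s := isClassFunction_regConj (irr_class one)
  set c := omegaFun s with hcdef
  have hcR : c ∈ intRing hM := omega_mem_intRing hM hs (memR_regConj hM one)
  set R := Nat.card {y : G // ¬ p ∣ orderOf y} with hR
  have hone : c one = R := by
    show omega (one : G → ℂ) s = (R : ℂ)
    rw [omega_eq_sum, hR, Nat.card_eq_fintype_card, Fintype.card_subtype,
      ← Finset.sum_boole]
    simp [hsval, one, BrauerPairs.oneIrr]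
  have hRunit : ¬ MemLocalIdeal M (R : ℂ) := by
    rw [← hone]
    exact not_memI_omega_regConj hM hB h1B (blockHeight_eq_zero_of_one rfl B) h1B
  set e := blockInd B with he
  have heR : e ∈ intRing hM := blockInd_mem_intRing hM hB
  set d : IrrCharacter G → ℂ := c - (R : IrrCharacter G → ℂ) * e with hd
  have hdI : ∀ χ, MemLocalIdeal M (d χ) := by
    intro χ
    show MemLocalIdeal M (c χ - (R : ℂ) * e χ)
    by_cases hχ : χ ∈ B
    · rw [he, blockInd_of_mem hχ, mul_one, ← hone]
      exact intRing_congr hM hcR (sameBlock_of_mem hM hB hχ h1B)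
    · rw [he, blockInd_of_notMem hχ, mul_zero, sub_zero,
        show c χ = 0 from omega_regConj_eq_zero hM hB h1B hχ]
      exact memI_zero hM
  have hdR : d ∈ intRing hM :=
    (intRing hM).sub_mem hcR ((intRing hM).mul_mem (natCast_mem _ R) heR)
  obtain ⟨N0, hN0⟩ := exists_small_pow hM hdI
  -- choice of the exponent
  set a := Nat.card G
  set n := (orderOf g).totient * (N0 + a + 1) with hn
  have htot : 1 ≤ (orderOf g).totient := Nat.totient_pos.2 (orderOf_pos g)
  have hnbig : N0 + a + 1 ≤ n := Nat.le_mul_of_pos_left _ htot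
  have hqn : n < p ^ n := Nat.lt_pow_self hM.1.one_lt
  have hgq : g ^ p ^ n = g := by
    conv_rhs => rw [← pow_one g]
    refine pow_eq_pow_iff_modEq.2 ?_
    have h := (Nat.ModEq.pow_totient (hM.1.coprime_iff_not_dvd.2 hg)).pow (N0 + a + 1)
    rwa [← pow_mul, one_pow] at h
  have hroot : ∀ k : G, (∃ j : ℕ, orderOf k = p ^ j) ↔ k ^ p ^ n = 1 := by
    refine fun k => ⟨fun ⟨j, hj⟩ => orderOf_dvd_iff_pow_eq_one.1 ?_, fun h => ?_⟩
    · rw [hj]
      refine pow_dvd_pow p ?_
      have h1 : j < p ^ j := Nat.lt_pow_self hM.1.one_lt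
      have h2 : p ^ j ≤ a := hj ▸ Nat.le_of_dvd Nat.card_pos (orderOf_dvd_natCard k)
      omega
    · obtain ⟨j, -, hj⟩ := (Nat.dvd_prime_pow hM.1).1 (orderOf_dvd_iff_pow_eq_one.2 h)
      exact ⟨j, hj⟩
  -- the count
  set Np := Nat.card {xy : G × G // (∃ k : ℕ, orderOf xy.1 = p ^ k) ∧ ¬ p ∣ orderOf xy.2 ∧
    xy.1 * xy.2 = g} with hNp
  have hcount : ∑ k ∈ Finset.univ.filter (fun k : G => k ^ p ^ n = 1), ofOmega c (k * g)
      = (Np : ℂ) := by
    have e1 : Np = Nat.card {k : G // k ^ p ^ n = 1 ∧ ¬ p ∣ orderOf (k * g)} := by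
      refine Nat.card_congr
        { toFun := fun xy => ⟨xy.1.1⁻¹, ?_, ?_⟩
          invFun := fun k => ⟨(k.1⁻¹, k.1 * g), ?_, k.2.2, inv_mul_cancel_left _ _⟩
          left_inv := fun xy => ?_
          right_inv := fun k => Subtype.ext (inv_inv _) }
      · rw [inv_pow, (hroot _).1 xy.2.1, inv_one]
      · rw [show xy.1.1⁻¹ * g = xy.1.2 from inv_mul_eq_of_eq_mul xy.2.2.2.symm]
        exact xy.2.2.1
      · rw [orderOf_inv]
        exact (hroot _).2 k.2.1
      · refine Subtype.ext (Prod.ext (inv_inv _) ?_)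
        exact inv_mul_eq_of_eq_mul xy.2.2.2.symm
    rw [e1, Nat.card_eq_fintype_card, Fintype.card_subtype, ← Finset.filter_filter,
      ← Finset.sum_boole]
    simp only [hcdef, ofOmega_omega hs, hsval]
  have hint : ∀ x, IsIntegral ℤ (ofOmega c x) := fun x => by
    rw [hcdef, ofOmega_omega hs, hsval]
    by_cases hd : p ∣ orderOf x <;> simp [hd, isIntegral_one, isIntegral_zero]
  have h1 := memI_pow_sub_sum_pow hM c hint hgq
  rw [hcount] at h1
  -- the power of the regular sum
  obtain ⟨t, ht⟩ := (Commute.all (⟨d, hdR⟩ : intRing (G := G) hM)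
    ⟨(R : IrrCharacter G → ℂ) * e, (intRing hM).mul_mem (natCast_mem _ R) heR⟩
    ).exists_add_pow_prime_pow_eq hM.1 n
  have ht' := congrArg Subtype.val ht
  push_cast at ht'
  rw [hd, sub_add_cancel, ← hd, mul_pow] at ht'
  have hee : ∀ m, e ^ (m + 1) = e := fun m => by
    induction m with
    | zero => exact pow_one e
    | succ m ih => rw [pow_succ, ih]; exact blockInd_mul_self B
  have heq : e ^ p ^ n = e := by
    rw [← Nat.succ_pred_eq_of_pos (pow_pos hM.1.pos n)]
    exact hee _
  rw [heq] at ht'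
  have h2 : MemLocalIdeal M (ofOmega (c ^ p ^ n) g - (R : ℂ) ^ p ^ n * blockCoeff B g) := by
    rw [ht', ofOmega_add, ofOmega_add]
    have e2 : (R : IrrCharacter G → ℂ) ^ p ^ n * e = ((R : ℂ) ^ p ^ n) • e := by ext χ; simp
    rw [e2, ofOmega_smul, blockCoeff_eq_ofOmega]
    simp only [Pi.add_apply, Pi.smul_apply, smul_eq_mul, ← he]
    rw [add_right_comm, add_sub_cancel_right]
    refine memI_add hM (hN0 _ (by omega) g) ?_
    have e3 : ∀ w : IrrCharacter G → ℂ, (p : IrrCharacter G → ℂ) * w = (p : ℂ) • w :=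
      fun w => by ext χ; simp
    simp only [mul_assoc]
    rw [e3, ofOmega_smul, Pi.smul_apply, smul_eq_mul]
    refine memI_mul_right hM (memI_p hM) ?_
    exact (intRing hM).mul_mem hdR ((intRing hM).mul_mem (natCast_mem _ R)
      ((intRing hM).mul_mem heR t.2)) g
  have hmain : MemLocalIdeal M ((R : ℂ) * blockCoeff B g - Np) := by
    refine memI_sub_trans hM ?_ (memI_natCast_pow_sub hM Np n)
    refine memI_sub_trans hM ?_ h1
    refine memI_sub_trans hM ?_ (memI_sub_comm h2)
    rw [← sub_mul]
    exact memI_mul_right hM (memI_sub_comm (memI_natCast_pow_sub hM R n)) (memR_blockCoeff hM hB g)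
  have hR0 : (R : ℂ) ≠ 0 := ne_zero_of_not_memI hM hRunit
  rw [show blockCoeff B g - (Np : ℂ) / (R : ℂ) = (R : ℂ)⁻¹ * ((R : ℂ) * blockCoeff B g - Np) by
    field_simp]
  exact memI_mul_left hM (memR_inv hM (memR_natCast hM R) hRunit) hmain

end Cfsg.Agent.Blocks
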