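import Cfsg.Agent.Lib.Blocks.LocalRank
import Cfsg.Agent.Lib.Star.Free

/-!
# Watanabe's theorem for blocks with abelian defect groups

For a maximal Brauer pair `(P, e)` with `P` abelian, `T` its stabiliser, and `ν` the projection of
`P` onto the points fixed by `T`:

* `card_eq_sum`: `k(B)` is the sum over `v ∈ P` of `l(b_v)` divided by the size of the orbit;
* `fibre_eq`: the same sum has the same value on every fibre of `ν`;
* `rank_eq_of_fixed`: `l(B) = l(b_u)` for `u` fixed by `T`;
* `main`: `k(B) = k(b_u)` and `l(B) = l(b_u)`.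
-/

set_option autoImplicit false
set_option maxHeartbeats 1000000
set_option synthInstance.maxHeartbeats 200000

open scoped ComplexConjugate

namespace Cfsg.Agent.Watanabe

open Cfsg Cfsg.Agent.Blocks Cfsg.Agent.BrauerPairs Cfsg.Agent.LocalRank

universe u

variable {G : Type u} [Group G] [Finite G] {p : ℕ} [Fact p.Prime] {M : Ideal AlgInt}
  {B : Set (IrrCharacter G)} {P : Subgroup G}
  {e : Set (IrrCharacter (Subgroup.centralizer (P : Set G)))}

open scoped Classical in
/-- The orbit of an element of `P` under the stabiliser of the pair. -/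
noncomputable def orb (M : Ideal AlgInt) (P : Subgroup G)
    (e : Set (IrrCharacter (Subgroup.centralizer (P : Set G)))) (v : P) : Finset P :=
  (Set.toFinite {w : P | ∃ t ∈ pairStab M P e, (w : G) = t * v * t⁻¹}).toFinset

omit [Fact p.Prime] in
theorem mem_orb {v w : P} : w ∈ orb M P e v ↔ ∃ t ∈ pairStab M P e, (w : G) = t * v * t⁻¹ := by
  simp [orb]

theorem self_mem_orb (v : P) : v ∈ orb M P e v :=
  mem_orb.2 ⟨1, one_mem _, by group⟩

theorem orb_eq {v w : P} (h : w ∈ orb M P e v) : orb M P e w = orb M P e v := by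
  obtain ⟨t, ht, hw⟩ := mem_orb.1 h
  ext x
  rw [mem_orb, mem_orb]
  constructor
  · rintro ⟨s, hs, hx⟩
    exact ⟨s * t, mul_mem hs ht, by rw [hx, hw]; group⟩
  · rintro ⟨s, hs, hx⟩
    exact ⟨s * t⁻¹, mul_mem hs (inv_mem ht), by rw [hx, hw]; group⟩

/-- One over the size of the orbit. -/
noncomputable def wt (M : Ideal AlgInt) (P : Subgroup G)
    (e : Set (IrrCharacter (Subgroup.centralizer (P : Set G)))) (v : P) : ℂ :=
  ((orb M P e v).card : ℂ)⁻¹

theorem wt_one : wt M P e 1 = 1 := by
  rw [wt, show orb M P e 1 = {1} from Finset.eq_singleton_iff_unique_mem.2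
    ⟨self_mem_orb 1, fun w hw => by
      obtain ⟨t, -, hw⟩ := mem_orb.1 hw
      exact Subtype.ext (by rw [hw]; simp)⟩]
  simp

theorem wt_mul_fixed {z : P} (hz : ∀ t ∈ pairStab M P e, t * (z : G) * t⁻¹ = z) (v : P) :
    wt M P e (z * v) = wt M P e v := by
  classical
  have h : orb M P e (z * v) = (orb M P e v).image (z * ·) := by
    ext w
    rw [Finset.mem_image, mem_orb]
    constructor
    · rintro ⟨t, ht, hw⟩
      refine ⟨z⁻¹ * w, mem_orb.2 ⟨t, ht, ?_⟩, mul_inv_cancel_left _ _⟩
      rw [Subgroup.coe_mul, Subgroup.coe_inv, hw, Subgroup.coe_mul]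
      calc (z : G)⁻¹ * (t * ((z : G) * v) * t⁻¹) =
            (z : G)⁻¹ * (t * z * t⁻¹) * (t * v * t⁻¹) := by group
        _ = _ := by rw [hz t ht, inv_mul_cancel, one_mul]
    · rintro ⟨x, hx, rfl⟩
      obtain ⟨t, ht, hx⟩ := mem_orb.1 hx
      refine ⟨t, ht, ?_⟩
      rw [Subgroup.coe_mul, hx, Subgroup.coe_mul]
      calc (z : G) * (t * v * t⁻¹) = (t * z * t⁻¹) * (t * v * t⁻¹) := by rw [hz t ht]
        _ = _ := by group
  rw [wt, wt, h, Finset.card_image_of_injective _ (mul_right_injective z)]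

/-- The pair at `v` below `(P, e)`. -/
noncomputable def below (hM : IsPModular p M) (hPe : IsBrauerPair p M P e) (v : P) :
    BrauerPairIdx G :=
  ⟨Subgroup.zpowers (v : G),
    (exists_subpair hM hPe (Q := Subgroup.zpowers (v : G)) (Subgroup.zpowers_le.2 v.2)).choose⟩

theorem below_isPBlock (hM : IsPModular p M) (hPe : IsBrauerPair p M P e) (v : P) :
    IsPBlock M (below hM hPe v).2 :=
  (exists_subpair hM hPe (Subgroup.zpowers_le.2 v.2)).choose_spec.1

theorem below_le (hM : IsPModular p M) (hPe : IsBrauerPair p M P e) (v : P) :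
    SubpairLE p M (below hM hPe v).1 (below hM hPe v).2 P e :=
  (exists_subpair hM hPe (Subgroup.zpowers_le.2 v.2)).choose_spec.2

theorem exists_order (hmax : IsMaximalBrauerPair p M B P e) (v : P) :
    ∃ k, orderOf (v : G) = p ^ k :=
  Star.exists_order_pow hmax.1.1.1 v

theorem below_mem (hM : IsPModular p M) (hmax : IsMaximalBrauerPair p M B P e) (v : P) :
    below hM hmax.1.1 v ∈ (Star.pairsAt M (v : G)) ∧
      IsBrauerPairOf p M B (below hM hmax.1.1 v).1 (below hM hmax.1.1 v).2 :=
  ⟨Star.mem_pairsAt.2 ⟨rfl, below_isPBlock hM _ v⟩,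
    (isBrauerPairOf_iff_of_le hM hmax.1.2.1 (below_le hM _ v)).1 hmax.1⟩

theorem lrank_below (hM : IsPModular p M) (hPe : IsBrauerPair p M P e) (v : P) :
    lrank p M P e (Subgroup.zpowers (v : G)) = blockRank p (below hM hPe v).2 :=
  lrank_eq hM hPe (below_le hM hPe v)

theorem rank_conjIdx (g : G) (a : BrauerPairIdx G) :
    blockRank p (conjIdx g a).2 = blockRank p a.2 := by
  show blockRank p (conjBlock a.1 g a.2) = _
  rw [conjBlock_eq_conjImg, conjImg]
  exact blockRank_pullIrr p _ _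

theorem conjIdx_centralizer (hM : IsPModular p M) {u c : G} {a : BrauerPairIdx G}
    (ha : a ∈ Star.pairsAt M u) (hc : Commute u c) : conjIdx c a = a := by
  obtain ⟨h1, h2⟩ := Star.mem_pairsAt.1 ha
  obtain ⟨V, b⟩ := a
  obtain rfl : V = Subgroup.zpowers u := h1
  have hcC : c ∈ Subgroup.centralizer (Subgroup.zpowers u : Set G) :=
    SecondMain.mem_centralizer_zpowers_iff.2 hc
  refine idx_ext hM ?_ (isPBlock_conjBlock _ _ h2) h2 ?_
  · show conjSub c (Subgroup.zpowers u) = _
    rw [KleinDefect.conjSub_zpowers, hc.symm.eq, mul_inv_cancel_right]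
  · show cb M (conjSub c _) (conjBlock _ c b) = cb M _ b
    rw [← cj_cb hM]
    exact (bIdem_central _ b).2 c hcC

open scoped Classical in
/-- The sums over the classes of pairs of `B`, taken along the orbits on `P`. -/
theorem pairs_sum [Fintype G] [Fintype P] (hM : IsPModular p M)
    (hmax : IsMaximalBrauerPair p M B P e) (hab : ∀ x ∈ P, ∀ y ∈ P, x * y = y * x)
    (F : G → BrauerPairIdx G → ℂ)
    (hF : ∀ g u, ∀ a ∈ Star.pairsAt M u, F (g * u * g⁻¹) (conjIdx g a) = F u a) :
    ∑ u ∈ (Set.toFinite {u : G | ∃ k, orderOf u = p ^ k}).toFinset,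
      ∑ a ∈ (Star.pairsAt M u).filter (fun a => IsBrauerPairOf p M B a.1 a.2),
        (Nat.card (Subgroup.centralizer (Subgroup.zpowers u : Set G)) : ℂ) * F u a =
      (Nat.card G : ℂ) * ∑ v : P, wt M P e v * F v (below hM hmax.1.1 v) := by
  have hPe := hmax.1.1
  set I : Finset (Σ _ : G, BrauerPairIdx G) :=
    (Set.toFinite {u : G | ∃ k, orderOf u = p ^ k}).toFinset.sigma
      fun u => (Star.pairsAt M u).filter fun a => IsBrauerPairOf p M B a.1 a.2 with hI
  set μ : G × P → (Σ _ : G, BrauerPairIdx G) :=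
    fun x => ⟨x.1 * x.2 * x.1⁻¹, conjIdx x.1 (below hM hPe x.2)⟩ with hμ
  have hmaps : ∀ x ∈ (Finset.univ : Finset (G × P)), μ x ∈ I := by
    rintro ⟨g, v⟩ -
    obtain ⟨k, hk⟩ := exists_order hmax v
    refine Finset.mem_sigma.2 ⟨?_, Finset.mem_filter.2 ⟨?_, ?_⟩⟩
    · simp only [Set.Finite.mem_toFinset, Set.mem_setOf_eq, hμ]
      exact ⟨k, by rw [SecondMain.orderOf_conj, hk]⟩
    · refine Star.mem_pairsAt.2 ⟨?_, isPBlock_conjBlock _ _ (below_isPBlock hM hPe v)⟩
      exact KleinDefect.conjSub_zpowers g (v : G)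
    · exact isBrauerPairOf_conj hM (below_mem hM hmax v).2 g
  have hfib : ∀ z ∈ I, ∑ x ∈ (Finset.univ : Finset (G × P)).filter (fun x => μ x = z),
      wt M P e x.2 = (Nat.card (Subgroup.centralizer (Subgroup.zpowers z.1 : Set G)) : ℂ) := by
    rintro ⟨u, a⟩ hz
    obtain ⟨-, ha⟩ := Finset.mem_sigma.1 hz
    obtain ⟨ha, haB⟩ := Finset.mem_filter.1 ha
    obtain ⟨h1, h2⟩ := Star.mem_pairsAt.1 ha
    obtain ⟨x, hx⟩ := exists_conj_le_maximal hM hmax haB
    have hx' : SubpairLE p M (conjIdx x a).1 (conjIdx x a).2 P e := hx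
    set v₀ : P := ⟨x * u * x⁻¹, Star.conjIdx_mem_P (p := p) h1 hx'⟩
    have hb₀ : below hM hPe v₀ = conjIdx x a := by
      obtain ⟨b, hb⟩ := KleinDefect.exists_idx_of_fst (a := conjIdx x a)
        (show conjSub x a.1 = Subgroup.zpowers (v₀ : G) by
          rw [h1, KleinDefect.conjSub_zpowers])
      have hble : SubpairLE p M (Subgroup.zpowers (v₀ : G)) b P e := by
        unfold SubpairLE at hx' ⊢
        rw [hb]
        exact hx'
      rw [← hb, below, subpair_unique hM hPe hble (below_le hM hPe v₀)]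
      rfl
    have hμ₀ : conjIdx x⁻¹ (below hM hPe v₀) = a := by
      rw [hb₀, conjIdx_conjIdx hM _ _ h2, inv_mul_cancel, conjIdx_one hM h2]
    have hex : ∀ v : P, ∃ t : G, v ∈ orb M P e v₀ →
        t ∈ pairStab M P e ∧ (v : G) = t * v₀ * t⁻¹ := fun v => by
      by_cases hv : v ∈ orb M P e v₀
      · obtain ⟨t, ht⟩ := mem_orb.1 hv
        exact ⟨t, fun _ => ht⟩
      · exact ⟨1, fun h => absurd h hv⟩
    choose tv htv using hex
    calc ∑ y ∈ (Finset.univ : Finset (G × P)).filter (fun y => μ y = ⟨u, a⟩), wt M P e y.2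
        = ∑ y ∈ (Finset.univ : Finset (Subgroup.centralizer (Subgroup.zpowers u : Set G))) ×ˢ
            orb M P e v₀, wt M P e y.2 := by
          symm
          refine Finset.sum_nbij (fun y => ((y.1 : G) * x⁻¹ * (tv y.2)⁻¹, y.2))
            (fun y hy => ?_) (fun y hy y' hy' h => ?_) (fun y hy => ?_) fun _ _ => rfl
          · obtain ⟨-, hv⟩ := Finset.mem_product.1 hy
            obtain ⟨ht, hval⟩ := htv _ hv
            have hc : Commute u (y.1 : G) := SecondMain.mem_centralizer_zpowers_iff.1 y.1.2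
            refine Finset.mem_filter.2 ⟨Finset.mem_univ _, ?_⟩
            have hu : (y.1 : G) * x⁻¹ * (tv y.2)⁻¹ * (y.2 : G) *
                ((y.1 : G) * x⁻¹ * (tv y.2)⁻¹)⁻¹ = u := by
              rw [hval]
              show (y.1 : G) * x⁻¹ * (tv y.2)⁻¹ * (tv y.2 * (x * u * x⁻¹) * (tv y.2)⁻¹) * _ = u
              calc _ = (y.1 : G) * u * (y.1 : G)⁻¹ := by group
                _ = u := by rw [← hc.eq, mul_inv_cancel_right]
            have ha' : conjIdx ((y.1 : G) * x⁻¹ * (tv y.2)⁻¹) (below hM hPe y.2) = a := by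
              have h := KleinDefect.conj_pair_eq hM hmax (inv_mem ht) (v := (y.2 : G))
                (w := (v₀ : G)) (by rw [hval]; group) (below_le hM hPe y.2) (below_le hM hPe v₀)
              rw [← conjIdx_conjIdx hM ((y.1 : G) * x⁻¹) (tv y.2)⁻¹ (below_isPBlock hM hPe y.2),
                show conjIdx (tv y.2)⁻¹ (below hM hPe y.2) = below hM hPe v₀ from h,
                ← conjIdx_conjIdx hM (y.1 : G) x⁻¹ (below_isPBlock hM hPe v₀), hμ₀,
                conjIdx_centralizer hM ha hc]
            simp only [hμ, Sigma.mk.injEq, heq_eq_eq]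
            exact ⟨hu, ha'⟩
          · simp only [Prod.mk.injEq] at h
            obtain ⟨h1', h2'⟩ := h
            rw [h2'] at h1'
            exact Prod.ext (Subtype.ext (mul_right_cancel (mul_right_cancel h1'))) h2'
          · obtain ⟨g, v⟩ := y
            have hy' := (Finset.mem_filter.1 hy).2
            simp only [hμ, Sigma.mk.injEq, heq_eq_eq] at hy'
            obtain ⟨hgu, hga⟩ := hy'
            have hcan : conjIdx (g⁻¹ * x⁻¹) (below hM hPe v₀) = below hM hPe v :=
              KleinDefect.conjIdx_cancel hM (below_isPBlock hM hPe v₀) (below_isPBlock hM hPe v)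
                (hμ₀.trans hga.symm)
            obtain ⟨c, hc, hct⟩ := KleinDefect.fusion_of_abelian hM hmax hab (below_le hM hPe v₀)
              (below_isPBlock hM hPe v) (below_le hM hPe v) hcan
            have hcv : Commute (v : G) c := SecondMain.mem_centralizer_zpowers_iff.1 hc
            have hv : v ∈ orb M P e v₀ := by
              refine mem_orb.2 ⟨_, hct, ?_⟩
              show (v : G) = c * (g⁻¹ * x⁻¹) * (x * u * x⁻¹) * (c * (g⁻¹ * x⁻¹))⁻¹
              rw [← hgu]
              calc (v : G) = c * (v : G) * c⁻¹ := by rw [← hcv.eq, mul_inv_cancel_right]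
                _ = _ := by group
            obtain ⟨ht, hval⟩ := htv _ hv
            have hmem : g * tv v * x ∈ Subgroup.centralizer (Subgroup.zpowers u : Set G) := by
              refine SecondMain.mem_centralizer_zpowers_iff.2 ?_
              show u * (g * tv v * x) = g * tv v * x * u
              conv_lhs => rw [← hgu, hval]
              show g * (tv v * (x * u * x⁻¹) * (tv v)⁻¹) * g⁻¹ * (g * tv v * x) = _
              group
            refine ⟨(⟨_, hmem⟩, v), Finset.mem_product.2 ⟨Finset.mem_univ _, hv⟩, ?_⟩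
            simp only [Prod.mk.injEq, and_true]
            group
      _ = _ := by
          rw [Finset.sum_product, Finset.sum_congr rfl fun c _ => Finset.sum_congr rfl
            fun v hv => show wt M P e v = ((orb M P e v₀).card : ℂ)⁻¹ by rw [wt, orb_eq hv]]
          simp only [Finset.sum_const, Finset.card_univ, nsmul_eq_mul]
          rw [mul_inv_cancel₀ (Nat.cast_ne_zero.2 (Finset.card_ne_zero_of_mem (self_mem_orb v₀))),
            mul_one, Nat.card_eq_fintype_card]
  calc _ = ∑ z ∈ I, (Nat.card (Subgroup.centralizer (Subgroup.zpowers z.1 : Set G)) : ℂ) *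
        F z.1 z.2 := Finset.sum_sigma' _ _ _
    _ = ∑ z ∈ I, ∑ x ∈ (Finset.univ : Finset (G × P)).filter (fun x => μ x = z),
        wt M P e x.2 * F (μ x).1 (μ x).2 := by
      refine Finset.sum_congr rfl fun z hz => ?_
      rw [← hfib z hz, Finset.sum_mul]
      exact Finset.sum_congr rfl fun x hx => by rw [(Finset.mem_filter.1 hx).2]
    _ = ∑ x : G × P, wt M P e x.2 * F (μ x).1 (μ x).2 :=
      Finset.sum_fiberwise_of_maps_to hmaps _
    _ = _ := by
      rw [Fintype.sum_prod_type, Finset.sum_congr rfl fun g _ => Finset.sum_congr rfl fun v _ =>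
        show wt M P e v * F (μ (g, v)).1 (μ (g, v)).2 = wt M P e v * F v (below hM hPe v) by
          simp only [hμ]
          rw [hF g (v : G) _ (below_mem hM hmax v).1],
        Finset.sum_const, Finset.card_univ, nsmul_eq_mul, Nat.card_eq_fintype_card]

open scoped Classical in
/-- The trace of the star construction on a block. -/
theorem star_trace [Fintype G] [Fintype P] (hM : IsPModular p M)
    (hmax : IsMaximalBrauerPair p M B P e) (hab : ∀ x ∈ P, ∀ y ∈ P, x * y = y * x)
    {F : FusionSystem P} (hF : IsBlockFusionSystemOn p M B P e F) {l : P →* ℂˣ}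
    (hl : Star.IsFocTrivial F l) :
    ∑ v : P, wt M P e v * (lrank p M P e (Subgroup.zpowers (v : G)) : ℂ) * (l v : ℂ) =
      if l = 1 then (Nat.card B : ℂ) else 0 := by
  have hB := hmax.1.2.1
  have hPe := hmax.1.1
  have := Fintype.ofFinite (IrrCharacter G)
  have := Fintype.ofFinite B
  have hw : ∀ v : P, Star.wgt p M P e l (v : G) (below hM hPe v) = (l v : ℂ) := fun v => by
    rw [Star.wgt_eq hM hF hl rfl (below_isPBlock hM hPe v) (x := 1)
      (by rw [conjIdx_one hM (below_isPBlock hM hPe v)]; exact below_le hM hPe v),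
      one_mul, inv_one, mul_one, Star.lval_coe]
  have hfixed : ∀ χ : B, classInner (Star.star p M P e l ((χ : IrrCharacter G) : G → ℂ))
      ((χ : IrrCharacter G) : G → ℂ) = if l = 1 then 1 else 0 := by
    intro χ
    obtain ⟨ψ, hψ, -, -⟩ := Star.exists_star_irr hM hmax hF hl χ.2
    rw [← hψ]
    by_cases hl1 : l = 1
    · rw [if_pos hl1, show ψ = (χ : IrrCharacter G) from Subtype.ext (by
        rw [hψ, hl1, Star.star_one hM hmax hF χ.2]), Char.classInner_irr_self (χ : IrrCharacter G).2]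
    · rw [if_neg hl1]
      refine Char.classInner_irr_of_ne ψ.2 (χ : IrrCharacter G).2 fun h => hl1 ?_
      refine MonoidHom.ext fun v => Units.val_eq_one.1 ?_
      obtain ⟨ha, haB⟩ := below_mem hM hmax v
      rw [← hw v]
      exact Star.wgt_eq_one_of_fixed hM hmax hF hl χ.2 (hψ.symm.trans h) (exists_order hmax v) ha
        haB (Star.exists_piece_ne_zero_of_defect hM (exists_order hmax v) ha haB
          (Star.blockDefect_eq_of_major hM hmax (exists_order hmax v) ha (below_le hM hPe v)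
            fun y hy => hab v v.2 y hy) χ.2)
  have hsum : ∑ χ : B, classInner (Star.star p M P e l ((χ : IrrCharacter G) : G → ℂ))
      ((χ : IrrCharacter G) : G → ℂ) =
      (Nat.card G : ℂ)⁻¹ * ∑ u ∈ (Set.toFinite {u : G | ∃ k, orderOf u = p ^ k}).toFinset,
        ∑ a ∈ (Star.pairsAt M u).filter (fun a => IsBrauerPairOf p M B a.1 a.2),
          (Nat.card (Subgroup.centralizer (Subgroup.zpowers u : Set G)) : ℂ) *
            (Star.wgt p M P e l u a * (blockRank p a.2 : ℂ)) := by
    simp only [classInner]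
    rw [← Finset.mul_sum]
    congr 1
    simp only [Star.sum_by_sections (p := p)]
    rw [Finset.sum_comm]
    refine Finset.sum_congr rfl fun u hu => ?_
    replace hu : ∃ k, orderOf u = p ^ k := by simpa using hu
    set S := (Star.pairsAt M u).filter fun a => IsBrauerPairOf p M B a.1 a.2
    have h1 : ∀ χ : B, ∑ s ∈ Star.regSet p u,
        Star.star p M P e l ((χ : IrrCharacter G) : G → ℂ) (u * s) *
          conj (((χ : IrrCharacter G) : G → ℂ) (u * s)) =
        ∑ a ∈ S, Star.wgt p M P e l u a *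
          Star.pieceNorm p a ((χ : IrrCharacter G) : G → ℂ) u := by
      intro χ
      rw [Finset.sum_congr rfl fun s hs => show _ = (∑ a ∈ S, Star.wgt p M P e l u a *
          Star.piece a ((χ : IrrCharacter G) : G → ℂ) (u * s)) *
          conj (∑ b ∈ S, Star.piece b ((χ : IrrCharacter G) : G → ℂ) (u * s)) by
        rw [Star.star_apply hM hmax hF hl _ hu (Star.mem_regSet.1 hs).2 (Star.mem_regSet.1 hs).1,
          Star.sum_piece_pairs hM hu (Star.mem_regSet.1 hs).2 (Star.mem_regSet.1 hs).1 hB χ.2]]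
      simp only [map_sum, Finset.mul_sum]
      rw [Finset.sum_comm]
      refine Finset.sum_congr rfl fun b hb => ?_
      exact Star.sum_piece_mul hM S (Finset.filter_subset _ _) _
        (irr_class (χ : IrrCharacter G)) hb
    rw [Finset.sum_congr rfl fun χ _ => h1 χ, Finset.sum_comm]
    refine Finset.sum_congr rfl fun a ha => ?_
    obtain ⟨ha, haB⟩ := Finset.mem_filter.1 ha
    obtain ⟨V, b⟩ := a
    obtain rfl : V = Subgroup.zpowers u := (Star.mem_pairsAt.1 ha).1
    have := Fintype.ofFinite (Subgroup.centralizer (Subgroup.zpowers u : Set G))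
    rw [← Finset.mul_sum]
    have h2 := SecondMain.sum_blockPart_sq hM hu
      (fun g => SecondMain.mem_centralizer_zpowers_iff) hB (b := b)
      (SecondMain.induced_of_brauerPair hM hu haB)
    rw [finsum_mem_eq_toFinset_sum, Finset.sum_subtype B.toFinset (p := (· ∈ B))
      fun x => Set.mem_toFinset] at h2
    rw [show ∑ χ : B, Star.pieceNorm p ⟨Subgroup.zpowers u, b⟩ ((χ : IrrCharacter G) : G → ℂ) u =
      (Nat.card (Subgroup.centralizer (Subgroup.zpowers u : Set G)) : ℂ) * (blockRank p b : ℂ) from ?_]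
    · ring
    · rw [← h2]
      refine Finset.sum_congr rfl fun χ _ => ?_
      rw [Star.pieceNorm, Star.sum_regSet u]
      simp only [Star.piece_eq_blockPart _ (irr_class (χ : IrrCharacter G))]
  rw [Finset.sum_congr rfl fun χ _ => hfixed χ, pairs_sum hM hmax hab
    (fun u a => Star.wgt p M P e l u a * (blockRank p a.2 : ℂ)) (fun g u a ha => by
      simp only [Star.wgt_conj hM hF hl g u a ha, rank_conjIdx]), ← mul_assoc,
    inv_mul_cancel₀ (Nat.cast_ne_zero.2 Nat.card_pos.ne'), one_mul] at hsum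
  rw [show (if l = 1 then (Nat.card B : ℂ) else 0) = ∑ χ : B, if l = 1 then (1 : ℂ) else 0 by
    split_ifs <;> simp [Nat.card_eq_fintype_card], hsum]
  refine Finset.sum_congr rfl fun v _ => ?_
  rw [hw, lrank_below hM hPe]
  ring

open scoped Classical in
/-- The count of the characters of a block along the orbits on `P`. -/
theorem card_eq_sum [Fintype P] (hM : IsPModular p M) (hmax : IsMaximalBrauerPair p M B P e)
    (hab : ∀ x ∈ P, ∀ y ∈ P, x * y = y * x) :
    (Nat.card B : ℂ) =
      ∑ v : P, wt M P e v * (lrank p M P e (Subgroup.zpowers (v : G)) : ℂ) := by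
  have := Fintype.ofFinite G
  have h := star_trace hM hmax hab (isBlockFusionSystemOn_blockFusion hM hmax)
    (l := 1) Star.isFocTrivial_one
  rw [if_pos rfl] at h
  rw [← h]
  simp

open scoped Classical in
/-- The weighted sums of the local ranks are equal on the fibres of the projection. -/
theorem fibre_eq [Fintype P] (hM : IsPModular p M) (hmax : IsMaximalBrauerPair p M B P e)
    (hab : ∀ x ∈ P, ∀ y ∈ P, x * y = y * x) {ν : P →* P}
    (hν : ∀ t ∈ pairStab M P e, ∀ x y : P, (y : G) = t * x * t⁻¹ → ν y = ν x) {r : P}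
    (hr : r ∈ ν.range) :
    ∑ v ∈ Finset.univ.filter (fun v : P => ν v = r),
        wt M P e v * (lrank p M P e (Subgroup.zpowers (v : G)) : ℂ) =
      ∑ v ∈ Finset.univ.filter (fun v : P => ν v = 1),
        wt M P e v * (lrank p M P e (Subgroup.zpowers (v : G)) : ℂ) := by
  have := Fintype.ofFinite G
  let _ : CommGroup P :=
    { (inferInstance : Group P) with mul_comm := fun a b => Subtype.ext (hab a a.2 b b.2) }
  haveI : NeZero (Monoid.exponent P : ℂ) :=
    ⟨Nat.cast_ne_zero.mpr Monoid.exponent_ne_zero_of_finite⟩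
  haveI : Finite (P →* ℂˣ) := Finite.of_equiv P
    (CommGroup.monoidHom_mulEquiv_of_hasEnoughRootsOfUnity P ℂ).some.symm.toEquiv
  have := Fintype.ofFinite (P →* ℂˣ)
  have horth : ∀ x : P, ∑ γ : P →* ℂˣ, (γ x : ℂ) =
      if x = 1 then (Fintype.card (P →* ℂˣ) : ℂ) else 0 := by
    intro x
    by_cases hx : x = 1
    · simp [hx]
    · rw [if_neg hx]
      obtain ⟨ψ, hψ⟩ := CommGroup.exists_apply_ne_one_of_hasEnoughRootsOfUnity P ℂ hx
      have h1 : ∑ γ : P →* ℂˣ, (γ x : ℂ) = (ψ x : ℂ) * ∑ γ : P →* ℂˣ, (γ x : ℂ) := by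
        rw [Finset.mul_sum]
        exact (Fintype.sum_equiv (Equiv.mulLeft ψ) _ _ fun γ => by simp).symm
      by_contra h0
      exact hψ (Units.val_eq_one.mp (mul_eq_right₀ h0 |>.mp h1.symm))
  have hF := isBlockFusionSystemOn_blockFusion hM hmax
  have key : ∀ s ∈ ν.range, (Fintype.card (P →* ℂˣ) : ℂ) *
      ∑ v ∈ Finset.univ.filter (fun v : P => ν v = s),
        wt M P e v * (lrank p M P e (Subgroup.zpowers (v : G)) : ℂ) =
      ∑ γ : P →* ℂˣ, if γ.comp ν = 1 then (Nat.card B : ℂ) else 0 := by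
    intro s hs
    obtain ⟨s₀, rfl⟩ := hs
    have h : ∀ γ : P →* ℂˣ, (γ (ν s₀)⁻¹ : ℂ) *
        ∑ v : P, wt M P e v * (lrank p M P e (Subgroup.zpowers (v : G)) : ℂ) *
          ((γ.comp ν) v : ℂ) = if γ.comp ν = 1 then (Nat.card B : ℂ) else 0 := by
      intro γ
      rw [star_trace hM hmax hab hF (fun x hx => focal_le_ker hM hF hab (γ.comp ν)
        (fun t ht a b hab' => congrArg γ (hν t ht a b hab')) hx)]
      split_ifs with h1
      · rw [show γ (ν s₀)⁻¹ = 1 by rw [map_inv, ← MonoidHom.comp_apply, h1]; simp,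
          Units.val_one, one_mul]
      · rw [mul_zero]
    rw [← Finset.sum_congr rfl fun γ _ => h γ]
    simp only [Finset.mul_sum]
    rw [Finset.sum_comm, Finset.sum_filter]
    refine Finset.sum_congr rfl fun v _ => ?_
    rw [Finset.sum_congr rfl fun γ _ => show (γ (ν s₀)⁻¹ : ℂ) *
        (wt M P e v * (lrank p M P e (Subgroup.zpowers (v : G)) : ℂ) * ((γ.comp ν) v : ℂ)) =
        wt M P e v * (lrank p M P e (Subgroup.zpowers (v : G)) : ℂ) *
          (γ ((ν s₀)⁻¹ * ν v) : ℂ) by
      rw [MonoidHom.comp_apply, map_mul, Units.val_mul]; ring, ← Finset.mul_sum, horth]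
    by_cases hv : ν v = ν s₀
    · rw [if_pos hv, if_pos (by rw [hv, inv_mul_cancel])]
      ring
    · rw [if_neg hv, if_neg fun h0 => hv (inv_mul_eq_one.1 h0).symm]
      simp
  exact mul_left_cancel₀ (Nat.cast_ne_zero.2 Fintype.card_ne_zero)
    ((key r hr).trans (key 1 (one_mem _)).symm)

/-- A block at a subpair and the pairs below it. -/
theorem exists_down (hM : IsPModular p M) (hmax : IsMaximalBrauerPair p M B P e)
    (hab : ∀ x ∈ P, ∀ y ∈ P, x * y = y * x) {Q : Subgroup G} (hQP : Q ≤ P)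
    {f : Set (IrrCharacter (Subgroup.centralizer (Q : Set G)))} (hf : IsPBlock M f)
    (hle : SubpairLE p M Q f P e) :
    ∃ (P' : Subgroup (Subgroup.centralizer (Q : Set G)))
      (e' : Set (IrrCharacter (Subgroup.centralizer (P' : Set (Subgroup.centralizer (Q : Set G)))))),
      IsMaximalBrauerPair p M f P' e' ∧ P'.map (Subgroup.centralizer (Q : Set G)).subtype = P ∧
      (∀ x : Subgroup.centralizer (Q : Set G), x ∈ pairStab M P' e' ↔ (x : G) ∈ pairStab M P e) ∧
      (∀ Q' : Subgroup (Subgroup.centralizer (Q : Set G)), Q' ≤ P' →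
        Q ≤ Q'.map (Subgroup.centralizer (Q : Set G)).subtype →
        lrank p M P' e' Q' = lrank p M P e (Q'.map (Subgroup.centralizer (Q : Set G)).subtype)) := by
  have hCN := centralizer_le_normalizer hM Q
  obtain ⟨hPH, hD⟩ := KleinDefect.local_defectGroup hM hmax hab hf hle
  obtain ⟨-, hPe, -, -, -, hbr⟩ := (isNormalSubpair_iff hM).1
    (normalSubpair_of_le hM hmax.1.1 hle (hPH.trans hCN))
  obtain ⟨P', hmap, hP'⟩ := KleinDefect.exists_down hPH
  rw [← hP'] at hD
  have hPe' := hmax.1.1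
  clear hP' hle hmax
  subst hmap
  have hC : Subgroup.centralizer
      ((P'.map (Subgroup.centralizer (Q : Set G)).subtype : Subgroup G) : Set G) ≤
        Subgroup.centralizer (Q : Set G) :=
    Subgroup.centralizer_le hQP
  obtain ⟨e', he', hup⟩ := exists_upBlock hM P' hC hPe.2
  subst hup
  have hpair : IsBrauerPairOf p M f P' e' :=
    (isBrauerPairOf_sub_iff hM P' hC hf he').2 ⟨hPe.1, hbr⟩
  have hmax' := isMaximal_of_isDefectGroup hM hpair hD
  refine ⟨P', e', hmax', rfl, fun x => ?_, fun Q' hQ' hQQ' => ?_⟩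
  · rw [mem_pairStab, mem_pairStab, mem_normalizer_sub_iff hM P' x, ← emb_cb hM P' hC, ← emb_cj,
      (emb_injective _).eq_iff]
  · obtain ⟨g, hg, hgle⟩ := exists_subpair hM hmax'.1.1 hQ'
    have hC' : Subgroup.centralizer
        ((Q'.map (Subgroup.centralizer (Q : Set G)).subtype : Subgroup G) : Set G) ≤
          Subgroup.centralizer (Q : Set G) := Subgroup.centralizer_le hQQ'
    rw [lrank_eq hM hmax'.1.1 hgle, lrank_eq hM hPe' (subpairLE_up hM hC' hgle),
      upBlock_eq Q' hC', blockRank_pullIrr]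

theorem zpowers_sup_mul {H : Type*} [Group H] (u v : H) :
    Subgroup.zpowers (u * v) ⊔ Subgroup.zpowers u = Subgroup.zpowers v ⊔ Subgroup.zpowers u := by
  have hu : ∀ {K : Subgroup H}, u ∈ K ⊔ Subgroup.zpowers u := fun {K} =>
    Subgroup.mem_sup_right (Subgroup.mem_zpowers u)
  refine le_antisymm (sup_le (Subgroup.zpowers_le.2 (mul_mem hu
    (Subgroup.mem_sup_left (Subgroup.mem_zpowers v)))) le_sup_right)
    (sup_le (Subgroup.zpowers_le.2 ?_) le_sup_right)
  have h := mul_mem (inv_mem (hu (K := Subgroup.zpowers (u * v))))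
    (Subgroup.mem_sup_left (Subgroup.mem_zpowers (u * v)))
  rwa [inv_mul_cancel_left] at h

/-- Adding a central element does not change the centraliser. -/
theorem centralizer_sup_central {H : Type*} [Group H] {Z : Subgroup H} (Q : Subgroup H)
    (hZ : ∀ z ∈ Z, ∀ x, z * x = x * z) :
    Subgroup.centralizer ((Z ⊔ Q : Subgroup H) : Set H) = Subgroup.centralizer (Q : Set H) := by
  refine le_antisymm (Subgroup.centralizer_le (SetLike.coe_subset_coe.2 le_sup_right))
    (Subgroup.le_centralizer_iff.1 ?_)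
  refine sup_le (fun z hz => Subgroup.mem_centralizer_iff.2 fun x _ => (hZ z hz x).symm) ?_
  exact Subgroup.le_centralizer_iff.1 le_rfl

theorem zpowers_central {H : Type*} [Group H] {v : H} (hv : ∀ x, v * x = x * v) :
    ∀ z ∈ Subgroup.zpowers v, ∀ x, z * x = x * z := by
  rintro z hz x
  obtain ⟨i, rfl⟩ := Subgroup.mem_zpowers_iff.1 hz
  exact (Commute.zpow_left (hv x : Commute v x) i).eq

/-- The rank of a block is the local rank at the elements fixed by the stabiliser. -/
theorem rank_eq_of_fixed_aux (hM : IsPModular p M) : ∀ (n : ℕ) {G : Type u} [Group G] [Finite G]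
    {B : Set (IrrCharacter G)} {P : Subgroup G}
    {e : Set (IrrCharacter (Subgroup.centralizer (P : Set G)))}, Nat.card G = n →
    IsMaximalBrauerPair p M B P e → (∀ x ∈ P, ∀ y ∈ P, x * y = y * x) → ∀ {u : G}, u ∈ P →
    (∀ t ∈ pairStab M P e, t * u * t⁻¹ = u) →
    lrank p M P e (Subgroup.zpowers u) = blockRank p B := by
  intro n
  induction n using Nat.strong_induction_on with
  | _ n ih =>
    intro G _ _ B P e hn hmax hab u hu hfix
    classical
    have := Fintype.ofFinite P
    have hPe := hmax.1.1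
    -- the ranks at the non-central elements
    have step : ∀ v : G, v ∈ P → Subgroup.centralizer (Subgroup.zpowers v : Set G) ≠ ⊤ →
        lrank p M P e (Subgroup.zpowers v) =
          lrank p M P e (Subgroup.zpowers v ⊔ Subgroup.zpowers u) := by
      intro v hv hvc
      set H := Subgroup.centralizer (Subgroup.zpowers v : Set G)
      obtain ⟨f, hf, hle⟩ := exists_subpair hM hPe (Q := Subgroup.zpowers v)
        (Subgroup.zpowers_le.2 hv)
      obtain ⟨P', e', hmax', hmap, hst, hlr⟩ :=
        exists_down hM hmax hab (Subgroup.zpowers_le.2 hv) hf hle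
      have hvH : v ∈ H := SecondMain.mem_centralizer_zpowers_iff.2 (Commute.refl v)
      have huH : u ∈ H := SecondMain.mem_centralizer_zpowers_iff.2 (hab v hv u hu)
      have hmemP : ∀ w : H, (w : G) ∈ P → w ∈ P' := fun w hw => by
        rw [← hmap] at hw
        obtain ⟨w', hw', h⟩ := hw
        exact Subtype.ext h ▸ hw'
      have hlt : Nat.card H < n := by
        rw [← hn]
        exact lt_of_le_of_ne (Subgroup.card_le_card_group _)
          fun h => hvc (Subgroup.eq_top_of_card_eq _ h)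
      have hab' : ∀ x ∈ P', ∀ y ∈ P', x * y = y * x := fun x hx y hy => Subtype.ext
        (hab _ (hmap ▸ Subgroup.mem_map_of_mem _ hx) _ (hmap ▸ Subgroup.mem_map_of_mem _ hy))
      have h := ih _ hlt rfl hmax' hab' (u := ⟨u, huH⟩) (hmemP _ hu) fun t ht =>
        Subtype.ext (hfix _ ((hst t).1 ht))
      have hQ : Subgroup.zpowers (⟨v, hvH⟩ : H) ⊔ Subgroup.zpowers ⟨u, huH⟩ ≤ P' :=
        sup_le (Subgroup.zpowers_le.2 (hmemP _ hv)) (Subgroup.zpowers_le.2 (hmemP _ hu))
      have hmapQ : (Subgroup.zpowers (⟨v, hvH⟩ : H) ⊔ Subgroup.zpowers ⟨u, huH⟩).map H.subtype =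
          Subgroup.zpowers v ⊔ Subgroup.zpowers u := by
        rw [Subgroup.map_sup, MonoidHom.map_zpowers, MonoidHom.map_zpowers]
        rfl
      rw [lrank_eq hM hPe hle, ← h, lrank_congr hM hmax'.1.1 hab'
        (le_sup_right : _ ≤ Subgroup.zpowers (⟨v, hvH⟩ : H) ⊔ Subgroup.zpowers ⟨u, huH⟩) hQ ?_,
        hlr _ hQ (by rw [hmapQ]; exact le_sup_left), hmapQ]
      exact (centralizer_sup_central _ (zpowers_central fun x =>
        Subtype.ext (SecondMain.mem_centralizer_zpowers_iff.1 x.2).eq)).symm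
    obtain ⟨ν, hν, hνfix, hνinv⟩ := exists_retraction hM hmax hab
    have hufix := hνfix ⟨u, hu⟩ hfix
    have hfib := fibre_eq hM hmax hab hν (r := ⟨u, hu⟩) ⟨_, hufix⟩
    have hshift : ∑ v ∈ Finset.univ.filter (fun v : P => ν v = ⟨u, hu⟩),
          wt M P e v * (lrank p M P e (Subgroup.zpowers (v : G)) : ℂ) =
        ∑ v ∈ Finset.univ.filter (fun v : P => ν v = 1),
          wt M P e v * (lrank p M P e (Subgroup.zpowers (u * (v : G))) : ℂ) := by
      symm
      refine Finset.sum_equiv (Equiv.mulLeft (⟨u, hu⟩ : P)) (fun v => ?_) fun v _ => ?_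
      · simp only [Finset.mem_filter, Finset.mem_univ, true_and, Equiv.coe_mulLeft, map_mul, hufix]
        exact mul_eq_left.symm
      · simp only [Equiv.coe_mulLeft]
        rw [wt_mul_fixed hfix]
        rfl
    rw [hshift, ← sub_eq_zero, ← Finset.sum_sub_distrib] at hfib
    rw [Finset.sum_eq_single_of_mem (1 : P) (by simp)] at hfib
    · rw [wt_one, one_mul, one_mul, OneMemClass.coe_one, mul_one, sub_eq_zero, Nat.cast_inj] at hfib
      rw [hfib, lrank_one hM hmax]
    intro v hv hv1
    obtain ⟨-, hv0⟩ := Finset.mem_filter.1 hv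
    have hmoved : ∀ w : G, (∀ t ∈ pairStab M P e, t * w * t⁻¹ = w → t * (v : G) * t⁻¹ = v) →
        Subgroup.centralizer (Subgroup.zpowers w : Set G) ≠ ⊤ := by
      intro w hw h
      have hcw : ∀ t, t * w * t⁻¹ = w := fun t => by
        have ht : t ∈ Subgroup.centralizer (Subgroup.zpowers w : Set G) := h ▸ Subgroup.mem_top t
        rw [← (SecondMain.mem_centralizer_zpowers_iff.1 ht).eq, mul_inv_cancel_right]
      exact hv1 ((hνfix v fun t ht => hw t ht (hcw t)).symm.trans hv0)
    rw [step v v.2 (hmoved v fun t _ h => h), step (u * v) (mul_mem hu v.2) (hmoved _ fun t ht h => by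
        have h1 : t * u * t⁻¹ * (t * (v : G) * t⁻¹) = u * v := by rw [← h]; group
        rwa [hfix t ht, mul_right_inj] at h1), zpowers_sup_mul, sub_self]

/-- The rank of a block is the local rank at the elements fixed by the stabiliser. -/
theorem rank_eq_of_fixed (hM : IsPModular p M) (hmax : IsMaximalBrauerPair p M B P e)
    (hab : ∀ x ∈ P, ∀ y ∈ P, x * y = y * x) {u : G} (hu : u ∈ P)
    (hfix : ∀ t ∈ pairStab M P e, t * u * t⁻¹ = u) :
    lrank p M P e (Subgroup.zpowers u) = blockRank p B :=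
  rank_eq_of_fixed_aux hM _ rfl hmax hab hu hfix

/-- Watanabe's theorem. -/
theorem main (hM : IsPModular p M) (hmax : IsMaximalBrauerPair p M B P e)
    (hab : ∀ x ∈ P, ∀ y ∈ P, x * y = y * x) {Q : Subgroup G} {u : G}
    (hQ : Q = Subgroup.zpowers u) (hu : u ∈ P) (hfix : ∀ t ∈ pairStab M P e, t * u * t⁻¹ = u)
    {f : Set (IrrCharacter (Subgroup.centralizer (Q : Set G)))} (hf : IsPBlock M f)
    (hle : SubpairLE p M Q f P e) :
    blockRank p B = blockRank p f ∧ Nat.card B = Nat.card f := by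
  classical
  have hPe := hmax.1.1
  have hQP : Q ≤ P := hQ ▸ Subgroup.zpowers_le.2 hu
  refine ⟨by rw [← rank_eq_of_fixed hM hmax hab hu hfix, ← hQ, lrank_eq hM hPe hle], ?_⟩
  subst hQ
  set H := Subgroup.centralizer (Subgroup.zpowers u : Set G)
  obtain ⟨P', e', hmax', hmap, hst, hlr⟩ := exists_down hM hmax hab hQP hf hle
  have := Fintype.ofFinite P
  have := Fintype.ofFinite P'
  have hab' : ∀ x ∈ P', ∀ y ∈ P', x * y = y * x := fun x hx y hy => Subtype.ext
    (hab _ (hmap ▸ Subgroup.mem_map_of_mem _ hx) _ (hmap ▸ Subgroup.mem_map_of_mem _ hy))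
  have huH : u ∈ H := SecondMain.mem_centralizer_zpowers_iff.2 (Commute.refl u)
  let ι : P' ≃* P :=
    (Subgroup.equivMapOfInjective P' _ H.subtype_injective).trans (MulEquiv.subgroupCongr hmap)
  have hι : ∀ v : P', (ι v : G) = ((v : H) : G) := fun v => rfl
  have hTH : ∀ t ∈ pairStab M P e, t ∈ H := fun t ht =>
    SecondMain.mem_centralizer_zpowers_iff.2 (by
      show u * t = t * u
      conv_lhs => rw [← hfix t ht]
      group)
  have huP' : (⟨u, huH⟩ : H) ∈ P' := by
    rw [← hmap] at hu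
    obtain ⟨w, hw, h⟩ := hu
    exact (Subtype.ext (show (w : G) = u from h) : w = ⟨u, huH⟩) ▸ hw
  apply Nat.cast_injective (R := ℂ)
  rw [card_eq_sum hM hmax hab, card_eq_sum hM hmax' hab']
  symm
  refine Fintype.sum_equiv ι.toEquiv _ _ fun v => ?_
  have hw : wt M P' e' v = wt M P e (ι v) := by
    rw [wt, wt]
    congr 2
    refine Finset.card_bij (fun w _ => ι w) (fun w hw => ?_) (fun _ _ _ _ h => ι.injective h)
      fun w hw => ?_
    · obtain ⟨t, ht, hw⟩ := mem_orb.1 hw
      exact mem_orb.2 ⟨t, (hst t).1 ht, by rw [hι, hι, hw]; rfl⟩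
    · obtain ⟨t, ht, hw⟩ := mem_orb.1 hw
      refine ⟨ι.symm w, mem_orb.2 ⟨⟨t, hTH t ht⟩, (hst _).2 ht, ?_⟩, ι.apply_symm_apply w⟩
      refine Subtype.ext ?_
      rw [← hι, ι.apply_symm_apply, hw, hι]
      rfl
  rw [hw]
  congr 2
  show lrank p M P' e' (Subgroup.zpowers (v : H)) = lrank p M P e (Subgroup.zpowers (ι v : G))
  have hQ' : Subgroup.zpowers (v : H) ⊔ Subgroup.zpowers ⟨u, huH⟩ ≤ P' :=
    sup_le (Subgroup.zpowers_le.2 v.2) (Subgroup.zpowers_le.2 huP')
  have hmapQ : (Subgroup.zpowers (v : H) ⊔ Subgroup.zpowers ⟨u, huH⟩).map H.subtype =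
      Subgroup.zpowers (ι v : G) ⊔ Subgroup.zpowers u := by
    rw [Subgroup.map_sup, MonoidHom.map_zpowers, MonoidHom.map_zpowers, hι]
    rfl
  rw [lrank_congr hM hmax'.1.1 hab' le_sup_left hQ' ?_,
    hlr _ hQ' (by rw [hmapQ]; exact le_sup_right), hmapQ]
  · -- the rank at `v` does not change on adding the fixed element
    obtain ⟨g, hg, hgle⟩ := exists_subpair hM hPe (Q := Subgroup.zpowers (ι v : G))
      (Subgroup.zpowers_le.2 (ι v).2)
    set K := Subgroup.centralizer (Subgroup.zpowers (ι v : G) : Set G)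
    obtain ⟨P'', e'', hmax'', hmap'', hst'', hlr''⟩ :=
      exists_down hM hmax hab (Subgroup.zpowers_le.2 (ι v).2) hg hgle
    have hvK : (ι v : G) ∈ K := SecondMain.mem_centralizer_zpowers_iff.2 (Commute.refl _)
    have huK : u ∈ K := SecondMain.mem_centralizer_zpowers_iff.2 (hab _ (ι v).2 u hu)
    have hmemP : ∀ w : K, (w : G) ∈ P → w ∈ P'' := fun w hw => by
      rw [← hmap''] at hw
      obtain ⟨w', hw', h⟩ := hw
      exact Subtype.ext h ▸ hw'
    have hab'' : ∀ x ∈ P'', ∀ y ∈ P'', x * y = y * x := fun x hx y hy => Subtype.ext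
      (hab _ (hmap''.le (Subgroup.mem_map_of_mem _ hx)) _ (hmap''.le (Subgroup.mem_map_of_mem _ hy)))
    have h := rank_eq_of_fixed hM hmax'' hab'' (u := ⟨u, huK⟩) (hmemP _ hu) fun t ht =>
      Subtype.ext (hfix _ ((hst'' t).1 ht))
    have hQ'' : Subgroup.zpowers (⟨_, hvK⟩ : K) ⊔ Subgroup.zpowers ⟨u, huK⟩ ≤ P'' :=
      sup_le (Subgroup.zpowers_le.2 (hmemP _ (ι v).2)) (Subgroup.zpowers_le.2 (hmemP _ hu))
    have hmapQ'' : (Subgroup.zpowers (⟨_, hvK⟩ : K) ⊔ Subgroup.zpowers ⟨u, huK⟩).map K.subtype =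
        Subgroup.zpowers (ι v : G) ⊔ Subgroup.zpowers u := by
      rw [Subgroup.map_sup, MonoidHom.map_zpowers, MonoidHom.map_zpowers]
      rfl
    rw [lrank_eq hM hPe hgle, ← h, lrank_congr hM hmax''.1.1 hab''
      (le_sup_right : _ ≤ Subgroup.zpowers (⟨_, hvK⟩ : K) ⊔ Subgroup.zpowers ⟨u, huK⟩) hQ'' ?_,
      hlr'' _ hQ'' (by rw [hmapQ'']; exact le_sup_left), hmapQ'']
    exact (centralizer_sup_central _ (zpowers_central fun x =>
      Subtype.ext (SecondMain.mem_centralizer_zpowers_iff.1 x.2).eq)).symm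
  · rw [sup_comm]
    exact (centralizer_sup_central _ (zpowers_central fun x =>
      Subtype.ext (SecondMain.mem_centralizer_zpowers_iff.1 x.2).eq)).symm

end Cfsg.Agent.Watanabe
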